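import Groth.Agent.Rank2Red38.Conj
import Groth.Agent.BigCell29.Global
import Groth.Agent.BigCell29.SplitCell

/-! The normal form of a split reductive group, from the coordinates on its attracting subgroups. -/

set_option autoImplicit false
set_option synthInstance.maxHeartbeats 100000

universe u

open CategoryTheory CategoryTheory.Limits AlgebraicGeometry MonoidalCategory CartesianMonoidalCategory WithConv
open scoped MonObj AddMonoidAlgebra

noncomputable section

namespace Groth.Agent.Rank2Red38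

open GrpSchLib BigCell29

variable {S : Scheme.{u}} {G : Over S} [GrpObj G] (D : Red.SplitRed G)
  {R : Type u} [CommRing R] (f : Spec (CommRingCat.of R) ⟶ S) {B C : Type u} [CommRing B] [Algebra R B]
  [CommRing C] [Algebra R C]

/-- Restriction of a function on the base to an affine piece. -/
def resTo (c : Γ(S, ⊤)) : R := (Scheme.ΓSpecIso (CommRingCat.of R)).hom (f.appTop c)

theorem tVal_glob (c : Γ(S, ⊤)) : tVal f B (glob (tObj f B) c) = algebraMap R B (resTo f c) := by
  have h := congrArg (fun ψ => (ConcreteCategory.hom ψ) (f.appTop c))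
    (Scheme.ΓSpecIso_naturality (CommRingCat.ofHom (algebraMap R B)))
  refine Eq.trans ?_ h
  simp only [glob, Over.mk_hom, Scheme.Hom.comp_appTop]
  rfl

theorem U_tObj (c : D.idx) (z : Γ((tObj f B).left, ⊤)) : U D (tObj f B) c z = rtG D c (tVal f B z) := by
  rw [rtG, gaPt, RingEquiv.symm_apply_apply]
  rfl

theorem torG_eq (χ : Multiplicative D.M →* B) :
    torG (f := f) D χ = I D (tObj f B) (chPt f χ ≫ D.split.inv.hom.hom) := (Category.assoc _ _ _).symm

theorem rootVal_chPt (χ : Multiplicative D.M →* B) (c : D.idx) :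
    (rootVal D (tObj f B) c (chPt f χ ≫ D.split.inv.hom.hom) : Γ((tObj f B).left, ⊤)) =
      (tVal f B).symm (χ (Multiplicative.ofAdd (D.P.root c))) := by
  rw [rootVal_apply, Category.assoc,
    show D.split.inv.hom.hom ≫ D.split.hom.hom.hom = 𝟙 _ from congrArg (fun k => k.hom.hom) D.split.inv_hom_id,
    Category.comp_id, ← gmFn_chi, gmFn_chPt_chi]

theorem comp_rootProd {X X' : Over S} (g : X' ⟶ X) (l : List D.idx) (x : D.idx → Γ(X.left, ⊤)) :
    g ≫ rootProd D X l x = rootProd D X' l fun c => g.left.appTop (x c) := by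
  induction l with
  | nil => simp [rootProd, MonObj.comp_one]
  | cons c l ih => simp only [rootProd, List.map_cons, List.prod_cons, comp_mul', comp_U] at ih ⊢; rw [ih]

section Local

variable {f} [IsOpenImmersion f] {A : Type u} [CommRing A] [HopfAlgebra R A] (Md : Model f G A)

theorem pt_prodPt (L : List D.idx) (z : D.idx → Γ((tObj f B).left, ⊤)) :
    Md.pt ((Md.frame D).prodPt L.get fun j => tVal f B (z (L.get j))) = rootProd D (tObj f B) L z := by
  rw [Frame.prodPt, Md.pt_list_prod, List.map_ofFn, rootProd]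
  congr 1
  refine List.ext_getElem (by simp) fun i h h' => ?_
  simp only [List.getElem_ofFn, List.getElem_map, Function.comp_apply, Md.pt_rt, U_tObj, List.get_eq_getElem]

variable (lam : Module.Dual ℤ D.M)

/-- The list completed to all roots where the form is positive. -/
theorem exists_full (l : List D.idx) (hl : l.Nodup) (hp : ∀ c ∈ l, 0 < lam (D.P.root c)) :
    ∃ r : List D.idx, (l ++ r).Nodup ∧ (∀ c ∈ l ++ r, 0 < lam (D.P.root c)) ∧
      ∀ c, 0 < lam (D.P.root c) → c ∈ l ++ r := by
  classical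
  refine ⟨(Finset.univ.filter fun c => 0 < lam (D.P.root c) ∧ c ∉ l).toList,
    List.nodup_append.mpr ⟨hl, Finset.nodup_toList _, ?_⟩, ?_, fun c hc => ?_⟩
  · rintro a ha b hb rfl
    simp [ha] at hb
  · intro c hc
    rcases List.mem_append.mp hc with h | h
    · exact hp c h
    · simp at h; exact h.1
  · by_cases h : c ∈ l
    · exact List.mem_append_left _ h
    · exact List.mem_append_right _ (by simp [hc, h])

include Md in
theorem inj_local (l : List D.idx) (hl : l.Nodup) (hp : ∀ c ∈ l, 0 < lam (D.P.root c))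
    (x y : D.idx → Γ((tObj f B).left, ⊤)) (h : rootProd D (tObj f B) l x = rootProd D (tObj f B) l y) :
    ∀ c ∈ l, x c = y c := by
  classical
  obtain ⟨r, hd, hpos, hfull⟩ := exists_full D lam l hl hp
  set L := l ++ r
  set F := Md.frame D
  let ext' : (D.idx → Γ((tObj f B).left, ⊤)) → D.idx → Γ((tObj f B).left, ⊤) := fun z c => if c ∈ l then z c else 0
  have key : ∀ z, rootProd D (tObj f B) L (ext' z) = rootProd D (tObj f B) l z := fun z => by
    simp only [L, rootProd, List.map_append, List.prod_append]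
    rw [show (r.map fun c => U D (tObj f B) c (ext' z c)).prod = 1 from List.prod_eq_one fun w hw => by
      obtain ⟨c, hc, rfl⟩ := List.mem_map.mp hw
      have : c ∉ l := fun h => (List.nodup_append.mp hd).2.2 c h c hc rfl
      simp [ext', this, (U_oneParam D c).zero], mul_one]
    congr 1
    exact List.map_congr_left fun c hc => by simp [ext', hc]
  have he : ∀ j, 0 < lam.toAddMonoidHom (F.root (L.get j)) := fun j => hpos _ (List.get_mem L j)
  have hu := F.exists_coords (e := L.get) (lam := lam.toAddMonoidHom) he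
    (List.nodup_iff_injective_get.mp hd) (fun i hi => List.mem_iff_get.mp (hfull i hi))
    (F.prodPt_inU _ _ he fun j => tVal f B (ext' x (L.get j)))
  obtain ⟨z, -, hz⟩ := hu
  have h1 := hz (fun j => tVal f B (ext' x (L.get j))) rfl
  have h2 := hz (fun j => tVal f B (ext' y (L.get j))) (Md.pt_bijective.injective (by
    rw [pt_prodPt, pt_prodPt, key, key, h]))
  intro c hc
  obtain ⟨j, rfl⟩ := List.mem_iff_get.mp (List.mem_append_left r hc)
  have h3 := (tVal f B).injective (congrFun (h1.trans h2.symm) j)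
  simp only [ext', L] at h3
  rwa [if_pos hc, if_pos hc] at h3

variable {n : ℕ} (w : Fin n → D.idx) (F : ∀ X : Over S, (Fin n → Γ(X.left, ⊤)) → (X ⟶ G))

include Md in
/-- The coordinates of a weighted family over an affine piece, as weighted polynomials. -/
theorem coord_poly (hw : ∀ k, 0 < lam (D.P.root (w k))) (hF : IsWeighted D w F) (L : List D.idx) (hd : L.Nodup)
    (hpos : ∀ c ∈ L, 0 < lam (D.P.root c)) (hfull : ∀ c, 0 < lam (D.P.root c) → c ∈ L) :
    ∃ p : Fin L.length → MvPolynomial (Fin n) R,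
      (∀ j, ∀ m ∈ (p j).support, ∑ k, m k • D.P.root (w k) = D.P.root (L.get j)) ∧
      ∀ (B : Type u) [CommRing B] [Algebra R B] (x : Fin n → Γ((tObj f B).left, ⊤)), F (tObj f B) x =
        Md.pt ((Md.frame D).prodPt L.get fun j => MvPolynomial.aeval (fun k => tVal f B (x k)) (p j)) := by
  classical
  set Fr := Md.frame D
  set g : Pt R A (MvPolynomial (Fin n) R) := Md.ofPt (F (tObj f (MvPolynomial (Fin n) R)) fun k => (tVal f (MvPolynomial (Fin n) R)).symm (MvPolynomial.X k)) with hg
  have hgen : ∀ (B : Type u) [CommRing B] [Algebra R B] (φ : (MvPolynomial (Fin n) R) →ₐ[R] B), Md.pt (mapPt φ g) =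
      F (tObj f B) fun k => (tVal f B).symm (φ (MvPolynomial.X k)) := fun B _ _ φ => by
    rw [Md.pt_map, hg, Md.pt_ofPt, hF.nat]
    congr 1
    funext k
    apply (tVal f B).injective
    rw [tVal_map, RingEquiv.apply_symm_apply, RingEquiv.apply_symm_apply]
  let θ : (MvPolynomial (Fin n) R) →ₐ[R] (MvPolynomial (Fin n) R)[D.M] :=
    MvPolynomial.aeval fun k => AddMonoidAlgebra.single (D.P.root (w k)) (MvPolynomial.X k)
  let s0 := AddMonoidAlgebra.singleZeroAlgHom (R := R) (A := (MvPolynomial (Fin n) R)) (M := D.M)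
  have hact : Fr.T.coact.act g = mapPt θ g := by
    apply Md.pt_bijective.injective
    rw [Fr.T.act_eq, Md.pt_mul, Md.pt_mul, Md.pt_inv, Md.pt_tor, torG_eq, hgen, hgen, hF.equiv]
    congr 1
    funext k
    rw [rootVal_chPt, ← map_mul]
    congr 1
    simp [θ, s0, MvPolynomial.aeval_X, AddMonoidAlgebra.single_mul_single]
  set lz := lam.toAddMonoidHom
  have hU : (Fr.cochar lz).InU g := by
    rw [← Coact.isPos_act_iff]
    let θp : (MvPolynomial (Fin n) R) →ₐ[R] nonneg R (MvPolynomial (Fin n) R) := MvPolynomial.aeval fun k =>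
      ⟨AddMonoidAlgebra.single (lz (D.P.root (w k))) (MvPolynomial.X k), fun m hm => by
        rw [AddMonoidAlgebra.coeff_single, Finsupp.single_apply, if_neg (by
          have := hw k; simp only [lz, LinearMap.toAddMonoidHom_coe]; omega)]⟩
    refine ⟨mapPt θp g, ?_, ?_⟩
    · rw [mapPt_mapPt]
      apply Md.pt_bijective.injective
      rw [hgen, Md.pt_one, ← hF.zero]
      congr 1
      funext k
      simp only [AlgHom.comp_apply, θp, MvPolynomial.aeval_X, ev0_apply, AddMonoidAlgebra.coeff_single,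
        Finsupp.single_apply, if_neg (hw k).ne', LinearMap.toAddMonoidHom_coe, lz, map_zero, Pi.zero_apply]
    · rw [mapPt_mapPt, Coact.act_push, hact, mapPt_mapPt]
      congr 2
      refine MvPolynomial.algHom_ext fun k => ?_
      simp [θp, θ, lz]
  have he : ∀ j, 0 < lz (Fr.root (L.get j)) := fun j => hpos _ (List.get_mem L j)
  obtain ⟨p, hp', -⟩ := Fr.exists_coords (e := L.get) he (List.nodup_iff_injective_get.mp hd)
    (fun i hi => List.mem_iff_get.mp (hfull i hi)) hU
  have hhom : ∀ j, θ (p j) = AddMonoidAlgebra.single (D.P.root (L.get j)) (p j) := by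
    have h1 : mapPt θ g = Fr.prodPt L.get (θ ∘ p) := by rw [← hp', Fr.mapPt_prodPt]
    have h2 : mapPt θ g = Fr.prodPt L.get fun j => AddMonoidAlgebra.single (D.P.root (L.get j)) (p j) := by
      rw [← hact, ← hp', Frame.prodPt, Frame.prodPt, map_list_prod, List.map_ofFn]
      simp [Function.comp_def, Fr.act_rt]
      rfl
    obtain ⟨z, -, hz⟩ := Fr.exists_coords (e := L.get) he (List.nodup_iff_injective_get.mp hd)
      (fun i hi => List.mem_iff_get.mp (hfull i hi)) (Fr.prodPt_inU lz L.get he (θ ∘ p))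
    exact fun j => congrFun ((hz (θ ∘ p) rfl).trans (hz _ (h2.symm.trans h1)).symm) j
  let wt : (Fin n →₀ ℕ) → D.M := fun m => ∑ k, m k • D.P.root (w k)
  have hθ : ∀ (m : Fin n →₀ ℕ) (r : R), θ (MvPolynomial.monomial m r) =
      AddMonoidAlgebra.single (wt m) (MvPolynomial.monomial m r) := by
    intro m r
    induction m using Finsupp.induction generalizing r with
    | zero => simp [θ, wt]
    | single_add a b m ha hb ih =>
      rw [MvPolynomial.monomial_single_add, map_mul, map_pow, ih]
      simp only [θ, MvPolynomial.aeval_X, AddMonoidAlgebra.single_pow, AddMonoidAlgebra.single_mul_single]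
      congr 1
      simp [wt, add_smul, Finset.sum_add_distrib, Finsupp.single_apply]
  have hsupp : ∀ j, ∀ m ∈ (p j).support, wt m = D.P.root (L.get j) := by
    intro j m hm
    by_contra hne
    have h1 := congrArg (fun z : (MvPolynomial (Fin n) R)[D.M] => MvPolynomial.coeff m (z.coeff (wt m))) (hhom j)
    rw [show θ (p j) = ∑ m' ∈ (p j).support,
        AddMonoidAlgebra.single (wt m') (MvPolynomial.monomial m' (MvPolynomial.coeff m' (p j))) by
      conv_lhs => rw [(p j).as_sum]
      rw [map_sum]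
      exact Finset.sum_congr rfl fun m' _ => hθ _ _] at h1
    simp only [AddMonoidAlgebra.coeff_sum, Finsupp.finsetSum_apply, MvPolynomial.coeff_sum,
      AddMonoidAlgebra.coeff_single, Finsupp.single_apply] at h1
    rw [Finset.sum_eq_single m (fun m' _ hm' => by split_ifs <;> simp [MvPolynomial.coeff_monomial, hm'])
      (fun h => absurd hm h), if_pos rfl, MvPolynomial.coeff_monomial, if_pos rfl, if_neg (Ne.symm hne)] at h1
    exact MvPolynomial.mem_support_iff.mp hm (by simpa using h1)
  refine ⟨p, hsupp, fun B _ _ x => ?_⟩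
  have h1 := hgen B (MvPolynomial.aeval fun k => tVal f B (x k))
  simp only [MvPolynomial.aeval_X, RingEquiv.symm_apply_apply] at h1
  rw [← h1, ← hp', Fr.mapPt_prodPt]
  rfl

include Md in
theorem coord_local (hw : ∀ k, 0 < lam (D.P.root (w k))) (hF : IsWeighted D w F) (l : List D.idx) (hl : l.Nodup)
    (hp : ∀ c ∈ l, 0 < lam (D.P.root c)) (e : D.idx → Fin n → ℕ)
    (hcomp : ∀ (d : D.idx) (m : Fin n → ℕ), D.P.root d = ∑ k, m k • D.P.root (w k) → d ∈ l ∧ m = e d) :
    ∃ c₀ : D.idx → R, ∀ (B : Type u) [CommRing B] [Algebra R B] (x : Fin n → Γ((tObj f B).left, ⊤)),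
      F (tObj f B) x =
        rootProd D (tObj f B) l fun d => (tVal f B).symm (algebraMap R B (c₀ d)) * ∏ k, x k ^ e d k := by
  classical
  obtain ⟨r, hd, hpos, hfull⟩ := exists_full D lam l hl hp
  set L := l ++ r
  obtain ⟨p, hsupp, hp'⟩ := coord_poly D Md lam w F hw hF L hd hpos hfull
  let ev : D.idx → Fin n →₀ ℕ := fun d => Finsupp.equivFunOnFinite.symm (e d)
  have hp2 : ∀ j, p j = MvPolynomial.monomial (ev (L.get j)) (MvPolynomial.coeff (ev (L.get j)) (p j)) := by
    intro j
    conv_lhs => rw [(p j).as_sum]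
    refine Finset.sum_eq_single (ev (L.get j)) (fun m hm hne => absurd ?_ hne) (fun h => ?_)
    · exact Finsupp.ext fun k => congrFun (hcomp (L.get j) m (hsupp j m hm).symm).2 k
    · rw [MvPolynomial.notMem_support_iff.mp h, map_zero]
  have hout : ∀ j, L.get j ∉ l → p j = 0 := fun j hj => by
    rw [← MvPolynomial.support_eq_empty]
    exact Finset.eq_empty_of_forall_notMem fun m hm => hj (hcomp _ m (hsupp j m hm).symm).1
  let c₀ : D.idx → R := fun d => if h : ∃ j, L.get j = d then MvPolynomial.coeff (ev d) (p h.choose) else 0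
  have hc : ∀ j, c₀ (L.get j) = MvPolynomial.coeff (ev (L.get j)) (p j) := fun j => by
    have h : ∃ j', L.get j' = L.get j := ⟨j, rfl⟩
    simp only [c₀, dif_pos h]
    rw [List.nodup_iff_injective_get.mp hd h.choose_spec]
  refine ⟨c₀, fun B _ _ x => ?_⟩
  rw [hp' B x]
  let z : D.idx → Γ((tObj f B).left, ⊤) := fun d =>
    if d ∈ l then (tVal f B).symm (algebraMap R B (c₀ d)) * ∏ k, x k ^ e d k else 0
  have h2 : (fun j => MvPolynomial.aeval (fun k => tVal f B (x k)) (p j)) = fun j => tVal f B (z (L.get j)) := by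
    funext j
    by_cases hj : L.get j ∈ l
    · simp only [z, if_pos hj, map_mul, map_prod, map_pow, RingEquiv.apply_symm_apply, hc]
      rw [hp2 j, MvPolynomial.aeval_monomial, Finsupp.prod_fintype _ _ (fun _ => pow_zero _),
        MvPolynomial.coeff_monomial, if_pos rfl]
      rfl
    · rw [hout j hj, map_zero]
      simp only [z]
      rw [if_neg hj, map_zero]
  rw [h2, pt_prodPt]
  simp only [L, rootProd, List.map_append, List.prod_append]
  rw [show (r.map fun c => U D (tObj f B) c (z c)).prod = 1 from List.prod_eq_one fun v hv => by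
    obtain ⟨c, hc', rfl⟩ := List.mem_map.mp hv
    have : c ∉ l := fun h => (List.nodup_append.mp hd).2.2 c h c hc' rfl
    simp [z, this, (U_oneParam D c).zero], mul_one]
  congr 1
  exact List.map_congr_left fun c hc' => by simp [z, hc']

include Md in
theorem trivial_local {w₁ : Fin 2 → D.idx} (F₁ : ∀ X : Over S, (Fin 2 → Γ(X.left, ⊤)) → (X ⟶ G))
    (hw : ∀ k, 0 < lam (D.P.root (w₁ k))) (hF : IsWeighted D w₁ F₁)
    (hno : ∀ (d : D.idx) (i j : ℕ), 0 < i → 0 < j → D.P.root d ≠ i • D.P.root (w₁ 0) + j • D.P.root (w₁ 1))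
    (hx : ∀ (X : Over S) (x : Γ(X.left, ⊤)), F₁ X ![x, 0] = 1 ∧ F₁ X ![0, x] = 1)
    (x : Fin 2 → Γ((tObj f B).left, ⊤)) : F₁ (tObj f B) x = 1 := by
  classical
  obtain ⟨r, hd, hpos, hfull⟩ := exists_full D lam [] List.nodup_nil (by simp)
  simp only [List.nil_append] at hd hpos hfull
  obtain ⟨p, hsupp, hp⟩ := coord_poly D Md lam w₁ F₁ hw hF r hd hpos hfull
  set Fr := Md.frame D
  have he : ∀ j, 0 < lam.toAddMonoidHom (Fr.root (r.get j)) := fun j => hpos _ (List.get_mem r j)
  have hzero : ∀ y : Fin 2 → (MvPolynomial (Fin 2) R), F₁ (tObj f (MvPolynomial (Fin 2) R)) (fun k => (tVal f (MvPolynomial (Fin 2) R)).symm (y k)) = 1 →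
      ∀ j, MvPolynomial.aeval y (p j) = 0 := by
    intro y hy j
    rw [hp] at hy
    simp only [RingEquiv.apply_symm_apply] at hy
    obtain ⟨z, -, hz⟩ := Fr.exists_coords (e := r.get) he (List.nodup_iff_injective_get.mp hd)
      (fun i hi => List.mem_iff_get.mp (hfull i hi)) (Coact.inU_one (Fr.cochar lam.toAddMonoidHom) (B := (MvPolynomial (Fin 2) R)))
    have e1 := hz (fun j => MvPolynomial.aeval y (p j)) (Md.pt_bijective.injective (hy.trans Md.pt_one.symm))
    have e2 := hz (fun _ => (0 : (MvPolynomial (Fin 2) R))) (by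
      show Fr.prodPt r.get (fun _ => (0 : (MvPolynomial (Fin 2) R))) = 1
      rw [Frame.prodPt]
      exact List.prod_eq_one fun v hv => by
        obtain ⟨i, rfl⟩ := List.mem_ofFn.mp hv; exact Fr.rt_zero _)
    exact congrFun (e1.trans e2.symm) j
  have q0 : ∀ j, MvPolynomial.aeval (![MvPolynomial.X 0, 0] : Fin 2 → (MvPolynomial (Fin 2) R)) (p j) = 0 := hzero _ (by
    rw [← (hx (tObj f (MvPolynomial (Fin 2) R)) ((tVal f (MvPolynomial (Fin 2) R)).symm (MvPolynomial.X 0))).1]
    congr 1; funext k; fin_cases k <;> simp)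
  have q1 : ∀ j, MvPolynomial.aeval (![0, MvPolynomial.X 1] : Fin 2 → (MvPolynomial (Fin 2) R)) (p j) = 0 := hzero _ (by
    rw [← (hx (tObj f (MvPolynomial (Fin 2) R)) ((tVal f (MvPolynomial (Fin 2) R)).symm (MvPolynomial.X 1))).2]
    congr 1; funext k; fin_cases k <;> simp)
  have hp0 : ∀ j, p j = 0 := by
    intro j
    ext m
    rw [MvPolynomial.coeff_zero]
    by_contra hne
    have hw' := hsupp j m (MvPolynomial.mem_support_iff.mpr hne)
    rw [Fin.sum_univ_two] at hw'
    rcases Nat.eq_zero_or_pos (m 0) with h0 | h0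
    · refine hne ?_
      have := congrArg (MvPolynomial.coeff m) (q1 j)
      rw [MvPolynomial.coeff_zero] at this
      rw [← this, (p j).as_sum, map_sum, MvPolynomial.coeff_sum, MvPolynomial.coeff_sum]
      refine Finset.sum_congr rfl fun m' _ => ?_
      rw [MvPolynomial.coeff_monomial, MvPolynomial.aeval_monomial, Finsupp.prod_fintype _ _ (fun _ => pow_zero _),
        Fin.prod_univ_two]
      rcases Nat.eq_zero_or_pos (m' 0) with h | h
      · have e : m' = Finsupp.single 1 (m' 1) := by ext k; fin_cases k <;> simp [h]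
        simp only [Matrix.cons_val_zero, Matrix.cons_val_one, h, pow_zero, one_mul, MvPolynomial.algebraMap_eq,
          MvPolynomial.X_pow_eq_monomial, MvPolynomial.C_mul_monomial, mul_one, MvPolynomial.coeff_monomial, ← e]
      · rw [Matrix.cons_val_zero, zero_pow h.ne', zero_mul, mul_zero, MvPolynomial.coeff_zero, if_neg]
        rintro rfl; omega
    rcases Nat.eq_zero_or_pos (m 1) with h1 | h1
    · refine hne ?_
      have := congrArg (MvPolynomial.coeff m) (q0 j)
      rw [MvPolynomial.coeff_zero] at this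
      rw [← this, (p j).as_sum, map_sum, MvPolynomial.coeff_sum, MvPolynomial.coeff_sum]
      refine Finset.sum_congr rfl fun m' _ => ?_
      rw [MvPolynomial.coeff_monomial, MvPolynomial.aeval_monomial, Finsupp.prod_fintype _ _ (fun _ => pow_zero _),
        Fin.prod_univ_two]
      rcases Nat.eq_zero_or_pos (m' 1) with h | h
      · have e : m' = Finsupp.single 0 (m' 0) := by ext k; fin_cases k <;> simp [h]
        simp only [Matrix.cons_val_zero, Matrix.cons_val_one, h, pow_zero, mul_one, MvPolynomial.algebraMap_eq,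
          MvPolynomial.X_pow_eq_monomial, MvPolynomial.C_mul_monomial, MvPolynomial.coeff_monomial, ← e]
      · simp only [Matrix.cons_val_one, Matrix.cons_val_zero, Matrix.cons_val_fin_one]
        rw [zero_pow h.ne', mul_zero, mul_zero, MvPolynomial.coeff_zero, if_neg]
        rintro rfl; omega
    exact hno _ (m 0) (m 1) h0 h1 hw'.symm
  rw [hp, Frame.prodPt, ← Md.pt_one]
  congr 1
  exact List.prod_eq_one fun v hv => by
    obtain ⟨i, rfl⟩ := List.mem_ofFn.mp hv
    rw [hp0, map_zero, Fr.rt_zero]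

end Local

theorem inj_global (lam : Module.Dual ℤ D.M) (l : List D.idx) (hl : l.Nodup)
    (hp : ∀ c ∈ l, 0 < lam (D.P.root c)) (X : Over S) (x y : D.idx → Γ(X.left, ⊤))
    (h : rootProd D X l x = rootProd D X l y) : ∀ c ∈ l, x c = y c := by
  intro c hc
  have : IsAffineHom G.hom := D.reductive.1
  have h' : (GaPts.ptOfFn (x c) : X ⟶ Red.Ga S) = GaPts.ptOfFn (y c) := ext_tObj fun R _ g _ B _ _ j => by
    obtain ⟨A, _, _, ⟨Md⟩⟩ := exists_model g G
    rw [RankOne.map_gaFn_ptOfFn, RankOne.map_gaFn_ptOfFn]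
    congr 1
    exact inj_local D Md lam l hl hp (fun c => j.left.appTop (x c)) (fun c => j.left.appTop (y c))
      (by rw [← comp_rootProd D j l x, ← comp_rootProd D j l y, h]) c hc
  simpa [GaPts.gaFn_ptOfFn] using congrArg Red.gaFn h'

theorem coord_global (lam : Module.Dual ℤ D.M) {n : ℕ} (w : Fin n → D.idx)
    (F : ∀ X : Over S, (Fin n → Γ(X.left, ⊤)) → (X ⟶ G)) (hw : ∀ k, 0 < lam (D.P.root (w k)))
    (hF : IsWeighted D w F) (l : List D.idx) (hl : l.Nodup)
    (hp : ∀ c ∈ l, 0 < lam (D.P.root c)) (e : D.idx → Fin n → ℕ)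
    (hcomp : ∀ (d : D.idx) (m : Fin n → ℕ), D.P.root d = ∑ k, m k • D.P.root (w k) → d ∈ l ∧ m = e d) :
    ∃ C : D.idx → Γ(S, ⊤), ∀ (X : Over S) (x : Fin n → Γ(X.left, ⊤)),
      F X x = rootProd D X l fun d => glob X (C d) * ∏ k, x k ^ e d k := by
  classical
  have : IsAffineHom G.hom := D.reductive.1
  let X₁ : ∀ i : S.affineCover.I₀, Over S := fun i => Over.mk (S.affineCover.f i)
  have hloc : ∀ i, ∃ c : D.idx → Γ((X₁ i).left, ⊤), F (X₁ i) (fun _ => 1) = rootProd D (X₁ i) l c := fun i => by
    obtain ⟨R, hR⟩ : ∃ R : CommRingCat.{u}, S.affineCover.X i = Spec R := ⟨_, rfl⟩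
    let g : Spec R ⟶ S := eqToHom hR.symm ≫ S.affineCover.f i
    obtain ⟨A, _, _, ⟨Md⟩⟩ := exists_model (R := (R : Type u)) g G
    obtain ⟨c₀, hc₀⟩ := coord_local D Md lam w F hw hF l hl hp e hcomp
    let j : X₁ i ⟶ tObj g R := Over.homMk (eqToHom hR) (by
      show eqToHom hR ≫ Spec.map (CommRingCat.ofHom (RingHom.id R)) ≫ g = _
      rw [show Spec.map (CommRingCat.ofHom (RingHom.id (R : Type u))) = 𝟙 _ from Spec.map_id _]
      erw [Category.id_comp, eqToHom_trans_assoc, eqToHom_refl, Category.id_comp]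
      rfl)
    refine ⟨fun d => j.left.appTop ((tVal g R).symm (algebraMap R R (c₀ d)) * ∏ _k : Fin n, (1 : Γ((tObj g R).left, ⊤)) ^ e d _k), ?_⟩
    rw [← comp_rootProd, ← hc₀, hF.nat]
    simp
  choose c hc using hloc
  have hcompat : ∀ d ∈ l, ∀ i i', pullback.fst (S.affineCover.f i) (S.affineCover.f i') ≫
      (GaPts.ptOfFn (c i d) : X₁ i ⟶ Red.Ga S).left =
      pullback.snd _ _ ≫ (GaPts.ptOfFn (c i' d) : X₁ i' ⟶ Red.Ga S).left := fun d hd i i' => by
    let W : Over S := Over.mk (pullback.fst (S.affineCover.f i) (S.affineCover.f i') ≫ S.affineCover.f i)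
    let a : W ⟶ X₁ i := Over.homMk (pullback.fst _ _) rfl
    let b : W ⟶ X₁ i' := Over.homMk (pullback.snd _ _) pullback.condition.symm
    have e1 := congrArg (a ≫ ·) (hc i)
    have e2 := congrArg (b ≫ ·) (hc i')
    simp only [hF.nat, comp_rootProd, map_one] at e1 e2
    have := inj_global D lam l hl hp W _ _ (e1.symm.trans e2) d hd
    have h3 := congrArg CommaMorphism.left ((RankOne.map_gaFn_ptOfFn a (c i d)).trans
      ((congrArg GaPts.ptOfFn this).trans (RankOne.map_gaFn_ptOfFn b (c i' d)).symm))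
    exact h3
  have hC : ∀ d, ∃ C : Γ(S, ⊤), d ∈ l → ∀ i, glob (X₁ i) C = c i d := fun d => by
    by_cases hd : d ∈ l
    swap
    · exact ⟨0, fun h => absurd h hd⟩
    let φ : S ⟶ (Red.Ga S).left := S.affineCover.glueMorphisms _ (hcompat d hd)
    let p : 𝟙_ (Over S) ⟶ Red.Ga S := Over.homMk φ (S.affineCover.hom_ext _ _ fun i => by
      rw [Scheme.Cover.ι_glueMorphisms_assoc]
      exact (Over.w _).trans (Category.comp_id _).symm)
    refine ⟨Red.gaFn p, fun _ i => ?_⟩
    have h : toUnit (X₁ i) ≫ p = GaPts.ptOfFn (c i d) := Over.OverMorphism.ext (by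
      show S.affineCover.f i ≫ φ = _
      exact Scheme.Cover.ι_glueMorphisms _ _ _ i)
    rw [← GaPts.gaFn_ptOfFn (c i d), ← h, GaPts.gaFn_comp]
    rfl
  choose C hC using hC
  refine ⟨C, fun X x => ext_tObj fun R _ g _ B _ _ j => ?_⟩
  rw [hF.nat, comp_rootProd]
  simp only [map_mul, map_prod, map_pow, map_glob]
  obtain ⟨A, _, _, ⟨Md⟩⟩ := exists_model g G
  obtain ⟨c₀, hc₀⟩ := coord_local D Md lam w F hw hF l hl hp e hcomp
  rw [hc₀]
  have hone : F (𝟙_ (Over S)) (fun _ => 1) = rootProd D (𝟙_ (Over S)) l C :=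
    Over.OverMorphism.ext (S.affineCover.hom_ext _ _ fun i => by
      have h := hc i
      rw [show c i = c i from rfl] at h
      have h1 : toUnit (X₁ i) ≫ F (𝟙_ (Over S)) (fun _ => 1) = toUnit (X₁ i) ≫ rootProd D (𝟙_ (Over S)) l C := by
        rw [hF.nat, comp_rootProd]
        simp only [map_one]
        rw [h, rootProd, rootProd]
        congr 1
        exact List.map_congr_left fun d hd => by rw [← hC d hd i]; rfl
      exact congrArg CommaMorphism.left h1)
  have h1 := congrArg (toUnit (tObj g R) ≫ ·) hone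
  simp only [hF.nat, comp_rootProd, map_one] at h1
  rw [hc₀] at h1
  have h2 := inj_global D lam l hl hp _ _ _ h1
  rw [rootProd, rootProd]
  congr 1
  refine List.map_congr_left fun d hd => ?_
  have h3 := congrArg (tVal g R) (h2 d hd)
  simp only [one_pow, Finset.prod_const_one, mul_one, RingEquiv.apply_symm_apply] at h3
  rw [show (tVal g B).symm (algebraMap R B (c₀ d)) = glob (tObj g B) (C d) by
    rw [RingEquiv.symm_apply_eq, tVal_glob]
    congr 1
    rw [show (toUnit (tObj g R)).left.appTop (C d) = glob (tObj g R) (C d) from rfl, tVal_glob] at h3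
    exact h3]

/-- A two-variable weighted family trivial on both axes, with no root among the mixed weights, is trivial. -/
theorem eq_one_of_no_mixed_root (lam : Module.Dual ℤ D.M) {w : Fin 2 → D.idx}
    (F : ∀ X : Over S, (Fin 2 → Γ(X.left, ⊤)) → (X ⟶ G)) (hw : ∀ k, 0 < lam (D.P.root (w k)))
    (hF : IsWeighted D w F)
    (hno : ∀ (d : D.idx) (i j : ℕ), 0 < i → 0 < j → D.P.root d ≠ i • D.P.root (w 0) + j • D.P.root (w 1))
    (hx : ∀ (X : Over S) (x : Γ(X.left, ⊤)), F X ![x, 0] = 1 ∧ F X ![0, x] = 1)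
    (X : Over S) (x : Fin 2 → Γ(X.left, ⊤)) : F X x = 1 := by
  have : IsAffineHom G.hom := D.reductive.1
  refine ext_tObj fun R _ g _ B _ _ j => ?_
  obtain ⟨A, _, _, ⟨Md⟩⟩ := exists_model g G
  rw [hF.nat, MonObj.comp_one, trivial_local D Md lam F hw hF hno hx]

/-- Split reductive groups have normal forms. -/
theorem hasNormalForm : HasNormalForm D where
  inj lam _ l hl hp X x y h := inj_global D lam l hl hp X x y h
  exists_coord lam _ _ w hw F hF l hl hp e hc := coord_global D lam w F hw hF l hl hp e hc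

end Groth.Agent.Rank2Red38
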