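import Groth.Prelude.Def_Red2
import Groth.Prelude.Def_GmPts

/-! Values of the characters at the points of a split torus `D_S(M)`. -/

set_option autoImplicit false

universe u

open CategoryTheory CategoryTheory.Limits MonoidalCategory CartesianMonoidalCategory MonObj AlgebraicGeometry Opposite

noncomputable section

namespace Groth.Agent.Rank2Red38

attribute [-instance] ULift.module ULift.module'

variable {S : Scheme.{u}} {X X' : Over S} {M N : Type} [AddCommGroup M] [AddCommGroup N]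

/-- The coordinate ring of `D(M)` over `ℤ`. -/
abbrev DCoord (M : Type) [AddCommGroup M] : Type u := MonoidAlgebra (ULift.{u} ℤ) (Multiplicative M)

/-- The monomial of `m`. -/
abbrev mono (m : M) : DCoord.{u} M := MonoidAlgebra.single (Multiplicative.ofAdd m) 1

theorem dCoord_ringHom_ext {R : Type u} [CommRing R] {f g : DCoord.{u} M →+* R}
    (h : ∀ m, f (mono m) = g (mono m)) : f = g := by
  refine MonoidAlgebra.ringHom_ext (fun r => ?_) (fun m => h m.toAdd)
  have : MonoidAlgebra.single (1 : Multiplicative M) r = ((r.down : ℤ) : DCoord.{u} M) := by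
    rcases r with ⟨r⟩
    change MonoidAlgebra.single 1 (ULift.up r) = _
    rw [MonoidAlgebra.intCast_def]
    rfl
  rw [this, map_intCast, map_intCast]

/-- The component of a point in the spectrum of the coordinate ring. -/
abbrev dsPt (t : X ⟶ Red.DS S M) : X.left ⟶ Spec (CommRingCat.of (DCoord.{u} M)) :=
  t.left ≫ pullback.fst (Red.diag (ULift.{u} ℤ) M).hom (GmPts.toBaseZ S)

/-- The ring map of a point. -/
def dsHom (t : X ⟶ Red.DS S M) : DCoord.{u} M →+* Γ(X.left, ⊤) :=
  ((Scheme.ΓSpecIso (CommRingCat.of (DCoord.{u} M))).inv ≫ (dsPt t).appTop).hom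

/-- The value of the character `m` at a point. -/
def dsVal (t : X ⟶ Red.DS S M) (m : M) : Γ(X.left, ⊤) := dsHom t (mono m)

theorem dsVal_add (t : X ⟶ Red.DS S M) (m n : M) : dsVal t (m + n) = dsVal t m * dsVal t n := by
  rw [dsVal, dsVal, dsVal, ← map_mul, MonoidAlgebra.single_mul_single, _root_.mul_one]; rfl

theorem dsVal_zero (t : X ⟶ Red.DS S M) : dsVal t 0 = 1 := by
  rw [dsVal, show mono (0 : M) = (1 : DCoord.{u} M) from rfl, map_one]

theorem dsVal_comp (g : X' ⟶ X) (t : X ⟶ Red.DS S M) (m : M) :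
    dsVal (g ≫ t) m = g.left.appTop (dsVal t m) := by
  have h : dsPt (g ≫ t) = g.left ≫ dsPt t := Category.assoc _ _ _
  rw [dsVal, dsHom, h, Scheme.Hom.comp_appTop]
  rfl

theorem DSmap_left_fst (φ : N →+ M) :
    (Red.DSmap S φ).left ≫ pullback.fst (Red.diag (ULift.{u} ℤ) N).hom (GmPts.toBaseZ S) =
      pullback.fst (Red.diag (ULift.{u} ℤ) M).hom (GmPts.toBaseZ S) ≫ (Red.diagMap (ULift.{u} ℤ) φ).left := by
  dsimp only [Red.DSmap, Over.pullback]
  exact pullback.lift_fst _ _ _

theorem dsVal_map (φ : N →+ M) (t : X ⟶ Red.DS S M) (n : N) :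
    dsVal (t ≫ Red.DSmap S φ) n = dsVal t (φ n) := by
  have h : dsPt (t ≫ Red.DSmap S φ) = dsPt t ≫ Spec.map (CommRingCat.ofHom
      (MonoidAlgebra.mapDomainAlgHom (ULift.{u} ℤ) (ULift.{u} ℤ) (AddMonoidHom.toMultiplicative φ)).toRingHom) := by
    refine (Category.assoc t.left (Red.DSmap S φ).left _).trans ?_
    refine Eq.trans (congrArg (t.left ≫ ·) (DSmap_left_fst φ)) ?_
    exact (Category.assoc _ _ _).symm
  rw [dsVal, dsHom, h, Scheme.Hom.comp_appTop]
  show (dsPt t).appTop ((Spec.map _).appTop ((Scheme.ΓSpecIso (CommRingCat.of (DCoord.{u} N))).inv (mono n))) = _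
  have hn := congrArg (fun ψ : CommRingCat.of (DCoord.{u} N) ⟶ Γ(Spec (CommRingCat.of (DCoord.{u} M)), ⊤) =>
      (ConcreteCategory.hom ψ) (mono n)) (Scheme.ΓSpecIso_inv_naturality (CommRingCat.ofHom
      (MonoidAlgebra.mapDomainAlgHom (ULift.{u} ℤ) (ULift.{u} ℤ) (AddMonoidHom.toMultiplicative φ)).toRingHom))
  refine (congrArg (dsPt t).appTop hn.symm).trans ?_
  show dsHom t _ = dsHom t _
  congr 1
  exact MonoidAlgebra.mapDomain_single ..

/-- Points of a split torus are determined by the values of the characters. -/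
theorem ds_ext {t t' : X ⟶ Red.DS S M} (h : ∀ m, dsVal t m = dsVal t' m) : t = t' := by
  ext1
  refine pullback.hom_ext ?_ ((Over.w t).trans (Over.w t').symm)
  apply (ΓSpec.adjunction.homEquiv X.left (op (CommRingCat.of (DCoord.{u} M)))).symm.injective
  erw [Adjunction.homEquiv_counit, Adjunction.homEquiv_counit, ΓSpec.adjunction_counit_app]
  change ((Scheme.ΓSpecIso _).inv ≫ (dsPt t).appTop).op = ((Scheme.ΓSpecIso _).inv ≫ (dsPt t').appTop).op
  congr 1
  ext1
  exact dCoord_ringHom_ext h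

/-- The character of `m` evaluates to the value of `m`. -/
theorem gmFn_chi (t : X ⟶ Red.DS S M) (m : M) : Red.gmFn (t ≫ Red.chi S m) = dsVal t m :=
  (show Red.gmFn (t ≫ Red.chi S m) = dsVal (t ≫ Red.chi S m) (1 : ℤ) from rfl).trans
    ((dsVal_map _ t 1).trans (by simp))

theorem dsVal_gm (s : X ⟶ Red.Gm S) (n : ℤ) : dsVal s n = ((GmPts.unitOfPt s ^ n : (Γ(X.left, ⊤))ˣ) : Γ(X.left, ⊤)) := by
  show dsHom s (mono n) = _
  rw [← GmPts.ringHomOfUnit_tPow, GmPts.ringHomOfUnit_unitOfPt]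
  rfl

/-- Multiplicativity in the point. -/
theorem dsVal_mul (t t' : X ⟶ Red.DS S M) (m : M) [IsMonHom (Red.chi S m)] :
    dsVal (t * t') m = dsVal t m * dsVal t' m := by
  have h : (t * t') ≫ Red.chi S m = (t ≫ Red.chi S m) * (t' ≫ Red.chi S m) := MonObj.mul_comp _ _ _
  rw [← gmFn_chi, ← gmFn_chi, ← gmFn_chi, h, GmPts.gmFn_mul]

end Groth.Agent.Rank2Red38
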