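import Groth.Agent.Rank2Red38.Form

/-! Conjugation of root groups by Weyl elements, from the normal form. -/

set_option autoImplicit false

universe u

open CategoryTheory CategoryTheory.Limits AlgebraicGeometry MonoidalCategory CartesianMonoidalCategory
open scoped MonObj

noncomputable section

namespace Groth.Agent.Rank2Red38

open GrpSchLib

variable {S : Scheme.{u}} {G : Over S} [GrpObj G] {D : Red.SplitRed G}

theorem comp_I {X X' : Over S} (g : X' ⟶ X) (t : X ⟶ D.T) : g ≫ I D X t = I D X' (g ≫ t) :=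
  (Category.assoc _ _ _).symm

theorem comp_mul' {X X' : Over S} (g : X' ⟶ X) (f f' : X ⟶ G) : g ≫ (f * f') = (g ≫ f) * (g ≫ f') :=
  MonObj.comp_mul g f f'

theorem comp_inv' {X X' : Over S} (g : X' ⟶ X) (f : X ⟶ G) : g ≫ f⁻¹ = (g ≫ f)⁻¹ := GrpObj.comp_inv g f

theorem comp_W {X X' : Over S} (g : X' ⟶ X) (a : D.idx) : g ≫ W D X a = W D X' a := by
  simp only [W, weylElt, comp_mul', comp_inv', comp_U, map_one]

theorem rootVal_comp {X X' : Over S} (g : X' ⟶ X) (c : D.idx) (t : X ⟶ D.T) :
    g.left.appTop (rootVal D X c t : Γ(X.left, ⊤)) = (rootVal D X' c (g ≫ t) : Γ(X'.left, ⊤)) := by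
  rw [rootVal_apply, rootVal_apply, Category.assoc]
  exact (dsVal_comp g _ _).symm

theorem glob_self (c : Γ(S, ⊤)) : glob (𝟙_ (Over S)) c = c := by
  simp [glob]

/-- A root without multiples among the roots. -/
def Red1 (D : Red.SplitRed G) (d : D.idx) : Prop :=
  ∀ (e : D.idx) (k : ℕ), D.P.root e = k • D.P.root d → k = 1

/-- The root of `d` moved by the reflection of `c`, at a torus point. -/
theorem rootVal_reflect (X : Over S) (c d : D.idx) (t : X ⟶ D.T) :
    rootVal D X (D.P.reflectionPerm c d) t = rootVal D X d (t * (av D X c (rootVal D X c t))⁻¹) := by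
  rw [map_mul, map_inv, rootVal_av]
  refine Units.ext ?_
  obtain ⟨n, hn⟩ : ∃ n : ℤ, D.P.pairing d c = n := ⟨_, rfl⟩
  have key : ∀ (m : ℤ) (v : D.M), dsVal (t ≫ D.split.hom.hom.hom) (v + m • D.P.root c) =
      dsVal (t ≫ D.split.hom.hom.hom) v * ((rootVal D X c t ^ m : Γ(X.left, ⊤)ˣ) : Γ(X.left, ⊤)) := by
    intro m
    induction m with
    | zero => simp
    | succ m ih =>
      intro v
      rw [show v + ((m : ℤ) + 1) • D.P.root c = v + (m : ℤ) • D.P.root c + D.P.root c by module, dsVal_add, ih,
        ← rootVal_apply, zpow_add_one, Units.val_mul, mul_assoc]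
    | pred m ih =>
      intro v
      have h := ih v
      rw [show v + (-(m : ℤ)) • D.P.root c = v + ((-(m : ℤ)) - 1) • D.P.root c + D.P.root c by module, dsVal_add,
        ← rootVal_apply] at h
      rw [zpow_sub_one, Units.val_mul, ← mul_assoc, ← h, Units.mul_inv_cancel_right]
  rw [rootVal_apply, RootPairing.root_reflectionPerm, RootPairing.reflection_apply_root,
    show D.P.root d - D.P.pairing d c • D.P.root c = D.P.root d + (-n) • D.P.root c by rw [hn]; module, key, hn,
    ← zpow_neg, Units.val_mul, rootVal_apply]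

/-- The Weyl element of a dual pair moves a root group to the reflected one. -/
theorem W_conj_root (N : HasNormalForm D) {c : D.idx} (hc : IsDual D c) (d : D.idx)
    (hr : Red1 D (D.P.reflectionPerm c d)) {lam : Module.Dual ℤ D.M} (hl : IsGeneric D lam)
    (hpos : 0 < lam (D.P.root (D.P.reflectionPerm c d))) :
    ∃ k : Γ(S, ⊤), ∀ (X : Over S) (x : Γ(X.left, ⊤)),
      W D X c * U D X d x * (W D X c)⁻¹ = U D X (D.P.reflectionPerm c d) (glob X k * x) := by
  set d' := D.P.reflectionPerm c d
  have hw : IsWeighted D (fun _ : Fin 1 => d') (fun X x => W D X c * U D X d (x 0) * (W D X c)⁻¹) := by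
    refine ⟨fun X X' g x => ?_, fun X t x => ?_, fun X => ?_⟩
    · simp only [comp_mul', comp_inv', comp_U, comp_W]
    · set t' := t * (av D X c (rootVal D X c t))⁻¹ with ht'
      have e : W D X c * I D X t' * (W D X c)⁻¹ = I D X t := by
        rw [W_conj_torus D hc]
        congr 1
        rw [ht', ← rootVal_reflect X c c t, rootVal_neg', map_inv]
        group
      calc I D X t * (W D X c * U D X d (x 0) * (W D X c)⁻¹) * (I D X t)⁻¹
          = W D X c * (I D X t' * U D X d (x 0) * (I D X t')⁻¹) * (W D X c)⁻¹ := by rw [← e]; group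
        _ = _ := by rw [conj_U, ht', ← rootVal_reflect]
    · simp [(U_oneParam D d).zero]
  obtain ⟨C, hC⟩ := N.exists_coord lam hl 1 (fun _ => d') (fun _ => hpos) _ hw [d'] (List.nodup_singleton _)
    (by simpa using hpos) (fun _ _ => 1) fun e m hm => by
      rw [Fin.sum_univ_one] at hm
      have h1 : m 0 = 1 := hr e (m 0) hm
      rw [h1, one_smul] at hm
      exact ⟨by simp [D.P.root.injective hm], funext fun k => by rw [Subsingleton.elim k 0, h1]⟩
  refine ⟨C d', fun X x => ?_⟩
  simpa [rootProd] using hC X (fun _ => x)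

/-- The scalar of the conjugation by a Weyl element is invertible. -/
theorem isUnit_of_conj (N : HasNormalForm D) {d e : D.idx} {lam : Module.Dual ℤ D.M} (hl : IsGeneric D lam)
    (hd : 0 < lam (D.P.root d)) (g : ∀ X : Over S, X ⟶ G) (k k' : Γ(S, ⊤))
    (h : ∀ (X : Over S) (x : Γ(X.left, ⊤)), g X * U D X d x * (g X)⁻¹ = U D X e (glob X k * x))
    (h' : ∀ (X : Over S) (x : Γ(X.left, ⊤)), (g X)⁻¹ * U D X e x * g X = U D X d (glob X k' * x))
    (X : Over S) : IsUnit (glob X k) := by
  refine IsUnit.of_mul_eq_one (glob X k') (N.mono hl hd (X := X) (y := 1) ?_)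
  rw [mul_comm]
  calc U D X d (glob X k' * glob X k) = U D X d (glob X k' * (glob X k * 1)) := by rw [mul_one]
    _ = U D X d 1 := by rw [← h', ← h]; group

end Groth.Agent.Rank2Red38
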