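import Groth.Agent.BigCell29.Global
import Groth.Agent.BigCell29.CellOne
import Groth.Agent.CellExt29.Extend

/-! Homomorphisms from a split group which agree on the torus and on every root group are equal. -/

set_option autoImplicit false

universe u

open CategoryTheory CategoryTheory.Limits AlgebraicGeometry MonoidalCategory CartesianMonoidalCategory
open scoped MonObj

noncomputable section

namespace Groth.Agent.Rank2Red38

variable {S : Scheme.{u}} {G H : Over S} [GrpObj G] [GrpObj H]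

theorem prodMap_congr (f g : G ⟶ H) [IsMonHom f] [IsMonHom g] :
    ∀ (n : ℕ) (v : Fin n → (Red.Ga S ⟶ G)), (∀ k, v k ≫ f = v k ≫ g) →
      RedSub.prodMap (Red.Ga S) n v ≫ f = RedSub.prodMap (Red.Ga S) n v ≫ g
  | 0, v, _ => by
    show (1 : _ ⟶ G) ≫ f = (1 : _ ⟶ G) ≫ g
    rw [MonObj.one_comp, MonObj.one_comp]
  | n + 1, v, h => by
    show ((fst _ _ ≫ v 0) * (snd _ _ ≫ RedSub.prodMap (Red.Ga S) n fun k => v k.succ) :
        Red.Ga S ⊗ RedSub.pow (Red.Ga S) n ⟶ G) ≫ f =
      ((fst _ _ ≫ v 0) * (snd _ _ ≫ RedSub.prodMap (Red.Ga S) n fun k => v k.succ) :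
        Red.Ga S ⊗ RedSub.pow (Red.Ga S) n ⟶ G) ≫ g
    rw [MonObj.mul_comp, MonObj.mul_comp]
    simp only [Category.assoc, h 0, prodMap_congr f g n _ fun k => h k.succ]

theorem hom_ext_roots (D : Red.SplitRed G) (b : D.P.Base) (f g : G ⟶ H) [IsMonHom f] [IsMonHom g]
    (hT : D.i ≫ f = D.i ≫ g) (hU : ∀ c, D.u c ≫ f = D.u c ≫ g) : f = g := by
  classical
  have hen : ∀ R : Set D.idx, ∃ (n : ℕ) (e : Fin n → D.idx), RedSub.Enumerates R e := fun R =>
    ⟨_, fun i => ((Fintype.equivFin R).symm i).1, Subtype.val_injective.comp (Equiv.injective _), by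
      ext x
      exact ⟨fun ⟨i, hi⟩ => hi ▸ ((Fintype.equivFin R).symm i).2, fun hx => ⟨Fintype.equivFin R ⟨x, hx⟩, by simp⟩⟩⟩
  obtain ⟨n, eneg, hneg⟩ := hen (RedSub.negRoots D.P b)
  obtain ⟨m, epos, hpos⟩ := hen (RedSub.posRoots D.P b)
  haveI := BigCell29.isOpenImmersion_cellMap D b hneg hpos
  refine CellExt29.hom_ext (RedSub.cellMap D eneg epos) D.reductive (BigCell29.exists_one_cellMap D eneg epos) f g ?_
  simp only [RedSub.cellMap, MonObj.mul_comp, Category.assoc, hT, prodMap_congr f g _ _ fun k => hU _]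

end Groth.Agent.Rank2Red38
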