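import Groth.Agent.Rank2Red38.Transport
import Groth.Agent.Rank2Red38.HomExt

/-! A homomorphism from a pinned group is determined by the torus, the simple root groups and the simple Weyl
elements. -/

set_option autoImplicit false

universe u

open CategoryTheory CategoryTheory.Limits AlgebraicGeometry MonoidalCategory CartesianMonoidalCategory
open scoped MonObj Classical

noncomputable section

namespace Groth.Agent.Rank2Red38

open GrpSchLib

variable {S : Scheme.{u}} {G H : Over S} [GrpObj G] [GrpObj H] {D : Red.Pinning G}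

/-- `f` and `g` agree on the family. -/
def AgreeOn (f g : G ⟶ H) (φ : Fam G) : Prop := ∀ (X : Over S) (x : Γ(X.left, ⊤)), φ X x ≫ f = φ X x ≫ g

variable {f g : G ⟶ H}

omit [GrpObj G] [GrpObj H] in
theorem AgreeOn.sim {φ ψ : Fam G} (h : AgreeOn f g ψ) (e : Sim φ ψ) : AgreeOn f g φ := fun X x => by
  obtain ⟨ε, -, he⟩ := e
  rw [he]; exact h X _

theorem AgreeOn.act [IsMonHom f] [IsMonHom g] {φ : Fam G} (h : AgreeOn f g φ) {n : Elt G}
    (hn : ∀ X, n X ≫ f = n X ≫ g) : AgreeOn f g (Rank2Red38.act n φ) := fun X x => by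
  simp only [Rank2Red38.act, MonObj.mul_comp, GrpObj.inv_comp, h X x, hn X]

variable (hd : ∀ c ∈ D.base.support, IsDual D.toSplitRed c)
include hd

theorem agreeOn_rep [IsMonHom f] [IsMonHom g]
    (hU : ∀ a ∈ D.base.support, AgreeOn f g (Uf D a)) (hW : ∀ a ∈ D.base.support, ∀ X, Wf D a X ≫ f = Wf D a X ≫ g)
    {c : D.idx} {φ : Fam G} (h : Rep D c φ) : AgreeOn f g φ := by
  induction h with
  | @base a c ha hc =>
    rcases hc with rfl | rfl
    · exact hU _ ha
    · exact ((hU a ha).act (hW a ha)).sim (act_self hd ha).symm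
  | @step a c ψ ha hc hp h ih => exact ih.act (hW a ha)

/-- Homomorphisms agreeing on the torus, the simple root groups and the simple Weyl elements are equal. -/
theorem hom_ext_pinned [IsMonHom f] [IsMonHom g] (hT : D.i ≫ f = D.i ≫ g)
    (hU : ∀ a ∈ D.base.support, D.u a ≫ f = D.u a ≫ g)
    (hW : ∀ a ∈ D.base.support, ∀ X, Wf D a X ≫ f = Wf D a X ≫ g) : f = g := by
  refine hom_ext_roots D.toSplitRed D.base f g hT fun c => ?_
  obtain ⟨φ, hφ⟩ := exists_rep (D := D) c
  obtain ⟨k, hk, rfl⟩ := hφ.scalar hd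
  have h1 := agreeOn_rep hd (fun a ha X x => by simp only [Uf, U, Category.assoc, hU a ha]) hW hφ
    (Red.Ga S) ((glob (Red.Ga S) ↑(hk.unit⁻¹)) * Red.gaFn (𝟙 (Red.Ga S)))
  simp only [Uk, ← mul_assoc, ← map_mul, hk.mul_val_inv, map_one, one_mul] at h1
  rwa [← pt_comp_eq D.toSplitRed, Category.id_comp] at h1

end Groth.Agent.Rank2Red38
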