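import Groth.Agent.Rank2Red38.Descent

/-! Root homomorphisms rescaled by a function on the base. -/

set_option autoImplicit false
set_option linter.style.haveILetI false

universe u

open CategoryTheory CategoryTheory.Limits AlgebraicGeometry MonoidalCategory CartesianMonoidalCategory
open scoped MonObj

noncomputable section

namespace Groth.Agent.Rank2Red38

open GrpSchLib

variable {S : Scheme.{u}} {G : Over S} [GrpObj G] {D : Red.Pinning G}

/-- Multiplication of the additive group by a function on the base. -/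
def scaleHom (k : Γ(S, ⊤)) : Red.Ga S ⟶ Red.Ga S :=
  GaPts.ptOfFn (glob (Red.Ga S) k * Red.gaFn (𝟙 (Red.Ga S)))

theorem gaFn_scaleHom (k : Γ(S, ⊤)) {X : Over S} (x : X ⟶ Red.Ga S) :
    Red.gaFn (x ≫ scaleHom k) = glob X k * Red.gaFn x := by
  rw [scaleHom, GaPts.gaFn_comp, GaPts.gaFn_ptOfFn, map_mul, ← GaPts.gaFn_comp, Category.comp_id, map_glob]

theorem scaleHom_one : scaleHom (S := S) 1 = 𝟙 _ :=
  GaPts.gaFn_injective (by
    show Red.gaFn (scaleHom (S := S) 1) = Red.gaFn (𝟙 _)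
    rw [← Category.id_comp (scaleHom (S := S) 1), gaFn_scaleHom, map_one, one_mul])

theorem scaleHom_comp (k k' : Γ(S, ⊤)) : scaleHom k ≫ scaleHom k' = scaleHom (k' * k) :=
  GaPts.gaFn_injective (by
    show Red.gaFn (scaleHom k ≫ scaleHom k') = Red.gaFn (scaleHom (k' * k))
    rw [gaFn_scaleHom, ← Category.id_comp (scaleHom (k' * k)), gaFn_scaleHom, ← Category.id_comp (scaleHom k),
      gaFn_scaleHom, map_mul, mul_assoc])

instance isMonHom_scaleHom (k : Γ(S, ⊤)) : IsMonHom (scaleHom (S := S) k) := by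
  have key : ∀ (X : Over S) (x y : X ⟶ Red.Ga S), (x * y) ≫ scaleHom k = (x ≫ scaleHom k) * (y ≫ scaleHom k) :=
    fun X x y => GaPts.gaFn_injective (by
      show Red.gaFn _ = Red.gaFn _
      rw [gaFn_scaleHom, GaPts.gaFn_mul, GaPts.gaFn_mul, gaFn_scaleHom, gaFn_scaleHom, mul_add])
  refine ⟨?_, ?_⟩
  · have h1 : (1 : 𝟙_ (Over S) ⟶ Red.Ga S) ≫ scaleHom k = 1 := GaPts.gaFn_injective (by
      show Red.gaFn _ = Red.gaFn _
      rw [gaFn_scaleHom, GaPts.gaFn_one, mul_zero])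
    rwa [Hom.one_def, toUnit_unit, Category.id_comp] at h1
  · have h := key _ (fst (Red.Ga S) (Red.Ga S)) (snd (Red.Ga S) (Red.Ga S))
    rw [Hom.mul_def, Hom.mul_def, lift_fst_snd, Category.id_comp] at h
    rw [h]
    congr 1

theorem pt_comp_scale (k : Γ(S, ⊤)) (c : D.idx) {X : Over S} (x : X ⟶ Red.Ga S) :
    x ≫ scaleHom k ≫ D.u c = Uk D c k X (Red.gaFn x) := by
  rw [← Category.assoc, pt_comp_eq D.toSplitRed, gaFn_scaleHom]
  rfl

theorem isMonHom_scaled (k : Γ(S, ⊤)) (c : D.idx) : IsMonHom (scaleHom k ≫ D.u c) := by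
  haveI : IsMonHom (D.u c) := (D.rootHom c).1
  infer_instance

theorem isRootHom_scale {k : Γ(S, ⊤)} (hk : IsUnit k) (c : D.idx) :
    Red.IsRootHom D.i (D.split.hom.hom.hom ≫ Red.chi S (D.P.root c)) (scaleHom k ≫ D.u c) := by
  obtain ⟨u, rfl⟩ := hk
  haveI : IsIso (scaleHom (u : Γ(S, ⊤))) :=
    ⟨scaleHom ((u⁻¹ : Γ(S, ⊤)ˣ) : Γ(S, ⊤)), by rw [scaleHom_comp, Units.inv_mul, scaleHom_one],
      by rw [scaleHom_comp, Units.mul_inv, scaleHom_one]⟩
  haveI : IsClosedImmersion (D.u c).left := (D.rootHom c).2.1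
  haveI : IsClosedImmersion (scaleHom (u : Γ(S, ⊤))).left := by
    haveI : IsIso (scaleHom (u : Γ(S, ⊤))).left :=
      (inferInstance : IsIso ((Over.forget S).map (scaleHom (u : Γ(S, ⊤)))))
    infer_instance
  refine ⟨isMonHom_scaled _ c, by rw [Over.comp_left]; infer_instance, fun X t x => ?_⟩
  obtain ⟨y, h1, h2⟩ := (D.rootHom c).2.2 X t (x ≫ scaleHom (u : Γ(S, ⊤)))
  refine ⟨y ≫ scaleHom ((u⁻¹ : Γ(S, ⊤)ˣ) : Γ(S, ⊤)), ?_, ?_⟩
  · rw [Category.assoc, ← Category.assoc (scaleHom ((u⁻¹ : Γ(S, ⊤)ˣ) : Γ(S, ⊤))), scaleHom_comp, Units.mul_inv,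
      scaleHom_one, Category.id_comp, h1, Category.assoc]
  · rw [gaFn_scaleHom, h2, gaFn_scaleHom, mul_left_comm, ← mul_assoc (glob X _), ← map_mul, Units.inv_mul, map_one,
      one_mul]

end Groth.Agent.Rank2Red38
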