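import Groth.Agent.RedRk29.ConjRoot
import Groth.Agent.RedRk29.BruhatPts
import Groth.Agent.Rank2Red38.NormalForm

/-! Coordinates in the cell of a pair of opposite roots are unique. -/

set_option autoImplicit false
set_option synthInstance.maxHeartbeats 100000

universe u

open CategoryTheory CategoryTheory.Limits AlgebraicGeometry MonoidalCategory CartesianMonoidalCategory WithConv
open scoped MonObj AddMonoidAlgebra

noncomputable section

namespace Groth.Agent.Rank2Red38

open GrpSchLib BigCell29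

variable {S : Scheme.{u}} {G : Over S} [GrpObj G] (D : Red.SplitRed G) (a : D.idx)

theorem comp_cell3 {X X' : Over S} (g : X' ⟶ X) (y x : Γ(X.left, ⊤)) (t : X ⟶ D.T) :
    g ≫ (U D X (neg' D a) y * I D X t * U D X a x) =
      U D X' (neg' D a) (g.left.appTop y) * I D X' (g ≫ t) * U D X' a (g.left.appTop x) := by
  simp only [comp_mul', comp_U, comp_I]

theorem cell3_local {R : Type u} [CommRing R] {f : Spec (CommRingCat.of R) ⟶ S} [IsOpenImmersion f]
    {A : Type u} [CommRing A] [HopfAlgebra R A] (Md : Model f G A) {B : Type u} [CommRing B] [Algebra R B]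
    (y y' x x' : Γ((tObj f B).left, ⊤)) (t t' : tObj f B ⟶ D.T)
    (h : U D (tObj f B) (neg' D a) y * I D (tObj f B) t * U D (tObj f B) a x =
      U D (tObj f B) (neg' D a) y' * I D (tObj f B) t' * U D (tObj f B) a x') :
    y = y' ∧ t = t' ∧ x = x' := by
  classical
  haveI : IsIso D.split.inv.hom.hom := ((Grp.forget _).mapIso D.split.symm).isIso_hom
  obtain ⟨χ, hχ⟩ : ∃ χ, chPt f χ ≫ D.split.inv.hom.hom = t := by
    obtain ⟨χ, hχ⟩ := (chPt_bijective f).surjective (t ≫ inv D.split.inv.hom.hom)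
    exact ⟨χ, by rw [hχ, Category.assoc, IsIso.inv_hom_id, Category.comp_id]⟩
  obtain ⟨χ', hχ'⟩ : ∃ χ, chPt f χ ≫ D.split.inv.hom.hom = t' := by
    obtain ⟨χ, hχ⟩ := (chPt_bijective f).surjective (t' ≫ inv D.split.inv.hom.hom)
    exact ⟨χ, by rw [hχ, Category.assoc, IsIso.inv_hom_id, Category.comp_id]⟩
  subst hχ hχ'
  rw [← torG_eq, ← torG_eq, U_tObj, U_tObj, U_tObj, U_tObj] at h
  simp only [← Md.pt_tor, ← Md.pt_rt, ← Md.pt_mul] at h
  have e := Md.pt_bijective.injective h
  obtain ⟨lam, hgen, hpos⟩ := RedRk29.exists_generic_pos D a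
  have hneg : lam (D.P.root (neg' D a)) < 0 := by rw [root_neg', map_neg]; omega
  let sn := Finset.univ.filter fun i => lam (D.P.root i) < 0
  let sp := Finset.univ.filter fun i => 0 < lam (D.P.root i)
  let eneg : Fin sn.card → D.idx := fun j => (sn.equivFin.symm j : D.idx)
  let epos : Fin sp.card → D.idx := fun j => (sp.equivFin.symm j : D.idx)
  have hs : (Md.frame D).IsSignEnum lam.toAddMonoidHom eneg epos :=
    ⟨fun j => (Finset.mem_filter.mp (sn.equivFin.symm j).2).2, fun j => (Finset.mem_filter.mp (sp.equivFin.symm j).2).2,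
      Subtype.val_injective.comp sn.equivFin.symm.injective, Subtype.val_injective.comp sp.equivFin.symm.injective,
      fun i hi => ⟨sn.equivFin ⟨i, Finset.mem_filter.mpr ⟨Finset.mem_univ i, hi⟩⟩, by simp [eneg]⟩,
      fun i hi => ⟨sp.equivFin ⟨i, Finset.mem_filter.mpr ⟨Finset.mem_univ i, hi⟩⟩, by simp [epos]⟩, hgen⟩
  let j : Fin sn.card := sn.equivFin ⟨neg' D a, Finset.mem_filter.mpr ⟨Finset.mem_univ _, hneg⟩⟩
  let l : Fin sp.card := sp.equivFin ⟨a, Finset.mem_filter.mpr ⟨Finset.mem_univ _, hpos⟩⟩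
  have hj : eneg j = neg' D a := by simp [eneg, j]
  have hl : epos l = a := by simp [epos, l]
  set F := Md.frame D
  have hY : ∀ z : B, F.prodPt eneg (Pi.single j z) = F.rt (neg' D a) z := fun z => by
    rw [RedRk29.prodPt_single eneg _ j fun i hi => Pi.single_eq_of_ne hi _, hj, Pi.single_eq_same]
  have hX : ∀ z : B, F.prodPt epos (Pi.single l z) = F.rt a z := fun z => by
    rw [RedRk29.prodPt_single epos _ l fun i hi => Pi.single_eq_of_ne hi _, hl, Pi.single_eq_same]
  rw [← hY, ← hX, ← hY, ← hX] at e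
  set y₁ := tVal f B y
  set y₂ := tVal f B y'
  set x₁ := tVal f B x
  set x₂ := tVal f B x'
  have e' : mapPt (splLift (R := R) (Pi.single j y₁) χ (Pi.single l x₁)) (toConv (F.splitHom eneg epos)) =
      mapPt (splLift (R := R) (Pi.single j y₂) χ' (Pi.single l x₂)) (toConv (F.splitHom eneg epos)) := by
    rw [F.mapPt_splitHom, F.mapPt_splitHom, splLift_Y, splLift_T, splLift_X, splLift_Y, splLift_T, splLift_X, e]
  have hh := F.splitHom_epi hs (congrArg WithConv.ofConv e')
  have hj' : Pi.single (M := fun _ : Fin sn.card => B) j y₁ = Pi.single j y₂ := by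
    rw [← splLift_Y (R := R) (Pi.single j y₁) χ (Pi.single l x₁), hh, splLift_Y]
  have hl' : Pi.single (M := fun _ : Fin sp.card => B) l x₁ = Pi.single l x₂ := by
    rw [← splLift_X (R := R) (Pi.single j y₁) χ (Pi.single l x₁), hh, splLift_X]
  have hy : y₁ = y₂ := by simpa using congrFun hj' j
  have hx : x₁ = x₂ := by simpa using congrFun hl' l
  refine ⟨(tVal f B).injective hy, ?_, (tVal f B).injective hx⟩
  rw [← splLift_T (R := R) (Pi.single j y₁) χ (Pi.single l x₁), hh, splLift_T]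

/-- Coordinates in the cell of a pair of opposite roots are unique. -/
theorem cell3_inj {X : Over S} {y y' x x' : Γ(X.left, ⊤)} {t t' : X ⟶ D.T}
    (h : U D X (neg' D a) y * I D X t * U D X a x = U D X (neg' D a) y' * I D X t' * U D X a x') :
    y = y' ∧ t = t' ∧ x = x' := by
  haveI : IsAffineHom G.hom := D.reductive.1
  have key : ∀ (R : Type u) [CommRing R] (f : Spec (CommRingCat.of R) ⟶ S) [IsOpenImmersion f] (B : Type u)
      [CommRing B] [Algebra R B] (g : tObj f B ⟶ X),
      g.left.appTop y = g.left.appTop y' ∧ g ≫ t = g ≫ t' ∧ g.left.appTop x = g.left.appTop x' := by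
    intro R _ f _ B _ _ g
    obtain ⟨A, _, _, ⟨Md⟩⟩ := exists_model f G
    exact cell3_local D a Md _ _ _ _ _ _ (by rw [← comp_cell3, ← comp_cell3, h])
  refine ⟨?_, ext_tObj fun R _ f _ B _ _ g => (key R f B g).2.1, ?_⟩
  · have e : (GaPts.ptOfFn y : X ⟶ Red.Ga S) = GaPts.ptOfFn y' := ext_tObj fun R _ f _ B _ _ g => by
      rw [RankOne.map_gaFn_ptOfFn, RankOne.map_gaFn_ptOfFn, (key R f B g).1]
    simpa [GaPts.gaFn_ptOfFn] using congrArg Red.gaFn e
  · have e : (GaPts.ptOfFn x : X ⟶ Red.Ga S) = GaPts.ptOfFn x' := ext_tObj fun R _ f _ B _ _ g => by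
      rw [RankOne.map_gaFn_ptOfFn, RankOne.map_gaFn_ptOfFn, (key R f B g).2.2]
    simpa [GaPts.gaFn_ptOfFn] using congrArg Red.gaFn e

end Groth.Agent.Rank2Red38
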