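import Groth.Agent.Rank2Red38.NormalForm
import Mathlib.LinearAlgebra.RootSystem.Finite.Lemmas
import Mathlib.LinearAlgebra.FreeModule.Finite.Basic

/-! Root groups of two roots whose sum is neither a root nor zero commute. -/

set_option autoImplicit false

universe u

open CategoryTheory CategoryTheory.Limits AlgebraicGeometry MonoidalCategory CartesianMonoidalCategory
open scoped MonObj

noncomputable section

namespace Groth.Agent.Rank2Red38

open GrpSchLib

variable {S : Scheme.{u}} {G : Over S} [GrpObj G] (D : Red.SplitRed G)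

theorem pairing_eq_apply (c d : D.idx) : D.P.pairing c d = D.P.coroot d (D.P.root c) := by
  rw [← D.P.root_coroot_eq_pairing, D.pairing_eq]; rfl

theorem pairingIn_eq_pairing (c d : D.idx) : D.P.pairingIn ℤ c d = D.P.pairing c d := by
  have h := D.P.algebraMap_pairingIn ℤ c d
  simpa using h

/-- There is a linear form vanishing on no root. -/
theorem exists_generic : ∃ ν : Module.Dual ℤ D.M, IsGeneric D ν := by
  classical
  let b := Module.Free.chooseBasis ℤ D.M
  haveI : Fintype (Module.Free.ChooseBasisIndex ℤ D.M) := Fintype.ofFinite _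
  let e := Fintype.equivFin (Module.Free.ChooseBasisIndex ℤ D.M)
  let q : D.idx → Polynomial ℤ := fun c => ∑ i, Polynomial.C (b.repr (D.P.root c) i) * Polynomial.X ^ (e i : ℕ)
  have hq : ∀ c, q c ≠ 0 := fun c h => by
    obtain ⟨i, hi⟩ : ∃ i, b.repr (D.P.root c) i ≠ 0 := by
      by_contra! hh
      exact D.P.ne_zero c (b.repr.injective (Finsupp.ext fun i => by simpa using hh i))
    have h1 := congrArg (fun p : Polynomial ℤ => p.coeff (e i)) h
    simp only [q, Polynomial.finsetSum_coeff, Polynomial.coeff_zero] at h1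
    rw [Finset.sum_eq_single i (fun k _ hk => by simp [Fin.val_inj, (e.injective.ne hk).symm]) (by simp)] at h1
    exact hi (by simpa using h1)
  obtain ⟨t, ht⟩ : ∃ t : ℤ, t ∉ (Finset.univ : Finset D.idx).biUnion fun c => (q c).roots.toFinset :=
    Infinite.exists_notMem_finset _
  refine ⟨b.constr ℤ fun i => t ^ (e i : ℕ), fun c hc => ht ?_⟩
  simp only [Finset.mem_biUnion, Finset.mem_univ, true_and, Multiset.mem_toFinset, Polynomial.mem_roots']
  refine ⟨c, hq c, ?_⟩
  rw [Module.Basis.constr_apply_fintype] at hc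
  simpa [Polynomial.IsRoot, q, Polynomial.eval_finsetSum, Module.Basis.equivFun_apply] using hc

variable {D} {a b : D.idx} (h0 : D.P.root a + D.P.root b ≠ 0)
  (hab : D.P.root a + D.P.root b ∉ Set.range D.P.root)
include h0 hab

theorem pairing_nonneg_of_sum_not_root : 0 ≤ D.P.pairing a b ∧ 0 ≤ D.P.pairing b a := by
  refine ⟨?_, ?_⟩ <;> by_contra h <;> rw [not_le, ← pairingIn_eq_pairing] at h
  · exact hab (D.P.root_add_root_mem_of_pairingIn_neg h fun e => h0 (by rw [e, neg_add_cancel]))
  · refine hab ?_
    rw [add_comm]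
    exact D.P.root_add_root_mem_of_pairingIn_neg h fun e => h0 (by rw [e, add_neg_cancel])

theorem exists_lam_pos : ∃ lam : Module.Dual ℤ D.M, IsGeneric D lam ∧ 0 < lam (D.P.root a) ∧ 0 < lam (D.P.root b) := by
  obtain ⟨h1, h2⟩ := pairing_nonneg_of_sum_not_root h0 hab
  obtain ⟨ν, hν⟩ := exists_generic D
  set mu : Module.Dual ℤ D.M := D.P.coroot a + D.P.coroot b
  have hmu : 0 < mu (D.P.root a) ∧ 0 < mu (D.P.root b) := by
    simp only [mu, LinearMap.add_apply, ← pairing_eq_apply, RootPairing.pairing_same]
    omega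
  set B : ℤ := ∑ c, |ν (D.P.root c)| + 1
  have hB : ∀ c, |ν (D.P.root c)| < B := fun c => by
    have := Finset.single_le_sum (f := fun c => |ν (D.P.root c)|) (fun i _ => abs_nonneg _) (Finset.mem_univ c)
    simp only [B]; omega
  have key : ∀ c, 0 < mu (D.P.root c) → 0 < (B • mu + ν) (D.P.root c) := fun c hc => by
    have h := hB c
    have := neg_abs_le (ν (D.P.root c))
    simp only [LinearMap.add_apply, LinearMap.smul_apply, smul_eq_mul]
    have hB0 : 0 ≤ B := by have := abs_nonneg (ν (D.P.root c)); omega
    have := mul_le_mul_of_nonneg_left (show (1 : ℤ) ≤ mu (D.P.root c) by omega) hB0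
    omega
  refine ⟨B • mu + ν, fun c h => ?_, key a hmu.1, key b hmu.2⟩
  simp only [LinearMap.add_apply, LinearMap.smul_apply, smul_eq_mul] at h
  have hc := hB c
  rcases lt_trichotomy (mu (D.P.root c)) 0 with hh | hh | hh
  · have := le_abs_self (ν (D.P.root c))
    have hB0 : 0 ≤ B := by have := abs_nonneg (ν (D.P.root c)); omega
    have := mul_le_mul_of_nonneg_left (show mu (D.P.root c) ≤ -1 by omega) hB0
    omega
  · rw [hh, mul_zero, zero_add] at h; exact hν c h
  · have := neg_abs_le (ν (D.P.root c))
    have hB0 : 0 ≤ B := by have := abs_nonneg (ν (D.P.root c)); omega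
    have := mul_le_mul_of_nonneg_left (show (1 : ℤ) ≤ mu (D.P.root c) by omega) hB0
    omega

theorem no_mixed_root (d : D.idx) (i j : ℕ) (hi : 0 < i) (hj : 0 < j) :
    D.P.root d ≠ i • D.P.root a + j • D.P.root b := by
  induction hn : i + j using Nat.strong_induction_on generalizing i j d a b with
  | _ n ih =>
    intro hd
    obtain ⟨h1, h2⟩ := pairing_nonneg_of_sum_not_root h0 hab
    by_cases hi1 : i = 1
    · subst hi1
      by_cases hj1 : j = 1
      · subst hj1; exact hab ⟨d, by simpa using hd⟩
      · have hp : D.P.pairing d b = D.P.pairing a b + j * 2 := by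
          rw [pairing_eq_apply, hd, map_add, map_nsmul, map_nsmul, ← pairing_eq_apply, ← pairing_eq_apply,
            RootPairing.pairing_same, one_smul, nsmul_eq_mul]
        have hpos : 0 < D.P.pairingIn ℤ d b := by rw [pairingIn_eq_pairing, hp]; omega
        have hne : d ≠ b := by
          rintro rfl
          rw [RootPairing.pairing_same] at hp
          omega
        obtain ⟨d', hd'⟩ := D.P.root_sub_root_mem_of_pairingIn_pos hpos hne
        refine ih (1 + (j - 1)) (by omega) h0 hab d' 1 (j - 1) one_pos (by omega) rfl ?_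
        rw [hd', hd]
        obtain ⟨j', rfl⟩ : ∃ j', j = j' + 1 := ⟨j - 1, by omega⟩
        rw [Nat.add_sub_cancel, add_smul j' 1, one_smul ℕ (D.P.root b)]
        abel
    · have hp : D.P.pairing d a = 2 * i + j * D.P.pairing b a := by
        rw [pairing_eq_apply, hd, map_add, map_nsmul, map_nsmul, ← pairing_eq_apply, ← pairing_eq_apply,
          RootPairing.pairing_same, nsmul_eq_mul, nsmul_eq_mul, mul_comm]
      have hpos : 0 < D.P.pairingIn ℤ d a := by
        rw [pairingIn_eq_pairing, hp]
        have : (0 : ℤ) ≤ j * D.P.pairing b a := mul_nonneg (Nat.cast_nonneg j) h2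
        omega
      have hne : d ≠ a := by
        rintro rfl
        have e : D.P.pairing d d = 2 * i + j * D.P.pairing b d := hp
        rw [RootPairing.pairing_same] at e
        have : (0 : ℤ) ≤ j * D.P.pairing b d := mul_nonneg (Nat.cast_nonneg j) h2
        omega
      obtain ⟨d', hd'⟩ := D.P.root_sub_root_mem_of_pairingIn_pos hpos hne
      refine ih (i - 1 + j) (by omega) h0 hab d' (i - 1) j (by omega) hj rfl ?_
      rw [hd', hd]
      obtain ⟨i', rfl⟩ : ∃ i', i = i' + 1 := ⟨i - 1, by omega⟩
      rw [Nat.add_sub_cancel, add_smul, one_smul]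
      abel

theorem U_comm_of_sum_not_root (X : Over S) (x y : Γ(X.left, ⊤)) :
    U D X a x * U D X b y = U D X b y * U D X a x := by
  obtain ⟨lam, -, ha, hb⟩ := exists_lam_pos h0 hab
  let F : ∀ X : Over S, (Fin 2 → Γ(X.left, ⊤)) → (X ⟶ G) := fun X z =>
    (U D X b (z 1) * U D X a (z 0))⁻¹ * (U D X a (z 0) * U D X b (z 1))
  have hF : IsWeighted D ![a, b] F := by
    refine ⟨fun X X' g z => by simp only [F, comp_mul', comp_inv', comp_U], fun X t z => ?_, fun X => ?_⟩
    · simp only [F, Matrix.cons_val_zero, Matrix.cons_val_one, Matrix.cons_val_fin_one, ← conj_U]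
      group
    · simp [F, (U_oneParam D a).zero, (U_oneParam D b).zero]
  have h := eq_one_of_no_mixed_root D lam F (fun k => by fin_cases k <;> assumption) hF
    (fun d i j hi hj => no_mixed_root h0 hab d i j hi hj)
    (fun X z => by simp [F, (U_oneParam D a).zero, (U_oneParam D b).zero]) X ![x, y]
  simp only [F, Matrix.cons_val_zero, Matrix.cons_val_one, Matrix.cons_val_fin_one, inv_mul_eq_one] at h
  exact h.symm

end Groth.Agent.Rank2Red38
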