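import Mathlib.Algebra.Group.Conj
import Mathlib.Tactic.Group
import Mathlib.Tactic.LinearCombination
import Mathlib.Tactic.Ring

/-! Structure constants of the rank-two systems A2 and B2, computed in an abstract group with
one-parameter subgroups. -/

set_option autoImplicit false

namespace Groth.Agent.Rank2Red38

variable {R G : Type*} [CommRing R] [Group G]

/-- An additive one-parameter subgroup of `G`. -/
def IsOneParam (u : R → G) : Prop := ∀ x y, u (x + y) = u x * u y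

namespace IsOneParam

variable {u : R → G} (hu : IsOneParam u)
include hu

theorem zero : u 0 = 1 := by simpa using hu 0 0

theorem neg (x : R) : u (-x) = (u x)⁻¹ := by
  rw [eq_inv_iff_mul_eq_one, ← hu, neg_add_cancel, hu.zero]

theorem comm (x y : R) : u x * u y = u y * u x := by rw [← hu, ← hu, add_comm]

end IsOneParam

/-- The Weyl element of a pair of opposite one-parameter subgroups. -/
def weylElt (a na : R → G) : G := a 1 * (na 1)⁻¹ * a 1

theorem weylElt_conj (a na : R → G) (g : G) :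
    weylElt a na * g * (weylElt a na)⁻¹ = a 1 * ((na 1)⁻¹ * (a 1 * g * (a 1)⁻¹) * na 1) * (a 1)⁻¹ := by
  simp only [weylElt]; group

theorem conj_mul' (g x y : G) : g * (x * y) * g⁻¹ = (g * x * g⁻¹) * (g * y * g⁻¹) := by group

theorem inv_conj_mul (g x y : G) : g⁻¹ * (x * y) * g = (g⁻¹ * x * g) * (g⁻¹ * y * g) := by group

theorem conj_of_commute {g x : G} (h : g * x = x * g) : g * x * g⁻¹ = x := by
  rw [h, mul_inv_cancel_right]

theorem inv_conj_of_commute {g x : G} (h : g * x = x * g) : g⁻¹ * x * g = x := by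
  rw [mul_assoc, ← h, inv_mul_cancel_left]

namespace A2

/-- The data of a system of type A2: `m` is the subgroup of the root `a + b`. -/
structure Data (a na b nb m : R → G) (C E : R) : Prop where
  ha : IsOneParam a
  hna : IsOneParam na
  hb : IsOneParam b
  hnb : IsOneParam nb
  hm : IsOneParam m
  m_def : ∀ x, m x = weylElt b nb * a x * (weylElt b nb)⁻¹
  a_m : ∀ x y, a x * m y = m y * a x
  b_m : ∀ x y, b x * m y = m y * b x
  a_nb : ∀ x y, a x * nb y = nb y * a x
  b_na : ∀ x y, b x * na y = na y * b x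
  b_a : ∀ x y, b y * a x = a x * b y * m (C * x * y)
  nb_m : ∀ z, (nb 1)⁻¹ * m z * nb 1 = a (E * z) * m z
  inj : ∀ x y x' y', a x * m y = a x' * m y' → x = x' ∧ y = y'

namespace Data

variable {a na b nb m : R → G} {C E : R} (D : Data a na b nb m C E)
include D

theorem C_eq_one : C = 1 := by
  have h1 : b 1 * a 1 * (b 1)⁻¹ = a 1 * m C := by
    rw [D.b_a]; simp only [mul_one]
    rw [mul_assoc (a 1), D.b_m, ← mul_assoc, mul_inv_cancel_right]
  have h := D.m_def 1
  rw [weylElt_conj, h1, inv_conj_mul, inv_conj_of_commute (D.a_nb 1 1).symm, D.nb_m, ← mul_assoc (a 1),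
    ← D.ha, conj_mul', conj_of_commute (D.b_m 1 C)] at h
  have h2 : ∀ x, b 1 * a x * (b 1)⁻¹ = a x * m (C * x) := fun x => by
    rw [D.b_a, mul_one, mul_assoc (a x), D.b_m, ← mul_assoc, mul_inv_cancel_right]
  rw [h2, mul_assoc, ← D.hm] at h
  obtain ⟨e1, e2⟩ := D.inj 0 1 _ _ (((congrArg (· * m 1) D.ha.zero).trans (one_mul _)).trans h)
  linear_combination C * e1 - e2

theorem commutator (x y : R) : b y * a x = a x * b y * m (x * y) := by
  rw [D.b_a, D.C_eq_one, one_mul]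

/-- The negative systems are exchanged, so the conjugate of `b` by the Weyl element of `a` has sign `-1`. -/
theorem wa_b (E' : R) (na_m : ∀ z, (na 1)⁻¹ * m z * na 1 = b (E' * z) * m z)
    (inj' : ∀ x y x' y', b x * m y = b x' * m y' → x = x' ∧ y = y')
    (k : R) (hk : ∀ x, weylElt a na * b x * (weylElt a na)⁻¹ = m (k * x)) :
    k = -1 := by
  have ha_b : ∀ x, a 1 * b x * (a 1)⁻¹ = b x * m (-x) := fun x => by
    have h := D.commutator (-1) x
    rw [D.ha.neg, neg_one_mul] at h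
    calc a 1 * b x * (a 1)⁻¹ = a 1 * (b x * (a 1)⁻¹) := mul_assoc _ _ _
      _ = _ := by rw [h]; group
  have h := hk 1
  rw [mul_one, weylElt_conj, ha_b, inv_conj_mul, inv_conj_of_commute (D.b_na 1 1).symm, na_m, ← mul_assoc (b 1),
    ← D.hb, conj_mul', ha_b, conj_of_commute (D.a_m 1 (-1)), mul_assoc, ← D.hm] at h
  obtain ⟨e1, e2⟩ := inj' _ _ 0 k (h.trans ((congrArg (· * m k) D.hb.zero).trans (one_mul _)).symm)
  linear_combination -e2 - e1

end Data

end A2

namespace B2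

/-- The data of a system of type B2, `a` short: `m`, `l` are the subgroups of the roots `a + b`, `2a + b`. -/
structure Data (a na b nb m l : R → G) (C F H E E₂ K P Q k : R) : Prop where
  ha : IsOneParam a
  hna : IsOneParam na
  hb : IsOneParam b
  hnb : IsOneParam nb
  hm : IsOneParam m
  hl : IsOneParam l
  m_def : ∀ x, m x = weylElt b nb * a x * (weylElt b nb)⁻¹
  l_def : ∀ x, l x = weylElt a na * b x * (weylElt a na)⁻¹
  wa_m : ∀ x, weylElt a na * m x * (weylElt a na)⁻¹ = m (k * x)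
  b_m : ∀ x y, b x * m y = m y * b x
  b_l : ∀ x y, b x * l y = l y * b x
  a_l : ∀ x y, a x * l y = l y * a x
  m_l : ∀ x y, m x * l y = l y * m x
  l_nb : ∀ x y, l x * nb y = nb y * l x
  a_nb : ∀ x y, a x * nb y = nb y * a x
  b_na : ∀ x y, b x * na y = na y * b x
  b_a : ∀ x y, b y * a x = a x * b y * m (C * x * y) * l (F * x ^ 2 * y)
  m_a : ∀ x y, m y * a x = a x * m y * l (H * x * y)
  nb_m : ∀ z, (nb 1)⁻¹ * m z * nb 1 = a (E * z) * m z * l (E₂ * z ^ 2)
  na_m : ∀ z, (na 1)⁻¹ * m z * na 1 = b (K * z) * m z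
  na_l : ∀ z, (na 1)⁻¹ * l z * na 1 = b (Q * z) * m (P * z) * l z
  inj : ∀ x y z x' y' z', a x * m y * l z = a x' * m y' * l z' → x = x' ∧ y = y' ∧ z = z'
  inj' : ∀ x y z x' y' z', b x * m y * l z = b x' * m y' * l z' → x = x' ∧ y = y' ∧ z = z'

namespace Data

variable {a na b nb m l : R → G} {C F H E E₂ K P Q k : R} (D : Data a na b nb m l C F H E E₂ K P Q k)
include D

theorem b_conj_a (x : R) : b 1 * a x * (b 1)⁻¹ = a x * m (C * x) * l (F * x ^ 2) := by
  rw [D.b_a]; simp only [mul_one]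
  calc a x * b 1 * m (C * x) * l (F * x ^ 2) * (b 1)⁻¹
      = a x * (b 1 * (m (C * x) * l (F * x ^ 2)) * (b 1)⁻¹) := by group
    _ = _ := by rw [conj_mul', conj_of_commute (D.b_m 1 _), conj_of_commute (D.b_l 1 _), mul_assoc (a x)]

theorem C_eq_one : C = 1 := by
  have h := D.m_def 1
  rw [weylElt_conj, D.b_conj_a, inv_conj_mul, inv_conj_mul, inv_conj_of_commute (D.a_nb 1 1).symm,
    inv_conj_of_commute (D.l_nb _ 1).symm, D.nb_m, ← mul_assoc (a 1), ← mul_assoc (a 1), ← D.ha] at h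
  simp only [conj_mul'] at h
  rw [D.b_conj_a, conj_of_commute (D.b_m 1 _), conj_of_commute (D.b_l 1 _), conj_of_commute (D.b_l 1 _)] at h
  set X := 1 + E * (C * 1)
  have h' : m 1 = a X * m (C * X + C * 1) * l (F * X ^ 2 + E₂ * (C * 1) ^ 2 + F * 1 ^ 2) := by
    rw [h, D.hm, D.hl, D.hl]
    calc a X * m (C * X) * l (F * X ^ 2) * m (C * 1) * l (E₂ * (C * 1) ^ 2) * l (F * 1 ^ 2)
        = a X * m (C * X) * (l (F * X ^ 2) * m (C * 1)) * l (E₂ * (C * 1) ^ 2) * l (F * 1 ^ 2) := by group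
      _ = _ := by rw [← D.m_l]; group
  obtain ⟨e1, e2, -⟩ := D.inj 0 1 0 _ _ _ ((show a 0 * m 1 * l 0 = m 1 by rw [D.ha.zero, D.hl.zero, one_mul, mul_one]).trans h')
  linear_combination C * e1 - e2

theorem a_conj_b (y : R) : a 1 * b y * (a 1)⁻¹ = b y * m (-y) * l (F * y) := by
  have h := D.b_a (-1) y
  rw [D.ha.neg, D.C_eq_one, one_mul, neg_one_mul, neg_one_sq, mul_one] at h
  calc a 1 * b y * (a 1)⁻¹ = a 1 * (b y * (a 1)⁻¹) := mul_assoc _ _ _
    _ = _ := by rw [h]; group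

theorem a_conj_m (y : R) : a 1 * m y * (a 1)⁻¹ = m y * l (-(H * y)) := by
  have h := D.m_a (-1) y
  rw [D.ha.neg, show H * -1 * y = -(H * y) by ring] at h
  calc a 1 * m y * (a 1)⁻¹ = a 1 * (m y * (a 1)⁻¹) := mul_assoc _ _ _
    _ = _ := by rw [h]; group

theorem H_eq : H = 2 * F := by
  have h1 := D.b_a (1 + 1) 1
  have h0 := D.b_a 1 1
  have hma := D.m_a 1 C
  rw [D.C_eq_one] at h1 h0 hma
  simp only [mul_one, one_mul, one_pow] at h1 h0 hma
  have h2 : b 1 * a (1 + 1) = a (1 + 1) * b 1 * (m (1 + 1) * l (F + H + F)) := by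
    rw [D.ha, D.hm, D.hl, D.hl]
    calc b 1 * (a 1 * a 1) = b 1 * a 1 * a 1 := (mul_assoc _ _ _).symm
      _ = a 1 * b 1 * m 1 * (l F * a 1) := by rw [h0]; group
      _ = a 1 * b 1 * (m 1 * a 1) * l F := by rw [← D.a_l]; group
      _ = a 1 * (b 1 * a 1) * m 1 * l H * l F := by rw [hma]; group
      _ = a 1 * a 1 * b 1 * m 1 * (l F * m 1) * l H * l F := by rw [h0]; group
      _ = _ := by rw [← D.m_l]; group
  rw [h1, mul_assoc (a (1 + 1) * b 1)] at h2
  obtain ⟨-, -, e⟩ := D.inj' 0 _ _ 0 _ _ ((mul_assoc _ _ _).trans ((congrArg (b 0 * ·) (mul_left_cancel h2)).trans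
    (mul_assoc _ _ _).symm))
  linear_combination -e

theorem wa_b_coord : F = 1 ∧ 1 - K + Q * F = 0 ∧ P * F = 1 := by
  have h := D.l_def 1
  rw [weylElt_conj, D.a_conj_b, inv_conj_mul, inv_conj_mul, inv_conj_of_commute (D.b_na 1 1).symm, D.na_m,
    D.na_l] at h
  simp only [mul_one] at h
  rw [← mul_assoc (b 1), ← D.hb] at h
  have e : b (1 + K * -1) * m (-1) * (b (Q * F) * m (P * F) * l F) =
      b (1 + K * -1 + Q * F) * m (-1 + P * F) * l F := by
    rw [D.hb (1 + K * -1), D.hm (-1)]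
    calc b (1 + K * -1) * m (-1) * (b (Q * F) * m (P * F) * l F)
        = b (1 + K * -1) * (m (-1) * b (Q * F)) * m (P * F) * l F := by group
      _ = _ := by rw [← D.b_m]; group
  rw [e] at h
  set Y := 1 + K * -1 + Q * F
  set Z := -1 + P * F
  simp only [conj_mul'] at h
  rw [D.a_conj_b, D.a_conj_m, conj_of_commute (D.a_l 1 F)] at h
  have h' : l 1 = b Y * m (-Y + Z) * l (F * Y + -(H * Z) + F) := by
    rw [h, D.hm (-Y), D.hl (_ + _), D.hl (F * Y)]
    calc b Y * m (-Y) * l (F * Y) * (m Z * l (-(H * Z))) * l F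
        = b Y * m (-Y) * (l (F * Y) * m Z) * l (-(H * Z)) * l F := by group
      _ = _ := by rw [← D.m_l]; group
  obtain ⟨e1, e2, e3⟩ := D.inj' 0 0 1 _ _ _ ((show b 0 * m 0 * l 1 = l 1 by rw [D.hb.zero, D.hm.zero, one_mul, one_mul]).trans h')
  refine ⟨?_, ?_, ?_⟩
  · linear_combination -e3 + (F - H) * e1 - H * e2
  · simp only [Y] at e1; linear_combination -e1
  · simp only [Z, Y] at e1 e2; linear_combination -e2 - e1

theorem F_eq_one : F = 1 := D.wa_b_coord.1

theorem commutator (x y : R) : b y * a x = a x * b y * m (x * y) * l (x ^ 2 * y) := by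
  rw [D.b_a, D.C_eq_one, D.F_eq_one, one_mul, one_mul]

theorem commutator₂ (x y : R) : m y * a x = a x * m y * l (2 * x * y) := by
  rw [D.m_a, D.H_eq, D.F_eq_one, mul_one]

theorem wa_m_sign : k = -1 := by
  obtain ⟨hF, hK, hP⟩ := D.wa_b_coord
  have h := D.wa_m 1
  rw [mul_one, weylElt_conj, D.a_conj_m, D.H_eq, hF, inv_conj_mul, D.na_m, D.na_l] at h
  have e : b (K * 1) * m 1 * (b (Q * -(2 * 1 * 1)) * m (P * -(2 * 1 * 1)) * l (-(2 * 1 * 1))) =
      b (K * 1 + Q * -(2 * 1 * 1)) * m (1 + P * -(2 * 1 * 1)) * l (-(2 * 1 * 1)) := by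
    rw [D.hb, D.hm]
    calc b (K * 1) * m 1 * (b (Q * -(2 * 1 * 1)) * m (P * -(2 * 1 * 1)) * l (-(2 * 1 * 1)))
        = b (K * 1) * (m 1 * b (Q * -(2 * 1 * 1))) * m (P * -(2 * 1 * 1)) * l (-(2 * 1 * 1)) := by group
      _ = _ := by rw [← D.b_m]; group
  rw [e] at h
  set Y := K * 1 + Q * -(2 * 1 * 1) with hY
  set Z := 1 + P * -(2 * 1 * 1) with hZ
  set W := -(2 * 1 * 1 : R) with hW
  simp only [conj_mul'] at h
  rw [D.a_conj_b, D.a_conj_m, conj_of_commute (D.a_l 1 W)] at h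
  have h' : m k = b Y * m (-Y + Z) * l (F * Y + -(H * Z) + W) := by
    rw [← h, D.hm (-Y), D.hl (_ + _), D.hl (F * Y)]
    calc b Y * m (-Y) * l (F * Y) * (m Z * l (-(H * Z))) * l W
        = b Y * m (-Y) * (l (F * Y) * m Z) * l (-(H * Z)) * l W := by group
      _ = _ := by rw [← D.m_l]; group
  obtain ⟨e1, e2, -⟩ := D.inj' 0 k 0 _ _ _ ((show b 0 * m k * l 0 = m k by rw [D.hb.zero, D.hl.zero, one_mul, mul_one]).trans h')
  simp only [hY, hZ] at e1 e2
  rw [hF, mul_one] at hP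
  rw [hP] at e2
  linear_combination e2 + e1

end Data

end B2

end Groth.Agent.Rank2Red38
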