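import Groth.Agent.Rank2Red38.AlgA2B2

/-! Coxeter relations between the Weyl elements of two simple roots, in an abstract group. -/

set_option autoImplicit false

namespace Groth.Agent.Rank2Red38

variable {R G : Type*} [CommRing R] [Group G]

theorem weylElt_conj_eq {u nu v nv : R → G} (g : G) (hu : ∀ x, g * u x * g⁻¹ = v x)
    (hnu : ∀ x, g * nu x * g⁻¹ = nv x) : g * weylElt u nu * g⁻¹ = weylElt v nv := by
  simp only [weylElt, ← hu, ← hnu]; group

theorem weylElt_neg {u nu : R → G} (hu : IsOneParam u) (hnu : IsOneParam nu) :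
    weylElt (fun x => u (-x)) (fun x => nu (-x)) = (weylElt u nu)⁻¹ := by
  simp only [weylElt, hu.neg, hnu.neg]; group

theorem weylElt_conj_neg {u nu v nv : R → G} (hv : IsOneParam v) (hnv : IsOneParam nv) (g : G)
    (hu : ∀ x, g * u x * g⁻¹ = v (-x)) (hnu : ∀ x, g * nu x * g⁻¹ = nv (-x)) :
    g * weylElt u nu * g⁻¹ = (weylElt v nv)⁻¹ := by
  rw [← weylElt_neg hv hnv]; exact weylElt_conj_eq g hu hnu

theorem pow_swap_eq (wa wb : G) (n : ℕ) : (wb * wa) ^ n = wa⁻¹ * (wa * wb) ^ n * wa := by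
  induction n with
  | zero => simp
  | succ n ih => rw [pow_succ, ih, pow_succ]; group

theorem sq_commute {wa wb : G} (h1 : Commute wa wb) : (wa * wb) ^ 2 = wa ^ 2 * wb ^ 2 :=
  h1.mul_pow 2

section

variable {wa wb ta tb : G} (hta : wa ^ 2 = ta) (htb : wb ^ 2 = tb) (hta2 : ta * ta = 1) (htb2 : tb * tb = 1)
  (hab : ta * tb = tb * ta)
include hta htb hta2 htb2 hab

theorem coxeter_A2 (hwa : wa * tb * wa⁻¹ = tb * ta) (hwb : wb * ta * wb⁻¹ = ta * tb)
    (h : wa * wb * wa⁻¹ = wb * wa⁻¹ * wb⁻¹) : (wa * wb) ^ 3 = 1 ∧ (wb * wa) ^ 3 = 1 := by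
  have htb' : tb⁻¹ = tb := inv_eq_of_mul_eq_one_left htb2
  have hta' : ta⁻¹ = ta := inv_eq_of_mul_eq_one_left hta2
  have e1 : wb⁻¹ * ta * wb = ta * tb := by
    calc wb⁻¹ * ta * wb = tb⁻¹ * (wb * ta * wb⁻¹) * tb := by rw [← htb, pow_two]; group
      _ = tb * (ta * tb) * tb := by rw [hwb, htb']
      _ = ta * tb * (tb * tb) := by rw [← mul_assoc tb, ← hab]; group
      _ = _ := by rw [htb2, mul_one]
  have e2 : wa⁻¹ * (ta * tb) * wa = tb := by
    calc wa⁻¹ * (ta * tb) * wa = ta⁻¹ * (wa * ta * wa⁻¹) * (wa * tb * wa⁻¹) * ta := by rw [← hta, pow_two]; group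
      _ = ta * ta * tb * ta * ta := by
        rw [hwa, hta', show wa * ta * wa⁻¹ = ta by rw [← hta, pow_two]; group]; group
      _ = tb := by rw [hta2, mul_assoc (1 * tb), hta2]; group
  have h1 : (wa * wb) ^ 3 = 1 := by
    calc (wa * wb) ^ 3 = (wa * wb * wa⁻¹) * wa ^ 2 * wb * wa * wb := by simp only [pow_succ, pow_zero, one_mul]; group
      _ = wb * (wa⁻¹ * (wb⁻¹ * ta * wb) * wa) * wb := by rw [h, hta]; group
      _ = wb * tb * wb := by rw [e1, e2]
      _ = tb * tb := by rw [← htb, pow_two]; group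
      _ = 1 := htb2
  exact ⟨h1, by rw [pow_swap_eq, h1]; group⟩

theorem coxeter_B2 (hwa : wa * tb * wa⁻¹ = tb * ta) (hwb : wb * ta = ta * wb)
    (h : wa * (wb * wa * wb⁻¹) * wa⁻¹ = (wb * wa * wb⁻¹)⁻¹) : (wa * wb) ^ 4 = ta ∧ (wb * wa) ^ 4 = ta := by
  have hta' : ta⁻¹ = ta := inv_eq_of_mul_eq_one_left hta2
  have e1 : wa * tb = tb * ta * wa := by rw [← hwa]; group
  have e2 : tb * wa = wa * tb * ta := by
    have hc : ta * wa = wa * ta := by rw [← hta, pow_two]; group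
    rw [e1, mul_assoc (tb * ta), ← hc, ← mul_assoc, mul_assoc tb, hta2, mul_one]
  have hwa' : wa⁻¹ = wa * ta := inv_eq_of_mul_eq_one_left (by
    calc wa * ta * wa = wa * (wa ^ 2) * wa := by rw [hta]
      _ = wa ^ 2 * wa ^ 2 := by group
      _ = 1 := by rw [hta, hta2])
  have hwb' : wb⁻¹ = wb * tb := inv_eq_of_mul_eq_one_left (by
    calc wb * tb * wb = wb * (wb ^ 2) * wb := by rw [htb]
      _ = wb ^ 2 * wb ^ 2 := by group
      _ = 1 := by rw [htb, htb2])
  have h2 : wa * wb * (wa * wb) = wb * wa * (wb * wa) := by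
    calc wa * wb * (wa * wb) = wa * (wb * wa * wb⁻¹) * wa⁻¹ * wa * wb ^ 2 := by group
      _ = wb * wa⁻¹ * wb⁻¹ * wa * tb := by rw [h, htb]; group
      _ = wb * wa * (ta * wb) * (tb * wa) * tb := by rw [hwa', hwb']; group
      _ = wb * wa * wb * ta * (wa * tb * ta) * tb := by rw [← hwb, e2]; group
      _ = wb * wa * wb * (ta * wa) * tb * (ta * tb) := by group
      _ = wb * wa * wb * wa * (ta * tb * ta) * tb := by
        rw [show ta * wa = wa * ta by rw [← hta, pow_two]; group]; group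
      _ = wb * wa * (wb * wa) := by
        rw [hab, mul_assoc tb, hta2, mul_one, mul_assoc _ tb tb, htb2]; group
  have h1 : (wa * wb) ^ 4 = ta := by
    calc (wa * wb) ^ 4 = wa * wb * (wa * wb) * (wa * wb * (wa * wb)) := by
          simp only [pow_succ, pow_zero, one_mul]; group
      _ = wa * wb * (wa * wb) * (wb * wa * (wb * wa)) := congrArg (_ * ·) h2
      _ = wa * wb * (wa * wb ^ 2) * wa * wb * wa := by rw [pow_two]; group
      _ = wa * (wb * (tb * (ta * wa ^ 2) * wb)) * wa := by rw [htb, e1, pow_two]; group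
      _ = wa * (wb * (tb * wb)) * wa := by rw [hta, hta2, mul_one]
      _ = wa * (wb ^ 2 * tb) * wa := by rw [← htb]; group
      _ = ta := by rw [htb, htb2, mul_one, ← pow_two, hta]
  exact ⟨h1, by rw [pow_swap_eq, h1, ← hta]; group⟩

theorem coxeter_G2 (hwa : wa * tb * wa⁻¹ = tb * ta) (hwb : wb * ta * wb⁻¹ = ta * tb)
    (h : wa * (wb * wa * wb * wa⁻¹ * wb⁻¹) * wa⁻¹ = wb * wa * wb * wa⁻¹ * wb⁻¹) :
    (wa * wb) ^ 6 = 1 ∧ (wb * wa) ^ 6 = 1 := by
  have htb' : tb⁻¹ = tb := inv_eq_of_mul_eq_one_left htb2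
  have hta' : ta⁻¹ = ta := inv_eq_of_mul_eq_one_left hta2
  set P := wa * wb with hP
  have hca : wa * ta * wa⁻¹ = ta := by rw [← hta, pow_two]; group
  have hcb : wb * tb * wb⁻¹ = tb := by rw [← htb, pow_two]; group
  have pa : P * ta * P⁻¹ = tb := by
    calc P * ta * P⁻¹ = (wa * ta * wa⁻¹) * (wa * tb * wa⁻¹) := by
          rw [hP, show wa * wb * ta * (wa * wb)⁻¹ = wa * (wb * ta * wb⁻¹) * wa⁻¹ by group, hwb]; group
      _ = tb := by rw [hca, hwa, ← mul_assoc, hab, mul_assoc, hta2, mul_one]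
  have pb : P * tb * P⁻¹ = tb * ta := by
    rw [hP, show wa * wb * tb * (wa * wb)⁻¹ = wa * (wb * tb * wb⁻¹) * wa⁻¹ by group, hcb, hwa]
  have pab : P * (tb * ta) * P⁻¹ = ta := by
    rw [conj_mul', pa, pb, mul_assoc, ← mul_assoc tb, mul_assoc]
    rw [hab, ← mul_assoc tb tb ta, htb2, one_mul]
  have q : (wb * wa)⁻¹ = tb * P := by
    have hwa' : wa⁻¹ = ta * wa := inv_eq_of_mul_eq_one_left (by rw [mul_assoc, ← pow_two, hta, hta2])
    have hwb' : wb⁻¹ = tb * wb := inv_eq_of_mul_eq_one_left (by rw [mul_assoc, ← pow_two, htb, htb2])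
    calc (wb * wa)⁻¹ = ta * (wa * tb) * wb := by rw [mul_inv_rev, hwa', hwb']; group
      _ = ta * (tb * ta) * wa * wb := by rw [show wa * tb = tb * ta * wa by rw [← hwa]; group]; group
      _ = _ := by rw [← mul_assoc ta, hab, mul_assoc tb ta, hta2, mul_one, hP]; group
  have h4 : (tb * P) ^ 4 = tb * P ^ 4 := by
    calc (tb * P) ^ 4 = tb * (P * tb * P⁻¹) * (P * (P * tb * P⁻¹) * P⁻¹) *
          (P * (P * (P * tb * P⁻¹) * P⁻¹) * P⁻¹) * P ^ 4 := by simp only [pow_succ, pow_zero, one_mul]; group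
      _ = tb * (tb * ta) * ta * tb * P ^ 4 := by rw [pb, pab, pa]
      _ = _ := by rw [← mul_assoc tb tb ta, htb2, one_mul, hta2, one_mul]
  have hsq : P ^ 2 = ta * ((wb * wa) ^ 4) := by
    calc P ^ 2 = wa * (wb * wa * wb * wa⁻¹ * wb⁻¹) * wa⁻¹ * (wa * wb * wa) := by rw [hP, pow_two]; group
      _ = wb * wa * wb * (wa⁻¹ * wb⁻¹) * (wa * wb * wa) := by rw [h]; group
      _ = wb * wa * wb * (tb * (wa * wb)) * (wa * wb * wa) := by rw [← mul_inv_rev, q]
      _ = wb * (wa * (wb * tb * wb⁻¹) * wa⁻¹) * wa * wb * wa * wb * wa * wb * wa := by group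
      _ = (wb * tb * wb⁻¹) * (wb * ta * wb⁻¹) * ((wb * wa) ^ 4) := by
        conv_lhs => rw [hcb, hwa]
        simp only [pow_succ, pow_zero, one_mul]; group
      _ = _ := by rw [hcb, hwb, ← mul_assoc tb, ← hab, mul_assoc ta tb tb, htb2, mul_one]
  have h1 : P ^ 6 = 1 := by
    have e : (wb * wa) ^ 4 = ((tb * P) ^ 4)⁻¹ := by rw [← q, inv_pow, inv_inv]
    rw [e, h4, mul_inv_rev, htb'] at hsq
    calc P ^ 6 = P ^ 2 * P ^ 4 := by group
      _ = ta * ((P ^ 4)⁻¹ * tb * P ^ 4) := by rw [hsq]; group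
      _ = ta * ta := by
        congr 1
        calc (P ^ 4)⁻¹ * tb * P ^ 4 = (P ^ 4)⁻¹ * (P * (P * (P * (P * ta * P⁻¹) * P⁻¹) * P⁻¹) * P⁻¹) * P ^ 4 := by
              rw [pa, pb, pab, pa]
          _ = ta := by simp only [pow_succ, pow_zero, one_mul]; group
      _ = 1 := hta2
  exact ⟨h1, by rw [pow_swap_eq, ← hP, h1]; group⟩

end

end Groth.Agent.Rank2Red38
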