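import Groth.Agent.Rank2Red38.AlgA2B2

/-! Structure constants of the rank-two system G2, computed in an abstract group with one-parameter
subgroups. -/

set_option autoImplicit false

namespace Groth.Agent.Rank2Red38.G2

variable {R G : Type*} [CommRing R] [Group G]

/-- The ordered product of the subgroups of `b`, `a+b`, `2a+b`, `3a+b`, `3a+2b`. -/
def prod5 (b m₁ m₂ m₃ m₄ : R → G) (x p q r s : R) : G := b x * m₁ p * m₂ q * m₃ r * m₄ s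

/-- The constants of a system of type G2. -/
structure Consts (R : Type*) where
  (C1 C2 C3 C4 G0 H K M L N : R)
  (E E2 E3 E4 E5 e1 Q P T U V Lq W : R)

/-- The data of a system of type G2, `a` short. -/
structure Data (a na b nb m₁ m₂ m₃ m₄ : R → G) (κ : Consts R) : Prop where
  ha : IsOneParam a
  hb : IsOneParam b
  h1 : IsOneParam m₁
  h2 : IsOneParam m₂
  h3 : IsOneParam m₃
  h4 : IsOneParam m₄
  def1 : ∀ x, m₁ x = weylElt b nb * a x * (weylElt b nb)⁻¹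
  def2 : ∀ x, m₂ x = weylElt a na * m₁ x * (weylElt a na)⁻¹
  def3 : ∀ x, m₃ x = weylElt a na * b (-x) * (weylElt a na)⁻¹
  def4 : ∀ x, m₄ x = weylElt b nb * m₃ x * (weylElt b nb)⁻¹
  b1 : ∀ x y, b x * m₁ y = m₁ y * b x
  b2 : ∀ x y, b x * m₂ y = m₂ y * b x
  b4 : ∀ x y, b x * m₄ y = m₄ y * b x
  c13 : ∀ x y, m₁ x * m₃ y = m₃ y * m₁ x
  c14 : ∀ x y, m₁ x * m₄ y = m₄ y * m₁ x
  c23 : ∀ x y, m₂ x * m₃ y = m₃ y * m₂ x
  c24 : ∀ x y, m₂ x * m₄ y = m₄ y * m₂ x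
  c34 : ∀ x y, m₃ x * m₄ y = m₄ y * m₃ x
  a3 : ∀ x y, a x * m₃ y = m₃ y * a x
  a4 : ∀ x y, a x * m₄ y = m₄ y * a x
  a_nb : ∀ x y, a x * nb y = nb y * a x
  m2_nb : ∀ x y, m₂ x * nb y = nb y * m₂ x
  m3_nb : ∀ x y, m₃ x * nb y = nb y * m₃ x
  b_na : ∀ x y, b x * na y = na y * b x
  m4_na : ∀ x y, m₄ x * na y = na y * m₄ x
  b_a : ∀ x y, b y * a x = a x * b y * m₁ (κ.C1 * x * y) * m₂ (κ.C2 * x ^ 2 * y) *
    m₃ (κ.C3 * x ^ 3 * y) * m₄ (κ.C4 * x ^ 3 * y ^ 2)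
  m1_a : ∀ x y, m₁ y * a x = a x * m₁ y * m₂ (κ.G0 * x * y) * m₃ (κ.H * x ^ 2 * y) * m₄ (κ.K * x * y ^ 2)
  m2_a : ∀ x y, m₂ y * a x = a x * m₂ y * m₃ (κ.M * x * y)
  m3_b : ∀ x y, m₃ y * b x = b x * m₃ y * m₄ (κ.L * x * y)
  m2_m1 : ∀ x y, m₂ y * m₁ x = m₁ x * m₂ y * m₄ (κ.N * x * y)
  nb_m1 : ∀ z, (nb 1)⁻¹ * m₁ z * nb 1 =
    a (κ.E * z) * prod5 b m₁ m₂ m₃ m₄ 0 z (κ.E2 * z ^ 2) (κ.E3 * z ^ 3) (κ.E4 * z ^ 3)
  nb_m4 : ∀ z, (nb 1)⁻¹ * m₄ z * nb 1 = prod5 b m₁ m₂ m₃ m₄ 0 0 0 (κ.E5 * z) z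
  na_m1 : ∀ z, (na 1)⁻¹ * m₁ z * na 1 = prod5 b m₁ m₂ m₃ m₄ (κ.e1 * z) z 0 0 0
  na_m2 : ∀ z, (na 1)⁻¹ * m₂ z * na 1 = prod5 b m₁ m₂ m₃ m₄ (κ.Q * z) (κ.P * z) z 0 (κ.T * z ^ 2)
  na_m3 : ∀ z, (na 1)⁻¹ * m₃ z * na 1 =
    prod5 b m₁ m₂ m₃ m₄ (κ.U * z) (κ.V * z) (κ.Lq * z) z (κ.W * z ^ 2)
  inj : ∀ x p q r s x' p' q' r' s', prod5 b m₁ m₂ m₃ m₄ x p q r s = prod5 b m₁ m₂ m₃ m₄ x' p' q' r' s' →
    x = x' ∧ p = p' ∧ q = q' ∧ r = r' ∧ s = s'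
  inj' : ∀ x p q r s x' p' q' r' s', a x * prod5 b m₁ m₂ m₃ m₄ 0 p q r s = a x' * prod5 b m₁ m₂ m₃ m₄ 0 p' q' r' s' →
    x = x' ∧ p = p' ∧ q = q' ∧ r = r' ∧ s = s'

namespace Data

variable {a na b nb m₁ m₂ m₃ m₄ : R → G} {κ : Consts R} (D : Data a na b nb m₁ m₂ m₃ m₄ κ)
include D

local notation "X" => prod5 b m₁ m₂ m₃ m₄

theorem mul_b (x p q r s x' : R) : X x p q r s * b x' = X (x + x') p q r (s + κ.L * x' * r) := by
  simp only [prod5]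
  rw [D.hb, D.h4]
  calc b x * m₁ p * m₂ q * m₃ r * m₄ s * b x'
      = b x * m₁ p * m₂ q * (m₃ r * b x') * m₄ s := by rw [mul_assoc _ (m₄ s), ← D.b4]; group
    _ = b x * m₁ p * (m₂ q * b x') * m₃ r * m₄ (κ.L * x' * r) * m₄ s := by rw [D.m3_b]; group
    _ = b x * (m₁ p * b x') * m₂ q * m₃ r * m₄ (κ.L * x' * r) * m₄ s := by rw [← D.b2]; group
    _ = _ := by rw [← D.b1, mul_assoc _ (m₄ _) (m₄ s), D.h4.comm]; group

theorem mul_m1 (x p q r s p' : R) : X x p q r s * m₁ p' = X x (p + p') q r (s + κ.N * p' * q) := by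
  simp only [prod5]
  rw [D.h1, D.h4]
  calc b x * m₁ p * m₂ q * m₃ r * m₄ s * m₁ p'
      = b x * m₁ p * m₂ q * (m₃ r * m₁ p') * m₄ s := by rw [mul_assoc _ (m₄ s), ← D.c14]; group
    _ = b x * m₁ p * (m₂ q * m₁ p') * m₃ r * m₄ s := by rw [← D.c13]; group
    _ = b x * m₁ p * m₁ p' * m₂ q * (m₄ (κ.N * p' * q) * m₃ r) * m₄ s := by rw [D.m2_m1]; group
    _ = b x * m₁ p * m₁ p' * m₂ q * m₃ r * (m₄ (κ.N * p' * q) * m₄ s) := by rw [← D.c34]; group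
    _ = _ := by rw [D.h4.comm]; group

theorem mul_m2 (x p q r s q' : R) : X x p q r s * m₂ q' = X x p (q + q') r s := by
  simp only [prod5]
  rw [D.h2]
  calc b x * m₁ p * m₂ q * m₃ r * m₄ s * m₂ q'
      = b x * m₁ p * m₂ q * (m₃ r * m₂ q') * m₄ s := by rw [mul_assoc _ (m₄ s), ← D.c24]; group
    _ = _ := by rw [← D.c23]; group

theorem mul_m3 (x p q r s r' : R) : X x p q r s * m₃ r' = X x p q (r + r') s := by
  simp only [prod5]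
  rw [D.h3, mul_assoc _ (m₄ s), ← D.c34]; group

theorem mul_m4 (x p q r s s' : R) : X x p q r s * m₄ s' = X x p q r (s + s') := by
  simp only [prod5]
  rw [D.h4]; group

theorem mul (x p q r s x' p' q' r' s' : R) : X x p q r s * X x' p' q' r' s' =
    X (x + x') (p + p') (q + q') (r + r') (s + κ.L * x' * r + κ.N * p' * q + s') := by
  rw [show X x' p' q' r' s' = b x' * m₁ p' * m₂ q' * m₃ r' * m₄ s' from rfl]
  simp only [← mul_assoc, D.mul_b, D.mul_m1, D.mul_m2, D.mul_m3, D.mul_m4]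

theorem x_b (x : R) : b x = X x 0 0 0 0 := by
  simp only [prod5, D.h1.zero, D.h2.zero, D.h3.zero, D.h4.zero, mul_one]

theorem x_1 (x : R) : m₁ x = X 0 x 0 0 0 := by
  simp only [prod5, D.hb.zero, D.h2.zero, D.h3.zero, D.h4.zero, mul_one, one_mul]

theorem x_2 (x : R) : m₂ x = X 0 0 x 0 0 := by
  simp only [prod5, D.hb.zero, D.h1.zero, D.h3.zero, D.h4.zero, mul_one, one_mul]

theorem x_3 (x : R) : m₃ x = X 0 0 0 x 0 := by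
  simp only [prod5, D.hb.zero, D.h1.zero, D.h2.zero, D.h4.zero, mul_one, one_mul]

theorem x_4 (x : R) : m₄ x = X 0 0 0 0 x := by
  simp only [prod5, D.hb.zero, D.h1.zero, D.h2.zero, D.h3.zero, mul_one, one_mul]

/-- Conjugation by the subgroup of `a`. -/
theorem conj_a (t x p q r s : R) : (a t)⁻¹ * X x p q r s * a t =
    X x (κ.C1 * t * x + p) (κ.C2 * t ^ 2 * x + κ.G0 * t * p + q)
      (κ.C3 * t ^ 3 * x + κ.H * t ^ 2 * p + κ.M * t * q + r)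
      (κ.C4 * t ^ 3 * x ^ 2 + κ.K * t * p ^ 2 + κ.N * p * (κ.C2 * t ^ 2 * x) + s) := by
  have hb : (a t)⁻¹ * b x * a t = X x (κ.C1 * t * x) (κ.C2 * t ^ 2 * x) (κ.C3 * t ^ 3 * x) (κ.C4 * t ^ 3 * x ^ 2) := by
    rw [mul_assoc, D.b_a]; simp only [prod5]; group
  have h1 : (a t)⁻¹ * m₁ p * a t = X 0 p (κ.G0 * t * p) (κ.H * t ^ 2 * p) (κ.K * t * p ^ 2) := by
    rw [mul_assoc, D.m1_a]; simp only [prod5, D.hb.zero]; group
  have h2 : (a t)⁻¹ * m₂ q * a t = X 0 0 q (κ.M * t * q) 0 := by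
    rw [mul_assoc, D.m2_a]; simp only [prod5, D.hb.zero, D.h1.zero, D.h4.zero]; group
  rw [show X x p q r s = b x * m₁ p * m₂ q * m₃ r * m₄ s from rfl]
  simp only [inv_conj_mul]
  rw [hb, h1, h2, inv_conj_of_commute (D.a3 t r), inv_conj_of_commute (D.a4 t s), D.x_3, D.x_4]
  simp only [D.mul]
  congr 1 <;> ring

theorem conj_a_one (x p q r s : R) : a 1 * X x p q r s * (a 1)⁻¹ =
    X x (-(κ.C1 * x) + p) (κ.C2 * x - κ.G0 * p + q) (-(κ.C3 * x) + κ.H * p - κ.M * q + r)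
      (-(κ.C4 * x ^ 2) - κ.K * p ^ 2 + κ.N * p * (κ.C2 * x) + s) := by
  have h := D.conj_a (-1) x p q r s
  rw [D.ha.neg, inv_inv] at h
  rw [h]
  congr 1 <;> ring

/-- Conjugation by the negative subgroup of `a`. -/
theorem conj_na (x p q r s : R) : ∃ s', (na 1)⁻¹ * X x p q r s * na 1 =
    X (x + κ.e1 * p + κ.Q * q + κ.U * r) (p + κ.P * q + κ.V * r) (q + κ.Lq * r) r s' := by
  rw [show X x p q r s = b x * m₁ p * m₂ q * m₃ r * m₄ s from rfl]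
  simp only [inv_conj_mul]
  rw [inv_conj_of_commute (D.b_na x 1).symm, D.na_m1, D.na_m2, D.na_m3, inv_conj_of_commute (D.m4_na s 1).symm,
    D.x_b, D.x_4]
  simp only [D.mul]
  simp only [zero_add, add_zero]
  exact ⟨_, rfl⟩

theorem b_conj_a (y : R) : ∃ s', b 1 * a y * (b 1)⁻¹ = a y * X 0 (κ.C1 * y) (κ.C2 * y ^ 2) (κ.C3 * y ^ 3) s' := by
  refine ⟨κ.C4 * y ^ 3 * 1 ^ 2 + κ.L * -1 * (κ.C3 * y ^ 3), ?_⟩
  rw [← D.hb.neg, D.x_b (-1), D.b_a]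
  simp only [mul_one]
  rw [show a y * b 1 * m₁ (κ.C1 * y) * m₂ (κ.C2 * y ^ 2) * m₃ (κ.C3 * y ^ 3) * m₄ (κ.C4 * y ^ 3 * 1 ^ 2) =
    a y * X 1 (κ.C1 * y) (κ.C2 * y ^ 2) (κ.C3 * y ^ 3) (κ.C4 * y ^ 3 * 1 ^ 2) by simp only [prod5]; group]
  rw [mul_assoc, D.mul, add_neg_cancel]
  simp only [add_zero, mul_zero, zero_mul]

theorem L_eq : κ.L = -1 := by
  have h := D.def4 1
  rw [weylElt_conj, D.x_3 1, ← D.hb.neg, D.x_b 1, D.x_b (-1)] at h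
  rw [D.mul, D.mul] at h
  simp only [prod5, D.hb.zero, D.h1.zero, D.h2.zero, mul_one, one_mul, mul_zero, zero_mul, add_zero, zero_add,
    add_neg_cancel] at h
  rw [inv_conj_mul, inv_conj_of_commute (D.m3_nb 1 1).symm, D.nb_m4, D.x_3 1] at h
  rw [show b 1 * m₃ 0 * m₄ 0 = X 1 0 0 0 0 by simp only [prod5, D.h1.zero, D.h2.zero, mul_one],
    show b (-1) * m₃ 0 * m₄ 0 = X (-1) 0 0 0 0 by simp only [prod5, D.h1.zero, D.h2.zero, mul_one]] at h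
  simp only [D.mul, D.x_4 1] at h
  obtain ⟨-, -, -, e3, e4⟩ := D.inj _ _ _ _ _ _ _ _ _ _ h
  simp only [mul_zero, zero_mul, add_zero, zero_add] at e3 e4
  linear_combination e4 + κ.L * e3

theorem C1_eq : κ.C1 = 1 := by
  have h := D.def1 1
  obtain ⟨t, ht⟩ := D.b_conj_a 1
  rw [weylElt_conj, ht, inv_conj_mul, inv_conj_of_commute (D.a_nb 1 1).symm,
    show X 0 (κ.C1 * 1) (κ.C2 * 1 ^ 2) (κ.C3 * 1 ^ 3) t =
      m₁ (κ.C1 * 1) * m₂ (κ.C2 * 1 ^ 2) * m₃ (κ.C3 * 1 ^ 3) * m₄ t by simp only [prod5, D.hb.zero, one_mul]] at h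
  simp only [inv_conj_mul] at h
  rw [D.nb_m1, inv_conj_of_commute (D.m2_nb _ 1).symm, inv_conj_of_commute (D.m3_nb _ 1).symm, D.nb_m4, D.x_2,
    D.x_3] at h
  simp only [mul_assoc (a (κ.E * (κ.C1 * 1))), D.mul] at h
  rw [← mul_assoc (a 1), ← D.ha, conj_mul', ← D.hb.neg, D.x_b 1, D.x_b (-1)] at h
  obtain ⟨u, hu⟩ := D.b_conj_a (1 + κ.E * (κ.C1 * 1))
  rw [← D.x_b 1, ← D.x_b (-1), D.hb.neg, hu] at h
  rw [← D.hb.neg, D.x_b 1, D.x_b (-1)] at h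
  simp only [mul_assoc (a _), D.mul] at h
  have hm : m₁ 1 = a 0 * X 0 1 0 0 0 := by rw [D.ha.zero, one_mul, ← D.x_1]
  rw [hm] at h
  simp only [zero_add, add_zero, add_neg_cancel] at h
  obtain ⟨e1, e2, -⟩ := D.inj' _ _ _ _ _ _ _ _ _ _ h
  linear_combination κ.C1 * e1 - e2

theorem wa_b : κ.C3 = 1 ∧ κ.Lq = κ.C2 := by
  have h := D.def3 1
  rw [weylElt_conj, D.x_b, D.conj_a_one] at h
  obtain ⟨s', hs⟩ := D.conj_na (-1) (-(κ.C1 * -1) + 0) (κ.C2 * -1 - κ.G0 * 0 + 0)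
    (-(κ.C3 * -1) + κ.H * 0 - κ.M * 0 + 0) (-(κ.C4 * (-1) ^ 2) - κ.K * 0 ^ 2 + κ.N * 0 * (κ.C2 * -1) + 0)
  rw [hs, D.conj_a_one, D.x_3] at h
  obtain ⟨e0, e1, e2, e3, -⟩ := D.inj _ _ _ _ _ _ _ _ _ _ h
  simp only [mul_zero, add_zero, sub_zero, mul_neg, mul_one, neg_neg] at e0 e1 e2 e3
  rw [D.C1_eq] at e0 e1 e2 e3
  have e1' := e1
  simp only [← e0, zero_add, one_mul, neg_zero, mul_zero] at e1'
  simp only [← e0, ← e1', zero_add, one_mul, neg_zero, mul_zero, sub_zero] at e2 e3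
  simp only [← e2, mul_zero, sub_zero] at e3
  exact ⟨by linear_combination -e3, by linear_combination -e2 + κ.Lq * e3⟩

theorem wa_m1 : -κ.G0 + κ.Lq * κ.H = 1 ∧ κ.H = κ.M := by
  have h := D.def2 1
  rw [weylElt_conj, D.x_1, D.conj_a_one] at h
  obtain ⟨s', hs⟩ := D.conj_na 0 (-(κ.C1 * 0) + 1) (κ.C2 * 0 - κ.G0 * 1 + 0)
    (-(κ.C3 * 0) + κ.H * 1 - κ.M * 0 + 0) (-(κ.C4 * 0 ^ 2) - κ.K * 1 ^ 2 + κ.N * 1 * (κ.C2 * 0) + 0)
  rw [hs, D.conj_a_one, D.x_2] at h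
  obtain ⟨e0, e1, e2, e3, -⟩ := D.inj _ _ _ _ _ _ _ _ _ _ h
  simp only [mul_zero, add_zero, sub_zero, zero_sub, zero_add, neg_zero, mul_one] at e0 e1 e2 e3
  simp only [← e0, mul_zero, neg_zero, zero_add] at e1 e2 e3
  simp only [← e1, mul_zero, sub_zero, zero_add] at e2 e3
  exact ⟨by linear_combination -e2, by linear_combination -e3 - κ.M * e2⟩

/-- Associativity in the parameter of `a`. -/
theorem assoc_x (t t' : R) :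
    κ.C2 * (t + t') ^ 2 = κ.C2 * t ^ 2 + κ.G0 * t' * t + κ.C2 * t' ^ 2 ∧
    κ.C3 * (t + t') ^ 3 = κ.C3 * t' ^ 3 + κ.H * t' ^ 2 * t + κ.M * t' * (κ.C2 * t ^ 2) + κ.C3 * t ^ 3 ∧
    κ.C4 * (t + t') ^ 3 = κ.C4 * t' ^ 3 + κ.K * t' * t ^ 2 + κ.N * t * (κ.C2 * t' ^ 2) + κ.C4 * t ^ 3 := by
  have h2 : (a (t + t'))⁻¹ * X 1 0 0 0 0 * a (t + t') = (a t')⁻¹ * ((a t)⁻¹ * X 1 0 0 0 0 * a t) * a t' := by
    rw [D.ha]; group
  rw [D.conj_a, D.conj_a, D.conj_a] at h2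
  obtain ⟨-, -, e2, e3, e4⟩ := D.inj _ _ _ _ _ _ _ _ _ _ h2
  rw [D.C1_eq] at e2 e3 e4
  exact ⟨by linear_combination e2, by linear_combination e3, by linear_combination e4⟩

theorem C2_eq : κ.C2 = 1 ∧ κ.G0 = 2 ∧ κ.H = 3 ∧ κ.M = 3 := by
  obtain ⟨hC3, hLq⟩ := D.wa_b
  obtain ⟨hG, hHM⟩ := D.wa_m1
  obtain ⟨p1, p2, -⟩ := D.assoc_x 1 1
  obtain ⟨-, q2, -⟩ := D.assoc_x 1 (-1)
  rw [hLq] at hG
  rw [hC3, ← hHM] at p2 q2
  have gG : κ.G0 = 2 * κ.C2 := by linear_combination -p1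
  have g1 : κ.H * (1 - κ.C2) = 0 := by linear_combination -q2
  have g2 : 2 * κ.H = 6 := by linear_combination g1 - p2
  have g3 : κ.H = 1 + 2 * κ.C2 := by linear_combination g1 + hG + gG
  have g4 : 4 * κ.C2 = 4 := by linear_combination g2 - 2 * g3
  have g5 : 1 + κ.C2 - 2 * κ.C2 ^ 2 = 0 := by linear_combination g1 - (1 - κ.C2) * g3
  have g6 : 2 * κ.C2 = 2 := by linear_combination 2 * g5 + (κ.C2 + 1) * g4
  have g7 : κ.C2 = 1 := by linear_combination g5 + (κ.C2 + 1) * g6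
  exact ⟨g7, by linear_combination gG + 2 * g7, by linear_combination g3 + 2 * g7,
    by linear_combination -hHM + g3 + 2 * g7⟩

theorem N_K_eq : κ.N = 3 ∧ κ.K = 3 ∧ ∀ z : R, (κ.C4 - 1) * (z + z ^ 2) = 0 := by
  obtain ⟨hC3, -⟩ := D.wa_b
  obtain ⟨hC2, -⟩ := D.C2_eq
  have hy : 2 * κ.C4 = κ.N - 1 := by
    have h1 := D.conj_a 1 (1 + 1) 0 0 0 0
    have h2 : (a 1)⁻¹ * X (1 + 1) 0 0 0 0 * a 1 =
        ((a 1)⁻¹ * X 1 0 0 0 0 * a 1) * ((a 1)⁻¹ * X 1 0 0 0 0 * a 1) := by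
      rw [← D.x_b, ← D.x_b, D.hb]; group
    rw [h1, D.conj_a, D.mul] at h2
    obtain ⟨-, -, -, -, e⟩ := D.inj _ _ _ _ _ _ _ _ _ _ h2
    rw [D.C1_eq, hC2, hC3, D.L_eq] at e
    linear_combination e
  have h3 := fun t => (D.assoc_x 1 t).2.2
  rw [hC2] at h3
  have hKN : κ.K = κ.N := by linear_combination h3 (-1)
  have h6 : 6 * κ.C4 = κ.K + κ.N := by linear_combination h3 1
  have h2 : 2 * κ.C4 = 2 := by linear_combination h6 + hKN - 2 * hy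
  have hN : κ.N = 3 := by linear_combination h2 - hy
  refine ⟨hN, by linear_combination hKN + hN, fun z => ?_⟩
  linear_combination h3 z - (z + z ^ 2) * h2 + z * hKN + (z + z ^ 2) * hN

end Data

end Groth.Agent.Rank2Red38.G2
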