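import Groth.Agent.Rank2Red38.Span

/-! Alternating chains of descents along two simple reflections. -/

set_option autoImplicit false

universe u

open CategoryTheory CategoryTheory.Limits AlgebraicGeometry MonoidalCategory CartesianMonoidalCategory
open scoped MonObj Classical

noncomputable section

namespace Groth.Agent.Rank2Red38

open GrpSchLib

/-- The first `n` steps of the alternating chain descend; `x`, `y` are the pairings with the two letters and
`p`, `q` the Cartan numbers. -/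
def Desc : ℕ → ℤ → ℤ → ℤ → ℤ → Prop
  | 0, _, _, _, _ => True
  | n + 1, p, q, x, y => 0 < x ∧ Desc n q p (y - x * q) (-x)

/-- The pairing with the next letter at the end of the chain. -/
def nextVal : ℕ → ℤ → ℤ → ℤ → ℤ → ℤ
  | 0, _, _, x, _ => x
  | n + 1, p, q, x, y => nextVal n q p (y - x * q) (-x)

/-- The total descent along the two letters. -/
def coef : ℕ → ℤ → ℤ → ℤ → ℤ → ℤ × ℤ
  | 0, _, _, _, _ => (0, 0)
  | n + 1, p, q, x, y => (x + (coef n q p (y - x * q) (-x)).2, (coef n q p (y - x * q) (-x)).1)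

/-- The Cartan numbers of two simple roots and the order of the product of their reflections. -/
def IsType (p q : ℤ) (m : ℕ) : Prop :=
  (p = 0 ∧ q = 0 ∧ m = 2) ∨ (p = -1 ∧ q = -1 ∧ m = 3) ∨ (p = -2 ∧ q = -1 ∧ m = 4) ∨ (p = -1 ∧ q = -2 ∧ m = 4) ∨
    (p = -3 ∧ q = -1 ∧ m = 6) ∨ (p = -1 ∧ q = -3 ∧ m = 6)

theorem IsType.m_cases {p q : ℤ} {m : ℕ} (h : IsType p q m) : m = 2 ∨ m = 3 ∨ m = 4 ∨ m = 6 := by
  rcases h with h | h | h | h | h | h <;> omega

theorem IsType.swap {p q : ℤ} {m : ℕ} (h : IsType p q m) : IsType q p m := by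
  unfold IsType at *; omega

theorem IsType.desc {p q : ℤ} {m : ℕ} (h : IsType p q m) {x y : ℤ} (hx : 0 < x) (hy : 0 < y) :
    Desc m p q x y := by
  rcases h with ⟨rfl, rfl, rfl⟩ | ⟨rfl, rfl, rfl⟩ | ⟨rfl, rfl, rfl⟩ | ⟨rfl, rfl, rfl⟩ | ⟨rfl, rfl, rfl⟩ |
    ⟨rfl, rfl, rfl⟩ <;> simp only [Desc, and_true] <;> omega

theorem IsType.coef_swap {p q : ℤ} {m : ℕ} (h : IsType p q m) (x y : ℤ) :
    coef m p q x y = (coef m q p y x).swap := by
  rcases h with ⟨rfl, rfl, rfl⟩ | ⟨rfl, rfl, rfl⟩ | ⟨rfl, rfl, rfl⟩ | ⟨rfl, rfl, rfl⟩ | ⟨rfl, rfl, rfl⟩ |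
    ⟨rfl, rfl, rfl⟩ <;> simp only [coef, Prod.swap_prod_mk, Prod.mk.injEq] <;> omega

theorem IsType.desc_zero {p q : ℤ} {m : ℕ} (h : IsType p q m) {y : ℤ} (hy : 0 < y) :
    Desc (m - 1) q p y 0 ∧ nextVal (m - 1) q p y 0 = 0 := by
  rcases h with ⟨rfl, rfl, rfl⟩ | ⟨rfl, rfl, rfl⟩ | ⟨rfl, rfl, rfl⟩ | ⟨rfl, rfl, rfl⟩ | ⟨rfl, rfl, rfl⟩ |
    ⟨rfl, rfl, rfl⟩ <;> simp only [Desc, nextVal, and_true, Nat.reduceSub] <;> omega

variable {S : Scheme.{u}} {G : Over S} [GrpObj G] {D : Red.Pinning G}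

local notation "ht" => D.base.height

variable (D) in
/-- The end of the chain of `n` alternating reflections. -/
def endR (a b : D.idx) : ℕ → D.idx → D.idx
  | 0, c => c
  | n + 1, c => endR b a n (D.P.reflectionPerm a c)

variable (D) in
/-- `c` lies in the span of `a` and `b`. -/
def InSpan (a b c : D.idx) : Prop := ∃ i j : ℤ, D.P.root c = i • D.P.root a + j • D.P.root b

theorem InSpan.swap {a b c : D.idx} : InSpan D a b c → InSpan D b a c := fun ⟨i, j, h⟩ => ⟨j, i, by rw [h, add_comm]⟩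

theorem InSpan.of_reflect {a b c : D.idx} (h : InSpan D a b (D.P.reflectionPerm a c)) : InSpan D a b c := by
  obtain ⟨i, j, h⟩ := h
  exact ⟨i + D.P.pairing c a, j, by rw [root_reflect, sub_eq_iff_eq_add] at h; rw [h]; module⟩

theorem off_of_not_inSpan {a b c : D.idx} (h : ¬InSpan D a b c) : Off D a c :=
  ⟨fun e => h ⟨1, 0, by simp [e]⟩, fun e => h ⟨-1, 0, by
    rw [e, show D.P.root (neg' D.toSplitRed a) = _ from root_neg' D.toSplitRed a]; simp⟩⟩

theorem chain_rep (n : ℕ) {a b : D.idx} (ha : a ∈ D.base.support) (hb : b ∈ D.base.support) (c : D.idx)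
    {σ : ℤ} (hσ : σ = 1 ∨ σ = -1) (hs : 0 < σ * ht c) (hspan : ¬InSpan D a b c)
    (hdesc : Desc n (D.P.pairing b a) (D.P.pairing a b) (σ * D.P.pairing c a) (σ * D.P.pairing c b)) :
    ((ht (endR D a b n c)).natAbs + n ≤ (ht c).natAbs) ∧ 0 < σ * ht (endR D a b n c) ∧
      (∀ χ, Rep D (endR D a b n c) χ → Rep D c (act (alt (Wf D a) (Wf D b) n) χ)) ∧
      D.P.root (endR D a b n c) = D.P.root c -
        ((σ * (coef n (D.P.pairing b a) (D.P.pairing a b) (σ * D.P.pairing c a) (σ * D.P.pairing c b)).1) • D.P.root a +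
         (σ * (coef n (D.P.pairing b a) (D.P.pairing a b) (σ * D.P.pairing c a) (σ * D.P.pairing c b)).2) • D.P.root b) ∧
      σ * D.P.pairing (endR D a b n c) (if n % 2 = 0 then a else b) =
        nextVal n (D.P.pairing b a) (D.P.pairing a b) (σ * D.P.pairing c a) (σ * D.P.pairing c b) := by
  induction n generalizing a b c with
  | zero => exact ⟨le_rfl, hs, fun χ h => by simpa [alt, act_one, endR] using h, by simp [coef, endR], by simp [endR, nextVal]⟩
  | succ n ih =>
    obtain ⟨h1, h2⟩ := hdesc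
    have hoff := off_of_not_inSpan hspan
    have hp : 0 < ht c * D.P.pairing c a := (mul_pos_sgn hσ hs).mpr h1
    have ex : σ * D.P.pairing (D.P.reflectionPerm a c) b =
        σ * D.P.pairing c b - σ * D.P.pairing c a * D.P.pairing a b := by rw [pairing_reflect]; ring
    have ey : σ * D.P.pairing (D.P.reflectionPerm a c) a = -(σ * D.P.pairing c a) := by
      rw [pairing_reflect, RootPairing.pairing_same]; ring
    obtain ⟨i1, i2, i3, i4, i5⟩ := ih hb ha (D.P.reflectionPerm a c) (sgn_reflect hσ ha hoff hs)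
      (fun h => hspan h.swap.of_reflect) (by rw [ex, ey]; exact h2)
    rw [ex, ey] at i4 i5
    refine ⟨?_, i2, fun χ h => ?_, ?_, ?_⟩
    · have := natAbs_height_reflect ha hoff hp
      show (ht (endR D b a n (D.P.reflectionPerm a c))).natAbs + (n + 1) ≤ _
      omega
    · show Rep D c (act (Wf D a * alt (Wf D b) (Wf D a) n) χ)
      rw [act_mul]
      exact .step ha hoff hp (i3 χ h)
    · refine i4.trans ?_
      rw [root_reflect]
      have e : σ * (σ * D.P.pairing c a) = D.P.pairing c a := by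
        rcases hσ with rfl | rfl <;> ring
      simp only [coef, mul_add, e, add_smul]
      abel
    · refine Eq.trans ?_ i5
      show σ * D.P.pairing (endR D b a n (D.P.reflectionPerm a c)) _ = _
      rcases Nat.mod_two_eq_zero_or_one n with h | h <;> simp [h, Nat.add_mod]

theorem root_lin_pairing {a b c : D.idx} {i j : ℤ} (h : D.P.root c = i • D.P.root a + j • D.P.root b) (d : D.idx) :
    D.P.pairing c d = i * D.P.pairing a d + j * D.P.pairing b d := by
  simp only [pairing_eq_apply D.toSplitRed]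
  rw [h, map_add, map_zsmul, map_zsmul, smul_eq_mul, smul_eq_mul]

theorem root_lin_height {a b c : D.idx} (ha : a ∈ D.base.support) (hb : b ∈ D.base.support) {i j : ℤ}
    (h : D.P.root c = i • D.P.root a + j • D.P.root b) : ht c = i + j := by
  have h1 : twoRho D (D.P.root c) = twoRho D (i • D.P.root a + j • D.P.root b) := by rw [h]
  rw [twoRho_height, map_add, map_zsmul, map_zsmul, twoRho_root D ha, twoRho_root D hb, smul_eq_mul, smul_eq_mul] at h1
  omega

theorem reflect_fix {a c : D.idx} (h : D.P.pairing c a = 0) : D.P.reflectionPerm a c = c :=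
  eq_of_root_eq (by rw [root_reflect, h, zero_smul, sub_zero])

theorem coxeter_mem (hd : ∀ c ∈ D.base.support, IsDual D.toSplitRed c) {a b : D.idx} (ha : a ∈ D.base.support)
    (hb : b ∈ D.base.support) (hne : a ≠ b) :
    ∃ m, IsType (D.P.pairing b a) (D.P.pairing a b) m ∧
      (alt (Wf D a) (Wf D b) m)⁻¹ * alt (Wf D b) (Wf D a) m ∈ TS D := by
  have hq := D.P.pairingIn_pairingIn_mem_set_of_isCrystallographic b a
  have h1 := pairing_simple_nonpos ha hb hne
  have h2 := pairing_simple_nonpos hb ha hne.symm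
  have h4 : D.P.coxeterWeightIn ℤ b a ≠ 4 := by
    rw [ne_eq, D.P.coxeterWeightIn_eq_four_iff_not_linearIndependent (S := ℤ), not_not, LinearIndependent.pair_iff]
    exact fun i j h => (indep_of_simple hb ha hne.symm i j h)
  have h4' : D.P.pairing b a * D.P.pairing a b ≠ 4 := by
    rw [← pairingIn_eq_pairing D.toSplitRed, ← pairingIn_eq_pairing D.toSplitRed]
    exact h4
  simp only [pairingIn_eq_pairing D.toSplitRed, Set.mem_insert_iff, Set.mem_singleton_iff, Prod.mk.injEq] at hq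
  have hq' : ∃ m, IsType (D.P.pairing b a) (D.P.pairing a b) m := by
    rcases hq with h | h | h | h | h | h | h | h | h | h | h | h | h | h | h | h | h <;> obtain ⟨e1, e2⟩ := h <;>
      first
        | omega
        | (rw [e1, e2] at h4'; exact absurd rfl h4')
        | (rw [e1, e2]
           first
            | exact ⟨2, by unfold IsType; omega⟩
            | exact ⟨3, by unfold IsType; omega⟩
            | exact ⟨4, by unfold IsType; omega⟩
            | exact ⟨6, by unfold IsType; omega⟩)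
  obtain ⟨m, hm⟩ := hq'
  refine ⟨m, hm, alt_inv_mul_mem _ (fun z hz => Wf_conj_mem (hd a ha) hz) (fun z hz => Wf_conj_mem' (hd a ha) hz)
    (fun z hz => Wf_conj_mem (hd b hb) hz) (fun z hz => Wf_conj_mem' (hd b hb) hz)
    (Wf_sq (hd a ha) ▸ Zf_mem a) (Wf_sq (hd b hb) ▸ Zf_mem b) hm.m_cases ?_⟩
  have N := hasNormalForm D.toSplitRed
  rcases hm with ⟨e1, e2, rfl⟩ | ⟨e1, e2, rfl⟩ | ⟨e1, e2, rfl⟩ | ⟨e1, e2, rfl⟩ | ⟨e1, e2, rfl⟩ | ⟨e1, e2, rfl⟩
  · have e : (Wf D a * Wf D b) ^ 2 = Zf D a * Zf D b :=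
      funext fun X => (A1A1_coxeter N ha hb hne e1 e2 (hd a ha) (hd b hb) X).1
    rw [e]; exact mul_mem (Zf_mem a) (Zf_mem b)
  · have e : (Wf D a * Wf D b) ^ 3 = 1 :=
      funext fun X => (A2Pinned.coxeter N ha hb hne e1 e2 (hd a ha) (hd b hb) X).1
    rw [e]; exact one_mem _
  · have e : (Wf D a * Wf D b) ^ 4 = Zf D a :=
      funext fun X => (B2Pinned.coxeter ha hb hne N e1 e2 (hd a ha) (hd b hb) X).1
    rw [e]; exact Zf_mem a
  · have e : (Wf D a * Wf D b) ^ 4 = Zf D b :=
      funext fun X => (B2Pinned.coxeter hb ha hne.symm N e2 e1 (hd b hb) (hd a ha) X).2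
    rw [e]; exact Zf_mem b
  · have e : (Wf D a * Wf D b) ^ 6 = 1 :=
      funext fun X => (G2Pinned.coxeter ha hb hne N e1 e2 (hd a ha) (hd b hb) X).1
    rw [e]; exact one_mem _
  · have e : (Wf D a * Wf D b) ^ 6 = 1 :=
      funext fun X => (G2Pinned.coxeter hb ha hne.symm N e2 e1 (hd b hb) (hd a ha) X).2
    rw [e]; exact one_mem _

end Groth.Agent.Rank2Red38
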