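import Mathlib.LinearAlgebra.RootSystem.Base

/-! The roots in the span of two simple roots of a root pairing over the integers, by Cartan numbers. -/

set_option autoImplicit false

namespace Groth.Agent.Rank2Red38

variable {ι M N : Type*} [Finite ι] [AddCommGroup M] [AddCommGroup N] [IsAddTorsionFree M]
  [IsAddTorsionFree N] {P : RootPairing ι ℤ M N} (b : P.Base)

/-- `i α + j β` is a root. -/
def IsComb (P : RootPairing ι ℤ M N) (α β : ι) (i j : ℤ) : Prop :=
  i • P.root α + j • P.root β ∈ Set.range P.root

variable {α β : ι}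

omit [Finite ι] [IsAddTorsionFree M] [IsAddTorsionFree N] in
theorem IsComb.reflect_left {i j : ℤ} (h : IsComb P α β i j) :
    IsComb P α β (-i - j * P.pairing β α) j := by
  obtain ⟨c, hc⟩ := h
  refine ⟨P.reflectionPerm α c, ?_⟩
  rw [RootPairing.root_reflectionPerm, hc, map_add, map_zsmul, map_zsmul, RootPairing.reflection_apply_self,
    RootPairing.reflection_apply_root]
  module

omit [Finite ι] [IsAddTorsionFree M] [IsAddTorsionFree N] in
theorem IsComb.swap {i j : ℤ} (h : IsComb P α β i j) : IsComb P β α j i := by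
  unfold IsComb at *; rwa [add_comm]

omit [Finite ι] [IsAddTorsionFree M] [IsAddTorsionFree N] in
theorem IsComb.reflect_right {i j : ℤ} (h : IsComb P α β i j) :
    IsComb P α β i (-j - i * P.pairing α β) :=
  h.swap.reflect_left.swap

variable (hα : α ∈ b.support) (hβ : β ∈ b.support) (hne : α ≠ β)
include b hα hβ hne

omit [Finite ι] [IsAddTorsionFree M] [IsAddTorsionFree N] in
/-- The coefficients of a root have the same sign. -/
theorem IsComb.sign {i j : ℤ} (h : IsComb P α β i j) :
    (0 ≤ i ∧ 0 ≤ j) ∨ (i ≤ 0 ∧ j ≤ 0) := by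
  classical
  let f : ι → ℤ := fun k => if k = α then i else if k = β then j else 0
  have hsub : ({α, β} : Finset ι) ⊆ b.support := by
    simp [Finset.insert_subset_iff, hα, hβ]
  have hf : ∑ k ∈ b.support, f k • P.root k = i • P.root α + j • P.root β := by
    rw [← Finset.sum_subset hsub (fun x _ hx => by
      simp only [Finset.mem_insert, Finset.mem_singleton, not_or] at hx
      simp [f, hx.1, hx.2]), Finset.sum_pair hne]
    simp [f, hne.symm]
  have hf₀ : f.support ⊆ b.support := fun x hx => by
    by_contra hxs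
    have h1 : x ≠ α := fun e => hxs (e ▸ hα)
    have h2 : x ≠ β := fun e => hxs (e ▸ hβ)
    simp [f, h1, h2] at hx
  rcases b.pos_or_neg_of_sum_smul_root_mem f (by rw [hf]; exact h) hf₀ with hp | hp
  · exact Or.inl ⟨by simpa [f] using hp.le α, by simpa [f, hne.symm] using hp.le β⟩
  · exact Or.inr ⟨by simpa [f] using hp.le α, by simpa [f, hne.symm] using hp.le β⟩

omit hne hβ in
/-- The only multiples of a simple root are itself and its opposite. -/
theorem IsComb.left_eq {i : ℤ} (h : IsComb P α β i 0) : i = 1 ∨ i = -1 :=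
  b.eq_one_or_neg_one_of_mem_support_of_smul_mem α hα i (by simpa [IsComb] using h)

omit hne hα in
theorem IsComb.right_eq {j : ℤ} (h : IsComb P α β 0 j) : j = 1 ∨ j = -1 :=
  h.swap.left_eq b hβ

omit [Finite ι] [IsAddTorsionFree M] [IsAddTorsionFree N] in
/-- Roots with coefficients in type A1 × A1. -/
theorem comb_A1A1 {i j : ℤ} (h : IsComb P α β i j) (hba : P.pairing β α = 0) :
    (i = 0 ∨ j = 0) := by
  have h1 := h.sign b hα hβ hne
  have h2 := h.reflect_left.sign b hα hβ hne
  rw [hba] at h2
  omega

/-- Roots with coefficients in type A2. -/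
theorem comb_A2 {i j : ℤ} (hi : 0 < i) (hj : 0 < j) (h : IsComb P α β i j) (hba : P.pairing β α = -1)
    (hab : P.pairing α β = -1) : i = 1 ∧ j = 1 := by
  have h1 := h.reflect_left
  have h2 := h.reflect_right
  rw [hba] at h1
  rw [hab] at h2
  have s1 := h1.sign b hα hβ hne
  have s2 := h2.sign b hα hβ hne
  have e : i = j := by omega
  subst e
  rw [show -i - i * -1 = 0 by ring] at h1
  have := h1.right_eq b hβ
  omega

/-- Roots with coefficients in type B2, the first root short. -/
theorem comb_B2 {i j : ℤ} (hi : 0 < i) (hj : 0 < j) (h : IsComb P α β i j) (hba : P.pairing β α = -2)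
    (hab : P.pairing α β = -1) : j = 1 ∧ (i = 1 ∨ i = 2) := by
  have h1 := h.reflect_left
  have h2 := h.reflect_right
  rw [hba] at h1
  rw [hab] at h2
  have s1 := h1.sign b hα hβ hne
  have s2 := h2.sign b hα hβ hne
  by_cases e : i = 2 * j
  · subst e
    rw [show -(2 * j) - j * -2 = 0 by ring] at h1
    have := h1.right_eq b hβ
    omega
  · have h12 := h1.reflect_right
    rw [hab] at h12
    have s12 := h12.sign b hα hβ hne
    have e : i = j := by omega
    subst e
    rw [show -i - i * -1 = 0 by ring] at h2
    have := h2.left_eq b hα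
    omega

/-- Roots with coefficients in type G2, the first root short. -/
theorem comb_G2 {i j : ℤ} (hi : 0 < i) (hj : 0 < j) (h : IsComb P α β i j) (hba : P.pairing β α = -3)
    (hab : P.pairing α β = -1) : (j = 1 ∧ (i = 1 ∨ i = 2 ∨ i = 3)) ∨ (i = 3 ∧ j = 2) := by
  have key1 : ∀ {x y : ℤ}, 0 < x → 0 < y → IsComb P α β x y → x = 3 * y → y = 1 := fun {x y} hx hy hh e => by
    have h1 := hh.reflect_left
    rw [hba, e, show -(3 * y) - y * -3 = 0 by ring] at h1
    have := h1.right_eq b hβ
    omega
  have key2 : ∀ {x y : ℤ}, 0 < x → IsComb P α β x y → x = y → x = 1 := fun {x y} hx hh e => by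
    have h1 := hh.reflect_right
    rw [hab, ← e, show -x - x * -1 = 0 by ring] at h1
    have := h1.left_eq b hα
    omega
  have h1 := h.reflect_left
  rw [hba] at h1
  have h12 := h1.reflect_right
  rw [hab] at h12
  have h2 := h.reflect_right
  rw [hab] at h2
  have h21 := h2.reflect_left
  rw [hba] at h21
  have s1 := h1.sign b hα hβ hne
  have s2 := h2.sign b hα hβ hne
  have s12 := h12.sign b hα hβ hne
  have s21 := h21.sign b hα hβ hne
  rcases eq_or_ne i j with e | e1
  · have := key2 hi h e; omega
  rcases eq_or_ne i (3 * j) with e | e3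
  · have := key1 hi hj h e; omega
  rcases eq_or_ne (-i - j * -3) j with e | e2
  · have := key2 (x := -i - j * -3) (by omega) h1 e; omega
  have h121 := h12.reflect_left
  rw [hba] at h121
  have s121 := h121.sign b hα hβ hne
  rcases eq_or_ne i (3 * (-j - i * -1)) with e | e4
  · have := key1 hi (by omega) h2 e; omega
  omega

end Groth.Agent.Rank2Red38
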