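import Groth.Agent.Rank2Red38.Commute
import Groth.Agent.Rank2Red38.RootCalc
import Mathlib.LinearAlgebra.RootSystem.Chain
import Mathlib.LinearAlgebra.RootSystem.Finite.CanonicalBilinear

/-! The roots in the lattice of two roots of a reduced datum, from the two Cartan numbers. -/

set_option autoImplicit false

universe u

open CategoryTheory CategoryTheory.Limits AlgebraicGeometry MonoidalCategory CartesianMonoidalCategory
open scoped MonObj

noncomputable section

namespace Groth.Agent.Rank2Red38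

variable {S : Scheme.{u}} {G : Over S} [GrpObj G] {D : Red.SplitRed G} [D.P.IsReduced] {a b : D.idx}

theorem indep_pair (hind : ∀ r s : ℤ, r • D.P.root a + s • D.P.root b = 0 → r = 0 ∧ s = 0) :
    LinearIndependent ℤ ![D.P.root a, D.P.root b] := LinearIndependent.pair_iff.mpr hind

/-- The possible pairs of Cartan numbers of two roots. -/
def CartanPair (x y : ℤ) : Prop :=
  (x = 0 ∧ y = 0) ∨ (x = 1 ∧ y = 1) ∨ (x = -1 ∧ y = -1) ∨ (x = 1 ∧ y = 2) ∨ (x = 2 ∧ y = 1) ∨ (x = -1 ∧ y = -2) ∨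
    (x = -2 ∧ y = -1) ∨ (x = 1 ∧ y = 3) ∨ (x = 3 ∧ y = 1) ∨ (x = -1 ∧ y = -3) ∨ (x = -3 ∧ y = -1) ∨
      (x = 2 ∧ y = 2) ∨ (x = -2 ∧ y = -2)

theorem cartanPair (c d : D.idx) : CartanPair (D.P.pairing c d) (D.P.pairing d c) := by
  have h := D.P.pairingIn_pairingIn_mem_set_of_isCrystal_of_isRed c d
  simpa only [pairingIn_eq_pairing, Set.mem_insert_iff, Set.mem_singleton_iff, Prod.mk.injEq] using! h

theorem length_swap (c d : D.idx) :
    D.P.pairing d c * (D.P.posRootForm ℤ).rootLength c = D.P.pairing c d * (D.P.posRootForm ℤ).rootLength d := by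
  simpa only [pairingIn_eq_pairing] using (D.P.posRootForm ℤ).pairingIn_mul_eq_pairingIn_mul_swap (i := c) (j := d)

theorem cartan_ne_two (hind : ∀ r s : ℤ, r • D.P.root a + s • D.P.root b = 0 → r = 0 ∧ s = 0) :
    ¬(D.P.pairing a b = 2 ∧ D.P.pairing b a = 2) ∧ ¬(D.P.pairing a b = -2 ∧ D.P.pairing b a = -2) := by
  have h : D.P.coxeterWeightIn ℤ a b ≠ 4 := by
    rw [ne_eq, D.P.coxeterWeightIn_eq_four_iff_not_linearIndependent (S := ℤ), not_not]
    exact indep_pair hind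
  have h' : D.P.pairing a b * D.P.pairing b a ≠ 4 := by
    rw [← pairingIn_eq_pairing, ← pairingIn_eq_pairing]; exact h
  constructor <;> rintro ⟨e1, e2⟩ <;> rw [e1, e2] at h' <;> exact h' rfl

/-- The equations satisfied by the coordinates of a root in the lattice of `a` and `b`. -/
theorem comb_equations (hq : D.P.pairing a b ≠ 0) {i j : ℤ} (h : IsComb D.P a b i j) :
    ∃ A B : ℤ, CartanPair (2 * i + j * D.P.pairing b a) A ∧ CartanPair (i * D.P.pairing a b + 2 * j) B ∧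
      i * A + j * B = 2 ∧
      A * (i * D.P.pairing a b + 2 * j) * D.P.pairing b a = D.P.pairing a b * B * (2 * i + j * D.P.pairing b a) := by
  obtain ⟨c, hc⟩ := h
  have hp : ∀ d, D.P.pairing c d = i * D.P.pairing a d + j * D.P.pairing b d := fun d => by
    simp only [pairing_eq_apply]
    rw [hc, map_add, map_zsmul, map_zsmul, smul_eq_mul, smul_eq_mul]
  have e1 : D.P.pairing c a = 2 * i + j * D.P.pairing b a := by rw [hp, RootPairing.pairing_same]; ring
  have e2 : D.P.pairing c b = i * D.P.pairing a b + 2 * j := by rw [hp, RootPairing.pairing_same]; ring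
  refine ⟨D.P.pairing a c, D.P.pairing b c, e1 ▸ cartanPair c a, e2 ▸ cartanPair c b, ?_, ?_⟩
  · rw [← hp, RootPairing.pairing_same]
  rw [← e1, ← e2]
  have La := (D.P.posRootForm ℤ).rootLength_pos a
  have Lb := (D.P.posRootForm ℤ).rootLength_pos b
  have Lc := (D.P.posRootForm ℤ).rootLength_pos c
  have ha := length_swap a c
  have hb := length_swap b c
  have hab := length_swap a b
  set la := (D.P.posRootForm ℤ).rootLength a
  set lb := (D.P.posRootForm ℤ).rootLength b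
  set lc := (D.P.posRootForm ℤ).rootLength c
  refine mul_right_cancel₀ (mul_ne_zero La.ne' Lc.ne') ?_
  linear_combination (D.P.pairing a c * D.P.pairing c b * lc) * hab + (D.P.pairing a b * D.P.pairing a c * lc) * hb -
    (D.P.pairing a b * D.P.pairing b c * lc) * ha

set_option maxHeartbeats 4000000 in
theorem comb_list_B2 (hba : D.P.pairing b a = -2) (hab : D.P.pairing a b = -1) {i j : ℤ}
    (h : IsComb D.P a b i j) :
    (i = 1 ∧ j = 0) ∨ (i = 0 ∧ j = 1) ∨ (i = 1 ∧ j = 1) ∨ (i = 2 ∧ j = 1) ∨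
      (i = -1 ∧ j = 0) ∨ (i = 0 ∧ j = -1) ∨ (i = -1 ∧ j = -1) ∨ (i = -2 ∧ j = -1) := by
  have key : (i = 1 ∧ j = 0) ∨ (i = 0 ∧ j = 1) ∨ (i = 1 ∧ j = 1) ∨ (i = 2 ∧ j = 1) ∨
      (i = -1 ∧ j = 0) ∨ (i = 0 ∧ j = -1) ∨ (i = -1 ∧ j = -1) ∨ (i = -2 ∧ j = -1) ∨
      (i = 2 ∧ j = 2) ∨ (i = -2 ∧ j = -2) := by
    obtain ⟨A, B, h1, h2, h3, h4⟩ := comb_equations (by omega) h
    rw [hba] at h1 h4
    rw [hab] at h2 h4
    obtain ⟨C, hC⟩ : ∃ C, 2 * i + j * -2 = C := ⟨_, rfl⟩
    obtain ⟨C', hC'⟩ : ∃ C', i * -1 + 2 * j = C' := ⟨_, rfl⟩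
    rw [hC] at h1 h4
    rw [hC'] at h2 h4
    rcases h1 with h | h | h | h | h | h | h | h | h | h | h | h | h <;> obtain ⟨rfl, rfl⟩ := h <;>
      first
        | omega
        | (rcases h2 with h | h | h | h | h | h | h | h | h | h | h | h | h <;> obtain ⟨rfl, rfl⟩ := h <;> omega)
  obtain ⟨d, hd⟩ : IsComb D.P a b 1 1 := by
    have := (show IsComb D.P a b 1 0 from ⟨a, by simp⟩).reflect_right
    rwa [hab] at this
  simp only [one_smul] at hd
  haveI : IsAddTorsionFree D.M := .of_isTorsionFree ℤ D.M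
  rcases key with h' | h' | h' | h' | h' | h' | h' | h' | h' | h' <;> obtain ⟨rfl, rfl⟩ := h' <;>
    first
      | omega
      | (exfalso
         obtain ⟨e, he⟩ := h
         first
          | exact D.P.nsmul_notMem_range_root (n := 2) (i := d) ⟨e, by rw [he, hd]; module⟩
          | exact D.P.nsmul_notMem_range_root (n := 2) (i := neg' D d) ⟨e, by rw [he, root_neg', hd]; module⟩)

set_option maxHeartbeats 4000000 in
theorem comb_list_G2 (hba : D.P.pairing b a = -3) (hab : D.P.pairing a b = -1) {i j : ℤ}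
    (h : IsComb D.P a b i j) :
    (i = 1 ∧ j = 0) ∨ (i = 0 ∧ j = 1) ∨ (i = 1 ∧ j = 1) ∨ (i = 2 ∧ j = 1) ∨ (i = 3 ∧ j = 1) ∨ (i = 3 ∧ j = 2) ∨
      (i = -1 ∧ j = 0) ∨ (i = 0 ∧ j = -1) ∨ (i = -1 ∧ j = -1) ∨ (i = -2 ∧ j = -1) ∨ (i = -3 ∧ j = -1) ∨
      (i = -3 ∧ j = -2) := by
  obtain ⟨A, B, h1, h2, h3, h4⟩ := comb_equations (by omega) h
  rw [hba] at h1 h4
  rw [hab] at h2 h4
  obtain ⟨C, hC⟩ : ∃ C, 2 * i + j * -3 = C := ⟨_, rfl⟩
  obtain ⟨C', hC'⟩ : ∃ C', i * -1 + 2 * j = C' := ⟨_, rfl⟩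
  rw [hC] at h1 h4
  rw [hC'] at h2 h4
  rcases h1 with h | h | h | h | h | h | h | h | h | h | h | h | h <;> obtain ⟨rfl, rfl⟩ := h <;>
    first
      | omega
      | (rcases h2 with h | h | h | h | h | h | h | h | h | h | h | h | h <;> obtain ⟨rfl, rfl⟩ := h <;> omega)

set_option maxHeartbeats 4000000 in
theorem comb_list_A2 (hba : D.P.pairing b a = -1) (hab : D.P.pairing a b = -1)
    (h21 : ¬ IsComb D.P a b 2 1) {i j : ℤ} (h : IsComb D.P a b i j) :
    (i = 1 ∧ j = 0) ∨ (i = 0 ∧ j = 1) ∨ (i = 1 ∧ j = 1) ∨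
      (i = -1 ∧ j = 0) ∨ (i = 0 ∧ j = -1) ∨ (i = -1 ∧ j = -1) := by
  have key : (i = 1 ∧ j = 0) ∨ (i = 0 ∧ j = 1) ∨ (i = 1 ∧ j = 1) ∨
      (i = -1 ∧ j = 0) ∨ (i = 0 ∧ j = -1) ∨ (i = -1 ∧ j = -1) ∨
      (i = 2 ∧ j = 1) ∨ (i = 1 ∧ j = 2) ∨ (i = 1 ∧ j = -1) ∨
      (i = -2 ∧ j = -1) ∨ (i = -1 ∧ j = -2) ∨ (i = -1 ∧ j = 1) := by
    obtain ⟨A, B, h1, h2, h3, h4⟩ := comb_equations (by omega) h
    rw [hba] at h1 h4
    rw [hab] at h2 h4
    obtain ⟨C, hC⟩ : ∃ C, 2 * i + j * -1 = C := ⟨_, rfl⟩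
    obtain ⟨C', hC'⟩ : ∃ C', i * -1 + 2 * j = C' := ⟨_, rfl⟩
    rw [hC] at h1 h4
    rw [hC'] at h2 h4
    rcases h1 with h | h | h | h | h | h | h | h | h | h | h | h | h <;> obtain ⟨rfl, rfl⟩ := h <;>
      first
        | omega
        | (rcases h2 with h | h | h | h | h | h | h | h | h | h | h | h | h <;> obtain ⟨rfl, rfl⟩ := h <;> omega)
  have ra : ∀ {i j : ℤ}, IsComb D.P a b i j → IsComb D.P a b (-i + j) j := fun {i j} h => by
    have := h.reflect_left
    rw [hba] at this; simpa [sub_eq_add_neg] using this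
  have rb : ∀ {i j : ℤ}, IsComb D.P a b i j → IsComb D.P a b i (-j + i) := fun {i j} h => by
    have := h.reflect_right
    rw [hab] at this; simpa [sub_eq_add_neg] using this
  have hn : ∀ {i j : ℤ}, IsComb D.P a b i j → IsComb D.P a b (-i) (-j) := fun {i j} ⟨c, hc⟩ => by
    refine ⟨D.P.reflectionPerm c c, ?_⟩
    rw [RootPairing.root_reflectionPerm, RootPairing.reflection_apply_self, hc]
    module
  rcases key with h' | h' | h' | h' | h' | h' | h' | h' | h' | h' | h' | h' <;> obtain ⟨rfl, rfl⟩ := h' <;>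
    first
      | omega
      | (exfalso; apply h21
         first
          | simpa using h
          | simpa using ra h
          | simpa using rb h
          | simpa using ra (rb h)
          | simpa using rb (ra h)
          | simpa using ra (rb (ra h))
          | simpa using rb (ra (rb h))
          | simpa using hn h
          | simpa using hn (ra h)
          | simpa using hn (rb h)
          | simpa using hn (ra (rb h))
          | simpa using hn (rb (ra h)))

/-- The chain of `b` in the direction of `a`. -/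
theorem chain_coeffs (hind : ∀ r s : ℤ, r • D.P.root a + s • D.P.root b = 0 → r = 0 ∧ s = 0) :
    ∃ p t : ℕ, p + t ≤ 3 ∧ (p : ℤ) - t = D.P.pairing b a ∧
      (∀ n : ℕ, D.P.root b - (n : ℤ) • D.P.root a ∈ Set.range D.P.root ↔ n ≤ p) ∧
      ∀ n : ℕ, D.P.root b + (n : ℤ) • D.P.root a ∈ Set.range D.P.root ↔ n ≤ t := by
  have hli := indep_pair hind
  refine ⟨D.P.chainBotCoeff a b, D.P.chainTopCoeff a b, RootPairing.chainBotCoeff_add_chainTopCoeff_le_three, ?_,
    fun n => ?_, fun n => ?_⟩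
  · rw [RootPairing.chainBotCoeff_sub_chainTopCoeff hli, pairingIn_eq_pairing]
  · rw [natCast_zsmul, RootPairing.root_sub_nsmul_mem_range_iff_le_chainBotCoeff hli]
  · rw [natCast_zsmul, RootPairing.root_add_nsmul_mem_range_iff_le_chainTopCoeff hli]

end Groth.Agent.Rank2Red38
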