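import Groth.Agent.Rank2Red38.ChevData

/-! The commutators of a Chevalley system in rank two. -/

set_option autoImplicit false

universe u

open CategoryTheory CategoryTheory.Limits AlgebraicGeometry MonoidalCategory CartesianMonoidalCategory
open scoped MonObj Classical

noncomputable section

namespace Groth.Agent.Rank2Red38

open GrpSchLib

variable {S : Scheme.{u}} {G : Over S} [GrpObj G] {D : Red.SplitRed G}

theorem neg_comb {a b : D.idx} {i j : ℤ} (h : IsComb D.P a b i j) : IsComb D.P a b (-i) (-j) := by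
  obtain ⟨c, hc⟩ := h
  refine ⟨neg' D c, ?_⟩
  rw [root_neg', hc]
  module

theorem sign_mul_self {R : Type*} [Ring R] {ε : ℤ} (h : ε = 1 ∨ ε = -1) : (ε : R) * (ε : R) = 1 := by
  rcases h with rfl | rfl <;> simp

namespace ChevData

variable (C : ChevData D) [D.P.IsReduced] {a b : D.idx}
  (hind : ∀ r s : ℤ, r • D.P.root a + s • D.P.root b = 0 → r = 0 ∧ s = 0)

include hind

omit C [D.P.IsReduced] in
theorem mu_values {p q : ℤ} (hba : D.P.pairing b a = p) (hab : D.P.pairing a b = q) (k l : ℤ) :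
    (k • D.P.coroot a + l • D.P.coroot b) (D.P.root a) = 2 * k + l * q ∧
      (k • D.P.coroot a + l • D.P.coroot b) (D.P.root b) = k * p + 2 * l := by
  simp only [LinearMap.add_apply, LinearMap.smul_apply, smul_eq_mul, ← pairing_eq_apply, RootPairing.pairing_same,
    hba, hab]
  constructor <;> ring

omit [D.P.IsReduced] in
/-- Root elements commute when the sum is not among the listed roots. -/
theorem comm_of_list {c d : D.idx} {i j k l : ℤ} (hc : D.P.root c = i • D.P.root a + j • D.P.root b)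
    (hd : D.P.root d = k • D.P.root a + l • D.P.root b) (h0 : ¬(i + k = 0 ∧ j + l = 0))
    (h : ¬ IsComb D.P a b (i + k) (j + l)) (X : Over S) (x y : Γ(X.left, ⊤)) :
    Commute (C.P X c x) (C.P X d y) := by
  have e : D.P.root c + D.P.root d = (i + k) • D.P.root a + (j + l) • D.P.root b := by rw [hc, hd]; module
  exact C.P_comm X (fun h' => h0 (hind _ _ (e.symm.trans h'))) (fun h' => h (e ▸ h' : _ ∈ Set.range D.P.root)) x y

/-- The commutator in type A2. -/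
theorem comm_A2 (hba : D.P.pairing b a = -1) (hab : D.P.pairing a b = -1) (h21 : ¬ IsComb D.P a b 2 1) {c : D.idx}
    (hc : D.P.root c = D.P.root a + D.P.root b) :
    ∃ ε : ℤ, (ε = 1 ∨ ε = -1) ∧ ∀ (X : Over S) (x y : Γ(X.left, ⊤)),
      C.P X b y * C.P X a x * (C.P X b y)⁻¹ * (C.P X a x)⁻¹ = C.P X c ((ε : Γ(X.left, ⊤)) * (x * y)) := by
  have hiff : ∀ i j : ℤ, IsComb D.P a b i j ↔ InSys posA2 (i, j) := fun i j => by
    refine ⟨fun h => ?_, fun h => ?_⟩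
    · rcases comb_list_A2 hba hab h21 h with h | h | h | h | h | h <;> obtain ⟨rfl, rfl⟩ := h <;> decide
    · have key : ∀ q ∈ posA2, IsComb D.P a b q.1 q.2 := by
        simp only [List.forall_mem_cons, List.not_mem_nil, IsEmpty.forall_iff, implies_true, and_true]
        exact ⟨⟨a, by simp⟩, ⟨b, by simp⟩, ⟨c, by simp [hc]⟩⟩
      rcases h with h | h
      · exact key _ h
      · simpa using neg_comb (key _ h)
  obtain ⟨m1, m2⟩ := mu_values hind hba hab 1 1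
  obtain ⟨s, sa, sb, spos⟩ := C.exists_sys hind posA2 (mu := (1 : ℤ) • D.P.coroot a + (1 : ℤ) • D.P.coroot b)
    (by rw [m1]; norm_num) (by rw [m2]; norm_num) hiff
  obtain ⟨dA, dB⟩ := C.isDual_pair hind
  have i1 : InSys s.pos (1, 0) := Or.inl (spos ▸ (by decide : (1, 0) ∈ posA2))
  have i2 : InSys s.pos (0, 1) := Or.inl (spos ▸ (by decide : (0, 1) ∈ posA2))
  obtain ⟨r1, r2, -, -⟩ := s.r_gen i1 i2
  obtain ⟨ε, hε, hM⟩ := C.weyl_P (c := b) (b := a) (d := c) (by rw [hab, hc]; module)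
  refine ⟨ε, hε, fun X x y => ?_⟩
  obtain ⟨eA, eB, wA, wB⟩ := C.pair_U X hind
  obtain ⟨p1, -⟩ := Frame.A2_relations (s.frame i1 i2 (show IsDual _ s.a by rw [sa]; exact dA) (show IsDual _ s.b by rw [sb]; exact dB)) X (hasNormalForm _) spos
    (by rw [sa, sb]; exact hba) (by rw [sa, sb]; exact hab)
  simp only [Frame.V, Frame.mSub, Sys2.frame, Int.cast_one, one_mul, Sys2.V, r1, r2, sa, sb, eA, eB, wB, hM] at p1
  have ca : Commute (C.P X a x) (C.P X c ((ε : Γ(X.left, ⊤)) * (x * y))) :=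
    C.comm_of_list hind (i := 1) (j := 0) (k := 1) (l := 1) (by simp) (by rw [hc]; simp) (by omega) h21 X _ _
  have cb : Commute (C.P X b y) (C.P X c ((ε : Γ(X.left, ⊤)) * (x * y))) :=
    C.comm_of_list hind (i := 0) (j := 1) (k := 1) (l := 1) (by simp) (by rw [hc]; simp) (by omega)
      (fun h => by have := (hiff _ _).mp h; revert this; decide) X _ _
  rw [p1 x y, mul_assoc (C.P X a x) (C.P X b y), cb.eq]
  have := ca.eq
  calc C.P X a x * (C.P X c ((ε : Γ(X.left, ⊤)) * (x * y)) * C.P X b y) * (C.P X b y)⁻¹ * (C.P X a x)⁻¹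
      = C.P X a x * C.P X c ((ε : Γ(X.left, ⊤)) * (x * y)) * (C.P X a x)⁻¹ := by group
    _ = _ := by rw [this]; group

/-- The commutators in type B2, the first root short. -/
theorem comm_B2 (hba : D.P.pairing b a = -2) (hab : D.P.pairing a b = -1) {c₁ c₂ : D.idx}
    (hc₁ : D.P.root c₁ = D.P.root a + D.P.root b) (hc₂ : D.P.root c₂ = (2 : ℤ) • D.P.root a + D.P.root b) :
    ∃ ε₁ ε₂ ε₃ : ℤ, (ε₁ = 1 ∨ ε₁ = -1) ∧ (ε₂ = 1 ∨ ε₂ = -1) ∧ (ε₃ = 1 ∨ ε₃ = -1) ∧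
      ∀ (X : Over S) (x y : Γ(X.left, ⊤)),
        C.P X b y * C.P X a x * (C.P X b y)⁻¹ * (C.P X a x)⁻¹ =
            C.P X c₁ ((ε₁ : Γ(X.left, ⊤)) * (x * y)) * C.P X c₂ ((ε₂ : Γ(X.left, ⊤)) * (x ^ 2 * y)) ∧
          C.P X c₁ y * C.P X a x * (C.P X c₁ y)⁻¹ * (C.P X a x)⁻¹ = C.P X c₂ ((ε₃ : Γ(X.left, ⊤)) * (2 * x * y)) := by
  have hiff : ∀ i j : ℤ, IsComb D.P a b i j ↔ InSys posB2 (i, j) := fun i j => by
    refine ⟨fun h => ?_, fun h => ?_⟩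
    · rcases comb_list_B2 hba hab h with h | h | h | h | h | h | h | h <;> obtain ⟨rfl, rfl⟩ := h <;> decide
    · have key : ∀ q ∈ posB2, IsComb D.P a b q.1 q.2 := by
        simp only [List.forall_mem_cons, List.not_mem_nil, IsEmpty.forall_iff, implies_true, and_true]
        exact ⟨⟨a, by simp⟩, ⟨b, by simp⟩, ⟨c₁, by simp [hc₁]⟩, ⟨c₂, by simp [hc₂]⟩⟩
      rcases h with h | h
      · exact key _ h
      · simpa using neg_comb (key _ h)
  obtain ⟨m1, m2⟩ := mu_values hind hba hab 2 3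
  obtain ⟨s, sa, sb, spos⟩ := C.exists_sys hind posB2 (mu := (2 : ℤ) • D.P.coroot a + (3 : ℤ) • D.P.coroot b)
    (by rw [m1]; norm_num) (by rw [m2]; norm_num) hiff
  obtain ⟨dA, dB⟩ := C.isDual_pair hind
  have i1 : InSys s.pos (1, 0) := Or.inl (spos ▸ (by decide : (1, 0) ∈ posB2))
  have i2 : InSys s.pos (0, 1) := Or.inl (spos ▸ (by decide : (0, 1) ∈ posB2))
  obtain ⟨r1, r2, -, -⟩ := s.r_gen i1 i2
  obtain ⟨e, he, hM⟩ := C.weyl_P (c := b) (b := a) (d := c₁) (by rw [hab, hc₁]; module)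
  obtain ⟨f, hf, hL⟩ := C.weyl_P (c := a) (b := b) (d := c₂) (by rw [hba, hc₂]; module)
  refine ⟨e, -f, f * e, he, by omega, by rcases he with rfl | rfl <;> rcases hf with rfl | rfl <;> simp,
    fun X x y => ?_⟩
  obtain ⟨eA, eB, wA, wB⟩ := C.pair_U X hind
  obtain ⟨p1, p2, -, -⟩ := Frame.B2_relations (s.frame i1 i2 (show IsDual _ s.a by rw [sa]; exact dA) (show IsDual _ s.b by rw [sb]; exact dB)) X (hasNormalForm _) spos
    (by rw [sa, sb]; exact hba) (by rw [sa, sb]; exact hab)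
  simp only [Frame.V, Frame.mSub, Frame.lSub, Sys2.frame, Int.cast_one, one_mul, Sys2.V, r1, r2, sa, sb, eA, eB, wA,
    wB, hM, hL] at p1 p2
  have hn : ∀ {i j : ℤ}, ¬InSys posB2 (i, j) → ¬IsComb D.P a b i j := fun h h' => h ((hiff _ _).mp h')
  have cal : ∀ u v, Commute (C.P X a u) (C.P X c₂ v) :=
    C.comm_of_list hind (i := 1) (j := 0) (k := 2) (l := 1) (by simp) (by rw [hc₂]; simp) (by omega) (hn (by decide)) X
  have cbm : ∀ u v, Commute (C.P X b u) (C.P X c₁ v) :=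
    C.comm_of_list hind (i := 0) (j := 1) (k := 1) (l := 1) (by simp) (by rw [hc₁]; simp) (by omega) (hn (by decide)) X
  have cbl : ∀ u v, Commute (C.P X b u) (C.P X c₂ v) :=
    C.comm_of_list hind (i := 0) (j := 1) (k := 2) (l := 1) (by simp) (by rw [hc₂]; simp) (by omega) (hn (by decide)) X
  have cml : ∀ u v, Commute (C.P X c₁ u) (C.P X c₂ v) :=
    C.comm_of_list hind (i := 1) (j := 1) (k := 2) (l := 1) (by rw [hc₁]; simp) (by rw [hc₂]; simp) (by omega)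
      (hn (by decide)) X
  have ee : (e : Γ(X.left, ⊤)) * e = 1 := sign_mul_self he
  have hconj : ∀ y, C.P X a x * C.P X c₁ ((e : Γ(X.left, ⊤)) * y) * (C.P X a x)⁻¹ =
      C.P X c₁ ((e : Γ(X.left, ⊤)) * y) * C.P X c₂ ((f : Γ(X.left, ⊤)) * -(2 * x * y)) := fun y => by
    rw [mul_neg, (C.P_oneParam X c₂).neg]
    have h := p2 x y
    have h' : C.P X c₁ ((e : Γ(X.left, ⊤)) * y) * C.P X a x =
        C.P X a x * C.P X c₁ ((e : Γ(X.left, ⊤)) * y) * C.P X c₂ ((f : Γ(X.left, ⊤)) * (2 * x * y)) := h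
    calc C.P X a x * C.P X c₁ ((e : Γ(X.left, ⊤)) * y) * (C.P X a x)⁻¹
        = C.P X c₁ ((e : Γ(X.left, ⊤)) * y) * (C.P X a x * (C.P X c₂ ((f : Γ(X.left, ⊤)) * (2 * x * y)))⁻¹ *
            (C.P X a x)⁻¹) := by rw [← mul_assoc, ← mul_assoc, h']; group
      _ = _ := by rw [((cal x _).inv_right).eq]; group
  constructor
  · rw [p1 x y]
    calc _ = C.P X a x * (C.P X b y * (C.P X c₁ ((e : Γ(X.left, ⊤)) * (x * y)) *
          C.P X c₂ ((f : Γ(X.left, ⊤)) * (x ^ 2 * y))) * (C.P X b y)⁻¹) * (C.P X a x)⁻¹ := by group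
      _ = C.P X a x * (C.P X c₁ ((e : Γ(X.left, ⊤)) * (x * y)) *
          C.P X c₂ ((f : Γ(X.left, ⊤)) * (x ^ 2 * y))) * (C.P X a x)⁻¹ := by
        rw [((cbm y _).mul_right (cbl y _)).eq]; group
      _ = C.P X a x * C.P X c₁ ((e : Γ(X.left, ⊤)) * (x * y)) * (C.P X a x)⁻¹ *
          (C.P X a x * C.P X c₂ ((f : Γ(X.left, ⊤)) * (x ^ 2 * y)) * (C.P X a x)⁻¹) := by group
      _ = _ := by
        rw [hconj, (cal x _).eq, mul_inv_cancel_right, mul_assoc, ← C.P_oneParam X c₂]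
        congr 2
        push_cast
        ring
  · have h := p2 x ((e : Γ(X.left, ⊤)) * y)
    rw [← mul_assoc (e : Γ(X.left, ⊤)), ee, one_mul] at h
    rw [h]
    calc _ = C.P X a x * (C.P X c₁ y * C.P X c₂ ((f : Γ(X.left, ⊤)) * (2 * x * ((e : Γ(X.left, ⊤)) * y))) *
          (C.P X c₁ y)⁻¹) * (C.P X a x)⁻¹ := by group
      _ = _ := by
        rw [(cml y _).eq, mul_inv_cancel_right, (cal x _).eq, mul_inv_cancel_right]
        congr 1
        push_cast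
        ring

set_option maxHeartbeats 1600000 in
/-- The commutators in type G2, the first root short. -/
theorem comm_G2 (hba : D.P.pairing b a = -3) (hab : D.P.pairing a b = -1) {c₁ c₂ c₃ c₄ : D.idx}
    (hc₁ : D.P.root c₁ = D.P.root a + D.P.root b) (hc₂ : D.P.root c₂ = (2 : ℤ) • D.P.root a + D.P.root b)
    (hc₃ : D.P.root c₃ = (3 : ℤ) • D.P.root a + D.P.root b)
    (hc₄ : D.P.root c₄ = (3 : ℤ) • D.P.root a + (2 : ℤ) • D.P.root b) :
    ∃ ε : Fin 4 → ℤ, ∃ ε' : Fin 4 → ℤ, (∀ j, ε j = 1 ∨ ε j = -1) ∧ (∀ j, ε' j = 1 ∨ ε' j = -1) ∧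
      ∀ (X : Over S) (x y : Γ(X.left, ⊤)),
        (C.P X b y * C.P X a x * (C.P X b y)⁻¹ * (C.P X a x)⁻¹ =
            C.P X c₁ ((ε 0 : Γ(X.left, ⊤)) * (x * y)) * C.P X c₂ ((ε 1 : Γ(X.left, ⊤)) * (x ^ 2 * y)) *
              C.P X c₃ ((ε 2 : Γ(X.left, ⊤)) * (x ^ 3 * y)) * C.P X c₄ ((ε 3 : Γ(X.left, ⊤)) * (x ^ 3 * y ^ 2))) ∧
          (C.P X c₁ y * C.P X a x * (C.P X c₁ y)⁻¹ * (C.P X a x)⁻¹ =
            C.P X c₂ ((ε' 0 : Γ(X.left, ⊤)) * (2 * x * y)) * C.P X c₃ ((ε' 1 : Γ(X.left, ⊤)) * (3 * x ^ 2 * y)) *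
              C.P X c₄ ((ε' 2 : Γ(X.left, ⊤)) * (3 * x * y ^ 2))) ∧
          C.P X c₂ y * C.P X a x * (C.P X c₂ y)⁻¹ * (C.P X a x)⁻¹ =
            C.P X c₃ ((ε' 3 : Γ(X.left, ⊤)) * (3 * x * y)) := by
  have hiff : ∀ i j : ℤ, IsComb D.P a b i j ↔ InSys posG2 (i, j) := fun i j => by
    refine ⟨fun h => ?_, fun h => ?_⟩
    · rcases comb_list_G2 hba hab h with h | h | h | h | h | h | h | h | h | h | h | h <;>
        obtain ⟨rfl, rfl⟩ := h <;> decide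
    · have key : ∀ q ∈ posG2, IsComb D.P a b q.1 q.2 := by
        simp only [List.forall_mem_cons, List.not_mem_nil, IsEmpty.forall_iff, implies_true, and_true]
        exact ⟨⟨a, by simp⟩, ⟨b, by simp⟩, ⟨c₁, by simp [hc₁]⟩, ⟨c₂, by simp [hc₂]⟩, ⟨c₃, by simp [hc₃]⟩,
          ⟨c₄, by simp [hc₄]⟩⟩
      rcases h with h | h
      · exact key _ h
      · simpa using neg_comb (key _ h)
  obtain ⟨m1, m2⟩ := mu_values hind hba hab 4 7
  obtain ⟨s, sa, sb, spos⟩ := C.exists_sys hind posG2 (mu := (4 : ℤ) • D.P.coroot a + (7 : ℤ) • D.P.coroot b)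
    (by rw [m1]; norm_num) (by rw [m2]; norm_num) hiff
  obtain ⟨dA, dB⟩ := C.isDual_pair hind
  have i1 : InSys s.pos (1, 0) := Or.inl (spos ▸ (by decide : (1, 0) ∈ posG2))
  have i2 : InSys s.pos (0, 1) := Or.inl (spos ▸ (by decide : (0, 1) ∈ posG2))
  obtain ⟨r1, r2, -, -⟩ := s.r_gen i1 i2
  obtain ⟨e₁, he₁, hM⟩ := C.weyl_P (c := b) (b := a) (d := c₁) (by rw [hab, hc₁]; module)
  obtain ⟨f₂, hf₂, hN⟩ := C.weyl_P (c := a) (b := c₁) (d := c₂)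
    (by rw [root_lin hc₁, hc₂, hc₁]; simp [hba]; module)
  obtain ⟨f₃, hf₃, hO⟩ := C.weyl_P (c := a) (b := b) (d := c₃) (by rw [hba, hc₃]; module)
  obtain ⟨f₄, hf₄, hQ⟩ := C.weyl_P (c := b) (b := c₃) (d := c₄)
    (by rw [root_lin' hc₃, hc₄, hc₃]; simp [hab]; module)
  obtain ⟨e₂, he₂, hse₂⟩ : ∃ e₂ : ℤ, (e₂ = 1 ∨ e₂ = -1) ∧ e₂ = f₂ * e₁ :=
    ⟨_, by rcases he₁ with rfl | rfl <;> rcases hf₂ with rfl | rfl <;> simp, rfl⟩
  obtain ⟨e₃, he₃, hse₃⟩ : ∃ e₃ : ℤ, (e₃ = 1 ∨ e₃ = -1) ∧ e₃ = -f₃ := ⟨_, by omega, rfl⟩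
  obtain ⟨e₄, he₄, hse₄⟩ : ∃ e₄ : ℤ, (e₄ = 1 ∨ e₄ = -1) ∧ e₄ = f₄ * e₃ :=
    ⟨_, by rcases he₃ with rfl | rfl <;> rcases hf₄ with rfl | rfl <;> simp, rfl⟩
  refine ⟨![e₁, -e₂, e₃, -e₄], ![e₂ * e₁, -(e₃ * e₁), -e₄, e₃ * e₂], ?_, ?_, fun X x y => ?_⟩
  · intro j
    fin_cases j <;> rcases he₂ with rfl | rfl <;> rcases he₄ with rfl | rfl <;> simp [he₁, he₃]
  · intro j
    fin_cases j <;> rcases he₁ with rfl | rfl <;> rcases he₂ with rfl | rfl <;> rcases he₃ with rfl | rfl <;>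
      rcases he₄ with rfl | rfl <;> simp
  obtain ⟨eA, eB, wA, wB⟩ := C.pair_U X hind
  have rel := fun u v => Frame.G2_commutators (s.frame i1 i2 (show IsDual _ s.a by rw [sa]; exact dA) (show IsDual _ s.b by rw [sb]; exact dB)) X (hasNormalForm _) spos
    (by rw [sa, sb]; exact hba) (by rw [sa, sb]; exact hab) u v
  have g2 : ∀ z : Γ(X.left, ⊤), weylElt (C.P X a) (C.M X a) * (weylElt (C.P X b) (C.M X b) * C.P X a z *
      (weylElt (C.P X b) (C.M X b))⁻¹) * (weylElt (C.P X a) (C.M X a))⁻¹ =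
      C.P X c₂ ((e₂ : Γ(X.left, ⊤)) * z) := fun z => by
    rw [hM, hN]; congr 1; rw [hse₂]; push_cast; ring
  have g3 : ∀ z : Γ(X.left, ⊤), weylElt (C.P X a) (C.M X a) * C.P X b (-z) *
      (weylElt (C.P X a) (C.M X a))⁻¹ = C.P X c₃ ((e₃ : Γ(X.left, ⊤)) * z) := fun z => by
    rw [hO]; congr 1; rw [hse₃]; push_cast; ring
  have g4 : ∀ z : Γ(X.left, ⊤), weylElt (C.P X b) (C.M X b) * C.P X c₃ ((e₃ : Γ(X.left, ⊤)) * z) *
      (weylElt (C.P X b) (C.M X b))⁻¹ = C.P X c₄ ((e₄ : Γ(X.left, ⊤)) * z) := fun z => by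
    rw [hQ]; congr 1; rw [hse₄]; push_cast; ring
  simp only [Frame.V, Frame.mSub, Frame.g2, Frame.g3, Frame.g4, Sys2.frame, Int.cast_one, one_mul, Sys2.V, r1, r2,
    sa, sb, eA, eB, wA, wB, g2, g3, g4] at rel
  simp only [hM] at rel
  have hn : ∀ {i j : ℤ}, ¬InSys posG2 (i, j) → ¬IsComb D.P a b i j := fun h h' => h ((hiff _ _).mp h')
  have k3 : ∀ (d : D.idx) (i j : ℤ), D.P.root d = i • D.P.root a + j • D.P.root b →
      ¬InSys posG2 (i + 3, j + 1) → ¬(i + 3 = 0 ∧ j + 1 = 0) → ∀ u v, Commute (C.P X d u) (C.P X c₃ v) :=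
    fun d i j hdr h h0 => C.comm_of_list hind (k := 3) (l := 1) hdr (by rw [hc₃]; simp) h0 (hn h) X
  have k4 : ∀ (d : D.idx) (i j : ℤ), D.P.root d = i • D.P.root a + j • D.P.root b →
      ¬InSys posG2 (i + 3, j + 2) → ¬(i + 3 = 0 ∧ j + 2 = 0) → ∀ u v, Commute (C.P X d u) (C.P X c₄ v) :=
    fun d i j hdr h h0 => C.comm_of_list hind (k := 3) (l := 2) hdr hc₄ h0 (hn h) X
  have a3 := k3 a 1 0 (by simp) (by decide) (by decide)
  have a4 := k4 a 1 0 (by simp) (by decide) (by decide)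
  have b4 := k4 b 0 1 (by simp) (by decide) (by decide)
  have m3' := k3 c₁ 1 1 (by rw [hc₁]; simp) (by decide) (by decide)
  have m4' := k4 c₁ 1 1 (by rw [hc₁]; simp) (by decide) (by decide)
  have n3 := k3 c₂ 2 1 (by rw [hc₂]; simp) (by decide) (by decide)
  have n4 := k4 c₂ 2 1 (by rw [hc₂]; simp) (by decide) (by decide)
  have o4 := k4 c₃ 3 1 (by rw [hc₃]; simp) (by decide) (by decide)
  have b1 : ∀ u v, Commute (C.P X b u) (C.P X c₁ v) :=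
    C.comm_of_list hind (i := 0) (j := 1) (k := 1) (l := 1) (by simp) (by rw [hc₁]; simp) (by omega) (hn (by decide)) X
  have b2 : ∀ u v, Commute (C.P X b u) (C.P X c₂ v) :=
    C.comm_of_list hind (i := 0) (j := 1) (k := 2) (l := 1) (by simp) (by rw [hc₂]; simp) (by omega) (hn (by decide)) X
  have s1 : (e₁ : Γ(X.left, ⊤)) * e₁ = 1 := sign_mul_self he₁
  have s2 : (e₂ : Γ(X.left, ⊤)) * e₂ = 1 := sign_mul_self he₂
  set A := C.P X a x with hA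
  set P₁ : Γ(X.left, ⊤) → (X ⟶ G) := fun z => C.P X c₁ ((e₁ : Γ(X.left, ⊤)) * z) with hP₁
  set P₂ : Γ(X.left, ⊤) → (X ⟶ G) := fun z => C.P X c₂ ((e₂ : Γ(X.left, ⊤)) * z) with hP₂
  set P₃ : Γ(X.left, ⊤) → (X ⟶ G) := fun z => C.P X c₃ ((e₃ : Γ(X.left, ⊤)) * z) with hP₃
  set P₄ : Γ(X.left, ⊤) → (X ⟶ G) := fun z => C.P X c₄ ((e₄ : Γ(X.left, ⊤)) * z) with hP₄
  have o1 : IsOneParam P₁ := isOneParam_scale (C.P_oneParam X c₁) _
  have o2 : IsOneParam P₂ := isOneParam_scale (C.P_oneParam X c₂) _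
  have o3 : IsOneParam P₃ := isOneParam_scale (C.P_oneParam X c₃) _
  have o4' : IsOneParam P₄ := isOneParam_scale (C.P_oneParam X c₄) _
  have R1 : C.P X b y * A = A * C.P X b y * P₁ (x * y) * P₂ (x ^ 2 * y) * P₃ (x ^ 3 * y) * P₄ (x ^ 3 * y ^ 2) :=
    (rel x y).1
  have R2 : ∀ z, P₁ z * A = A * P₁ z * P₂ (2 * x * z) * P₃ (3 * x ^ 2 * z) * P₄ (3 * x * z ^ 2) :=
    fun z => (rel x z).2.1
  have R3 : ∀ z, P₂ z * A = A * P₂ z * P₃ (3 * x * z) := fun z => (rel x z).2.2.1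
  have R4 : ∀ z, P₃ z * C.P X b y = C.P X b y * P₃ z * P₄ (-(y * z)) := fun z => (rel y z).2.2.2.1
  have R5 : ∀ w z, P₂ z * P₁ w = P₁ w * P₂ z * P₄ (3 * w * z) := fun w z => (rel w z).2.2.2.2
  have Aa3 : ∀ v, Commute A (P₃ v) := fun v => a3 x _
  have Aa4 : ∀ v, Commute A (P₄ v) := fun v => a4 x _
  have Bb1 : ∀ v, Commute (C.P X b y) (P₁ v) := fun v => b1 y _
  have Bb2 : ∀ v, Commute (C.P X b y) (P₂ v) := fun v => b2 y _
  have Bb4 : ∀ v, Commute (C.P X b y) (P₄ v) := fun v => b4 y _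
  have C13 : ∀ u v, Commute (P₁ u) (P₃ v) := fun u v => m3' _ _
  have C14 : ∀ u v, Commute (P₁ u) (P₄ v) := fun u v => m4' _ _
  have C23 : ∀ u v, Commute (P₂ u) (P₃ v) := fun u v => n3 _ _
  have C24 : ∀ u v, Commute (P₂ u) (P₄ v) := fun u v => n4 _ _
  have C34 : ∀ u v, Commute (P₃ u) (P₄ v) := fun u v => o4 _ _
  have A4 : ∀ z, A * P₄ z * A⁻¹ = P₄ z := fun z => by rw [(Aa4 _).eq]; group
  have A3 : ∀ z, A * P₃ z * A⁻¹ = P₃ z := fun z => by rw [(Aa3 _).eq]; group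
  have A2 : ∀ z, A * P₂ z * A⁻¹ = P₂ z * P₃ (-(3 * x * z)) := fun z => by
    rw [o3.neg]
    calc A * P₂ z * A⁻¹ = P₂ z * (A * (P₃ (3 * x * z))⁻¹ * A⁻¹) := by rw [← mul_assoc, ← mul_assoc, R3]; group
      _ = _ := by rw [← o3.neg, A3]
  have A1 : ∀ z, A * P₁ z * A⁻¹ = P₁ z * (P₂ (-(2 * x * z)) * P₃ (3 * x ^ 2 * z) * P₄ (-(3 * x * z ^ 2))) := fun z => by
    calc A * P₁ z * A⁻¹ = P₁ z * (A * (P₄ (3 * x * z ^ 2))⁻¹ * A⁻¹ * (A * (P₃ (3 * x ^ 2 * z))⁻¹ * A⁻¹) *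
          (A * (P₂ (2 * x * z))⁻¹ * A⁻¹)) := by
          simp only [← mul_assoc]; rw [R2]; group
      _ = P₁ z * (P₄ (-(3 * x * z ^ 2)) * (P₂ (-(2 * x * z)) * (P₃ (-(3 * x ^ 2 * z)) *
            P₃ (-(3 * x * -(2 * x * z)))))) := by
          rw [← o4'.neg, ← o3.neg, ← o2.neg, A4, A3, A2]
          congr 1
          rw [mul_assoc (P₄ _), ← mul_assoc (P₃ _) (P₂ _), ((C23 _ _).symm).eq, mul_assoc (P₂ _)]
      _ = _ := by
          rw [← o3, show -(3 * x ^ 2 * z) + -(3 * x * -(2 * x * z)) = 3 * x ^ 2 * z by ring,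
            ← ((C24 _ _).mul_left (C34 _ _)).eq]
  refine ⟨?_, ?_, ?_⟩
  · have B3 : ∀ z, C.P X b y * P₃ z * (C.P X b y)⁻¹ = P₃ z * P₄ (y * z) := fun z => by
      have h := R4 z
      rw [o4'.neg] at h
      calc C.P X b y * P₃ z * (C.P X b y)⁻¹
          = P₃ z * C.P X b y * P₄ (y * z) * (C.P X b y)⁻¹ := by rw [h]; group
        _ = P₃ z * (C.P X b y * P₄ (y * z) * (C.P X b y)⁻¹) := by group
        _ = _ := by rw [(Bb4 _).eq]; group
    have hB : C.P X b y * (P₁ (x * y) * P₂ (x ^ 2 * y)) * (C.P X b y)⁻¹ = P₁ (x * y) * P₂ (x ^ 2 * y) := by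
      rw [((Bb1 _).mul_right (Bb2 _)).eq]; group
    calc C.P X b y * A * (C.P X b y)⁻¹ * A⁻¹
        = A * (C.P X b y * (P₁ (x * y) * P₂ (x ^ 2 * y)) * (C.P X b y)⁻¹ *
            (C.P X b y * P₃ (x ^ 3 * y) * (C.P X b y)⁻¹) * (C.P X b y * P₄ (x ^ 3 * y ^ 2) * (C.P X b y)⁻¹)) * A⁻¹ := by
          rw [R1]; group
      _ = A * P₁ (x * y) * A⁻¹ * (A * P₂ (x ^ 2 * y) * A⁻¹) * (A * P₃ (x ^ 3 * y) * A⁻¹) *
            (A * P₄ (y * (x ^ 3 * y)) * A⁻¹) * (A * P₄ (x ^ 3 * y ^ 2) * A⁻¹) := by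
          rw [hB, B3, (Bb4 _).eq]; group
      _ = P₁ (x * y) * (P₂ (-(2 * x * (x * y))) * (P₃ (3 * x ^ 2 * (x * y)) * P₄ (-(3 * x * (x * y) ^ 2)) *
            P₂ (x ^ 2 * y)) * P₃ (-(3 * x * (x ^ 2 * y))) * P₃ (x ^ 3 * y) * P₄ (y * (x ^ 3 * y)) *
            P₄ (x ^ 3 * y ^ 2)) := by rw [A1, A2, A3, A4, A4]; group
      _ = P₁ (x * y) * (P₂ (-(2 * x * (x * y))) * P₂ (x ^ 2 * y) *
            (P₃ (3 * x ^ 2 * (x * y)) * (P₄ (-(3 * x * (x * y) ^ 2)) *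
            (P₃ (-(3 * x * (x ^ 2 * y))) * P₃ (x ^ 3 * y))) * (P₄ (y * (x ^ 3 * y)) * P₄ (x ^ 3 * y ^ 2)))) := by
          rw [← ((C23 _ _).mul_right (C24 _ _)).eq]; group
      _ = P₁ (x * y) * (P₂ (-(2 * x * (x * y))) * P₂ (x ^ 2 * y) *
            (P₃ (3 * x ^ 2 * (x * y)) * (P₃ (-(3 * x * (x ^ 2 * y))) * P₃ (x ^ 3 * y)) *
              (P₄ (-(3 * x * (x * y) ^ 2)) * (P₄ (y * (x ^ 3 * y)) * P₄ (x ^ 3 * y ^ 2))))) := by
          rw [← ((C34 _ _).mul_left (C34 _ _)).eq]; group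
      _ = P₁ (x * y) * P₂ (-(x ^ 2 * y)) * P₃ (x ^ 3 * y) * P₄ (-(x ^ 3 * y ^ 2)) := by
          rw [← o2, ← o3, ← o3, ← o4', ← o4', ← mul_assoc, ← mul_assoc]
          congr 3 <;> ring
      _ = _ := by
          simp only [hP₁, hP₂, hP₃, hP₄, Matrix.cons_val_zero, Matrix.cons_val_one, Matrix.cons_val,
            Int.cast_neg, mul_neg, neg_mul]
  · have hz : C.P X c₁ y = P₁ ((e₁ : Γ(X.left, ⊤)) * y) := by simp only [hP₁, ← mul_assoc, s1, one_mul]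
    rw [hz]
    set z := (e₁ : Γ(X.left, ⊤)) * y with hzdef
    have M2 : ∀ u, P₁ z * P₂ u * (P₁ z)⁻¹ = P₂ u * P₄ (-(3 * z * u)) := fun u => by
      rw [o4'.neg]
      calc P₁ z * P₂ u * (P₁ z)⁻¹ = P₂ u * (P₁ z * (P₄ (3 * z * u))⁻¹ * (P₁ z)⁻¹) := by
            simp only [← mul_assoc]; rw [R5]; group
        _ = _ := by rw [((C14 _ _).inv_right).eq]; group
    calc P₁ z * A * (P₁ z)⁻¹ * A⁻¹
        = A * (P₁ z * P₂ (2 * x * z) * (P₁ z)⁻¹ * (P₁ z * (P₃ (3 * x ^ 2 * z) * P₄ (3 * x * z ^ 2)) *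
            (P₁ z)⁻¹)) * A⁻¹ := by rw [R2]; group
      _ = A * P₂ (2 * x * z) * A⁻¹ * (A * P₄ (-(3 * z * (2 * x * z))) * A⁻¹) * (A * P₃ (3 * x ^ 2 * z) * A⁻¹) *
            (A * P₄ (3 * x * z ^ 2) * A⁻¹) := by
          rw [M2, ((C13 _ _).mul_right (C14 _ _)).eq]; group
      _ = P₂ (2 * x * z) * (P₃ (-(3 * x * (2 * x * z))) * (P₄ (-(3 * z * (2 * x * z))) * P₃ (3 * x ^ 2 * z)) *
            P₄ (3 * x * z ^ 2)) := by rw [A2, A4, A3, A4]; group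
      _ = P₂ (2 * x * z) * (P₃ (-(3 * x * (2 * x * z))) * P₃ (3 * x ^ 2 * z) *
            (P₄ (-(3 * z * (2 * x * z))) * P₄ (3 * x * z ^ 2))) := by rw [← (C34 _ _).eq]; group
      _ = P₂ (2 * x * z) * P₃ (-(3 * x ^ 2 * z)) * P₄ (-(3 * x * z ^ 2)) := by
          rw [← o3, ← o4', ← mul_assoc]
          congr 3 <;> ring
      _ = _ := by
          simp only [hP₂, hP₃, hP₄, hzdef, Matrix.cons_val_zero, Matrix.cons_val_one, Matrix.cons_val]
          refine congrArg₂ (· * ·) (congrArg₂ (· * ·) (congrArg _ ?_) (congrArg _ ?_)) (congrArg _ ?_)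
          · push_cast; ring
          · push_cast; ring
          · push_cast
            linear_combination (-3 * (e₄ : Γ(X.left, ⊤)) * x * y ^ 2) * s1
  · have hz : C.P X c₂ y = P₂ ((e₂ : Γ(X.left, ⊤)) * y) := by simp only [hP₂, ← mul_assoc, s2, one_mul]
    rw [hz]
    calc P₂ ((e₂ : Γ(X.left, ⊤)) * y) * A * (P₂ ((e₂ : Γ(X.left, ⊤)) * y))⁻¹ * A⁻¹
        = A * (P₂ ((e₂ : Γ(X.left, ⊤)) * y) * P₃ (3 * x * ((e₂ : Γ(X.left, ⊤)) * y)) *
            (P₂ ((e₂ : Γ(X.left, ⊤)) * y))⁻¹) * A⁻¹ := by rw [R3]; group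
      _ = A * P₃ (3 * x * ((e₂ : Γ(X.left, ⊤)) * y)) * A⁻¹ := by rw [(C23 _ _).eq]; group
      _ = _ := by
          rw [A3]
          simp only [hP₃, Matrix.cons_val]
          congr 1
          push_cast; ring
where
  root_lin {c : D.idx} (h : D.P.root c = D.P.root a + D.P.root b) : D.P.pairing c a = 2 + D.P.pairing b a := by
    simp only [pairing_eq_apply]
    rw [h, map_add, ← pairing_eq_apply, ← pairing_eq_apply, RootPairing.pairing_same]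
  root_lin' {c : D.idx} (h : D.P.root c = (3 : ℤ) • D.P.root a + D.P.root b) :
      D.P.pairing c b = 3 * D.P.pairing a b + 2 := by
    simp only [pairing_eq_apply]
    rw [h, map_add, map_zsmul, smul_eq_mul, ← pairing_eq_apply, ← pairing_eq_apply, RootPairing.pairing_same]

end ChevData

end Groth.Agent.Rank2Red38
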