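import Groth.Agent.Rank2Red38.Transport

/-! The Chevalley system of a pinned group. -/

set_option autoImplicit false

universe u

open CategoryTheory CategoryTheory.Limits AlgebraicGeometry MonoidalCategory CartesianMonoidalCategory
open scoped MonObj Classical

noncomputable section

namespace Groth.Agent.Rank2Red38

open GrpSchLib

variable {S : Scheme.{u}} {G : Over S} [GrpObj G] {D : Red.Pinning G}
variable (hd : ∀ c ∈ D.base.support, IsDual D.toSplitRed c)

variable (D) in
/-- `g` moves the representatives as the permutation `f` of the roots, up to sign. -/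
def Maps (g : Elt G) (f : Equiv.Perm D.idx) : Prop :=
  ∀ (c : D.idx) (φ ψ : Fam G), Rep D c φ → Rep D (f c) ψ → Sim (act g φ) ψ

include hd

theorem maps_Wf {a : D.idx} (ha : a ∈ D.base.support) : Maps D (Wf D a) (D.P.reflectionPerm a) :=
  fun _ _ _ h h' => rep_act hd ha h h'

theorem maps_one : Maps D 1 1 := fun _ _ _ h h' => by rw [act_one]; exact rep_unique hd h h'

omit hd in
theorem Maps.mul {g g' : Elt G} {f f' : Equiv.Perm D.idx} (h : Maps D g f) (h' : Maps D g' f') :
    Maps D (g * g') (f * f') := fun c φ ψ hφ hψ => by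
  obtain ⟨χ, hχ⟩ := exists_rep (D := D) (f' c)
  rw [act_mul]
  exact ((h' c φ χ hφ hχ).act g).trans (h _ χ ψ hχ hψ)

omit hd in
theorem Maps.inv {g : Elt G} {f : Equiv.Perm D.idx} (h : Maps D g f) : Maps D g⁻¹ f⁻¹ := fun c φ ψ hφ hψ => by
  have e := ((h (f⁻¹ c) ψ φ hψ (by simpa using hφ)).act g⁻¹).symm
  rwa [← act_mul, inv_mul_cancel, act_one] at e

theorem maps_word (l : List D.idx) (hl : ∀ a ∈ l, a ∈ D.base.support) :
    Maps D (l.map (Wf D)).prod (l.map fun a => D.P.reflectionPerm a).prod := by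
  induction l with
  | nil => exact maps_one hd
  | cons a l ih =>
    simp only [List.map_cons, List.prod_cons]
    exact (maps_Wf hd (hl a List.mem_cons_self)).mul (ih fun b hb => hl b (List.mem_cons_of_mem _ hb))

/-- A product of simple Weyl elements moving a simple root to a simple root respects the pinning up to sign. -/
theorem word_conj (l : List D.idx) (hl : ∀ a ∈ l, a ∈ D.base.support) {a a₀ : D.idx} (ha : a ∈ D.base.support)
    (ha₀ : a₀ ∈ D.base.support) (hw : (l.map fun a => D.P.reflectionPerm a).prod a = a₀) :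
    Sim (act (l.map (Wf D)).prod (Uf D a)) (Uf D a₀) :=
  maps_word hd l hl a _ _ (.base ha (.inl rfl)) (by rw [hw]; exact .base ha₀ (.inl rfl))

omit hd in
theorem av_reflect (a c : D.idx) (X : Over S) (z : Γ(X.left, ⊤)ˣ) :
    av D.toSplitRed X (D.P.reflectionPerm a c) z =
      av D.toSplitRed X c z * (av D.toSplitRed X a (z ^ D.P.pairing a c))⁻¹ := by
  have key : ∀ t t' : X ⟶ D.T, t ≫ D.split.hom.hom.hom = t' ≫ D.split.hom.hom.hom → t = t' := fun t t' h => by
    have h2 := congrArg (· ≫ D.split.inv.hom.hom) h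
    simp only [Category.assoc, show D.split.hom.hom.hom ≫ D.split.inv.hom.hom = 𝟙 _ from
      congrArg (fun k => k.hom.hom) D.split.hom_inv_id, Category.comp_id] at h2
    exact h2
  have hv : ∀ (d : D.idx) (v : Γ(X.left, ⊤)ˣ) (m : D.M),
      dsVal (av D.toSplitRed X d v ≫ D.split.hom.hom.hom) m =
        ((v ^ (D.P.coroot d m) : Γ(X.left, ⊤)ˣ) : Γ(X.left, ⊤)) := fun d v m => by
    show dsVal ((GmPts.ptOfUnit v ≫ corootHom D.toSplitRed d) ≫ D.split.hom.hom.hom) m = _
    simp only [corootHom, Category.assoc]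
    rw [show D.split.inv.hom.hom ≫ D.split.hom.hom.hom = 𝟙 _ from congrArg (fun k => k.hom.hom) D.split.inv_hom_id,
      Category.comp_id, dsVal_map, dsVal_gm, GmPts.unitOfPt_ptOfUnit]
    rfl
  refine eq_mul_inv_iff_mul_eq.mpr (key _ _ (ds_ext fun m => ?_))
  haveI : IsMonHom D.split.hom.hom.hom := D.split.hom.hom.isMonHom_hom
  haveI : IsMonHom (Red.chi S m) := S5427.isMonHom_DSmap S _
  have hm : ∀ t t' : X ⟶ D.T, (t * t') ≫ D.split.hom.hom.hom = (t ≫ D.split.hom.hom.hom) * (t' ≫ D.split.hom.hom.hom) :=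
    fun t t' => @MonObj.mul_comp _ _ _ _ _ X _ _ t t' D.split.hom.hom.hom D.split.hom.hom.isMonHom_hom
  rw [hm, dsVal_mul, hv, hv, hv, ← Units.val_mul, ← zpow_mul, ← zpow_add]
  congr 2
  have : D.P.coroot (D.P.reflectionPerm a c) = D.P.coroot c - D.P.pairing a c • D.P.coroot a := by
    rw [← D.P.reflectionPerm_coroot, D.P.root_coroot_eq_pairing]
  rw [this, LinearMap.sub_apply, LinearMap.smul_apply, smul_eq_mul]
  ring

theorem conj_av {a : D.idx} (ha : a ∈ D.base.support) (c : D.idx) (X : Over S) (z : Γ(X.left, ⊤)ˣ) :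
    W D.toSplitRed X a * I D.toSplitRed X (av D.toSplitRed X c z) * (W D.toSplitRed X a)⁻¹ =
      I D.toSplitRed X (av D.toSplitRed X (D.P.reflectionPerm a c) z) := by
  rw [W_conj_torus D.toSplitRed (hd a ha), rootVal_av, av_reflect]

omit hd in
/-- The families `φ` and `vd` are dual with coroot that of `c`. -/
def DualFam (D : Red.Pinning G) (c : D.idx) (φ vd : Fam G) : Prop :=
  ∀ (X : Over S) (x y : Γ(X.left, ⊤)) (z : Γ(X.left, ⊤)ˣ), (z : Γ(X.left, ⊤)) = 1 + x * y →
    φ X x * vd X y = vd X (y * ((z⁻¹ : Γ(X.left, ⊤)ˣ) : Γ(X.left, ⊤))) * I D.toSplitRed X (av D.toSplitRed X c z) *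
      φ X (x * ((z⁻¹ : Γ(X.left, ⊤)ˣ) : Γ(X.left, ⊤)))

omit hd in
/-- The Weyl element of two families. -/
def nElt (φ vd : Fam G) : Elt G := fun X => φ X 1 * (vd X 1)⁻¹ * φ X 1

omit hd in
theorem dual_base {a : D.idx} (hda : IsDual D.toSplitRed a) :
    DualFam D a (Uf D a) (Uf D (neg' D.toSplitRed a)) := by
  intro X x y z hz
  obtain ⟨x', y', z', h1, h2, h3, h4⟩ := hda X (GaPts.ptOfFn x) (GaPts.ptOfFn y)
    (by simp only [GaPts.gaFn_ptOfFn]; exact hz ▸ z.isUnit)
  simp only [GaPts.gaFn_ptOfFn] at h1 h2 h3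
  have e : z' = GmPts.ptOfUnit z := GmPts.gmFn_injective (by dsimp only; rw [h1, GmPts.gmFn_ptOfUnit, hz])
  subst e
  rw [GmPts.gmFn_ptOfUnit] at h2 h3
  have ex : Red.gaFn x' = x * ((z⁻¹ : Γ(X.left, ⊤)ˣ) : Γ(X.left, ⊤)) := by rw [← h2, Units.mul_inv_cancel_right]
  have ey : Red.gaFn y' = y * ((z⁻¹ : Γ(X.left, ⊤)ˣ) : Γ(X.left, ⊤)) := by rw [← h3, Units.mul_inv_cancel_right]
  rw [pt_comp_eq D.toSplitRed, pt_comp_eq D.toSplitRed, pt_comp_eq D.toSplitRed, pt_comp_eq D.toSplitRed,
    GaPts.gaFn_ptOfFn, GaPts.gaFn_ptOfFn, ex, ey] at h4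
  exact h4.trans (by rw [← Category.assoc]; rfl)

omit hd in
theorem av_neg' (a : D.idx) (X : Over S) (z : Γ(X.left, ⊤)ˣ) :
    av D.toSplitRed X (neg' D.toSplitRed a) z = (av D.toSplitRed X a z)⁻¹ := by
  show av D.toSplitRed X (D.P.reflectionPerm a a) z = _
  rw [av_reflect, RootPairing.pairing_same, zpow_two, map_mul]
  group

omit hd in
theorem dual_base' {a : D.idx} (hda : IsDual D.toSplitRed a) :
    DualFam D (neg' D.toSplitRed a) (Uf D (neg' D.toSplitRed a)) (Uf D a) := by
  intro X x y z hz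
  have h := dual_base hda X (-y) (-x) z (by rw [hz]; ring)
  simp only [Uf, neg_mul, (U_oneParam D.toSplitRed (X := X) a).neg,
    (U_oneParam D.toSplitRed (X := X) (neg' D.toSplitRed a)).neg] at h ⊢
  rw [av_neg', map_inv]
  refine inv_injective ?_
  simp only [_root_.mul_inv_rev, inv_inv]
  rw [h]
  group

/-- Every root has a dual pair of representatives whose Weyl element moves the representatives by the reflection. -/
theorem rep_chevalley {c : D.idx} {φ : Fam G} (h : Rep D c φ) :
    ∃ k : Γ(S, ⊤), DualFam D c φ (Uk D (neg' D.toSplitRed c) k) ∧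
      Maps D (nElt φ (Uk D (neg' D.toSplitRed c) k)) (D.P.reflectionPerm c) := by
  induction h with
  | @base a c ha hc =>
    refine ⟨1, ?_⟩
    rw [Uk_one]
    rcases hc with rfl | rfl
    · exact ⟨dual_base (hd _ ha), maps_Wf hd ha⟩
    · rw [neg'_neg']
      refine ⟨dual_base' (hd a ha), ?_⟩
      have e : nElt (Uf D (neg' D.toSplitRed a)) (Uf D a) = (Wf D a)⁻¹ := by
        funext X
        simp only [nElt, Pi.inv_apply, Wf, Uf]
        rw [W_eq_neg D.toSplitRed (hd a ha)]
        simp only [weylElt, (U_oneParam D.toSplitRed (X := X) a).neg,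
          (U_oneParam D.toSplitRed (X := X) (neg' D.toSplitRed a)).neg]
        group
      have ep : D.P.reflectionPerm (neg' D.toSplitRed a) = (D.P.reflectionPerm a)⁻¹ := by
        rw [RootPairing.reflectionPerm_inv]
        refine Equiv.ext fun d => eq_of_root_eq ?_
        rw [RootPairing.root_reflectionPerm, reflection_neg', RootPairing.root_reflectionPerm]
      rw [e, ep]
      exact (maps_Wf hd ha).inv
  | @step a c ψ ha hc hp h ih =>
    obtain ⟨k, hdual, hmaps⟩ := ih
    obtain ⟨k', -, e⟩ := exists_scalar hd ha (neg' D.toSplitRed (D.P.reflectionPerm a c))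
    rw [reflect_neg', RootPairing.reflectionPerm_self] at e
    have ev : act (Wf D a) (Uk D (neg' D.toSplitRed (D.P.reflectionPerm a c)) k) =
        Uk D (neg' D.toSplitRed c) (k' * k) := by
      funext X x
      refine (congrFun (congrFun e X) (glob X k * x)).trans ?_
      simp only [Uk, map_mul, mul_assoc]
    refine ⟨k' * k, ?_, ?_⟩ <;> rw [← ev]
    · intro X x y z hz
      have h1 := congrArg (fun g => W D.toSplitRed X a * g * (W D.toSplitRed X a)⁻¹) (hdual X x y z hz)
      have h2 := conj_av hd ha (D.P.reflectionPerm a c) X z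
      rw [RootPairing.reflectionPerm_self] at h2
      simp only [act, Wf, ← h2]
      refine Eq.trans ?_ (h1.trans ?_) <;> group
    · have e1 : nElt (act (Wf D a) ψ) (act (Wf D a) (Uk D (neg' D.toSplitRed (D.P.reflectionPerm a c)) k)) =
          Wf D a * nElt ψ (Uk D (neg' D.toSplitRed (D.P.reflectionPerm a c)) k) * (Wf D a)⁻¹ := by
        funext X
        simp only [nElt, act, Pi.mul_apply, Pi.inv_apply]
        group
      have e2 : D.P.reflectionPerm c =
          D.P.reflectionPerm a * D.P.reflectionPerm (D.P.reflectionPerm a c) * (D.P.reflectionPerm a)⁻¹ := by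
        rw [RootPairing.reflectionPerm_inv]
        refine Equiv.ext fun d => eq_of_root_eq ?_
        conv_lhs => rw [show c = D.P.reflectionPerm a (D.P.reflectionPerm a c) from
          (RootPairing.reflectionPerm_self _ _ _).symm]
        simp only [Equiv.Perm.mul_apply, RootPairing.root_reflectionPerm, RootPairing.reflection_reflectionPerm,
          LinearEquiv.mul_apply, RootPairing.reflection_same]
      rw [e1, e2]
      exact ((maps_Wf hd ha).mul hmaps).mul (maps_Wf hd ha).inv

end Groth.Agent.Rank2Red38
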