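import Groth.Agent.Rank2Red38.SysG2

/-! The relations in a system of type G2; the last constant is found on a cover with a unit `s` such that
`1 - s` is a unit. -/

set_option autoImplicit false

universe u

open CategoryTheory CategoryTheory.Limits AlgebraicGeometry MonoidalCategory CartesianMonoidalCategory
open scoped MonObj

noncomputable section

namespace Groth.Agent.Rank2Red38

open GrpSchLib

variable {S : Scheme.{u}} {G : Over S} [GrpObj G] {D : Red.SplitRed G}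

/-- An element built from one-parameter subgroups commuting with `g` commutes with `g`. -/
theorem weylElt_commute {R H : Type*} [CommRing R] [Group H] {u v : R → H} {g : H}
    (hu : u 1 * g = g * u 1) (hv : v 1 * g = g * v 1) : weylElt u v * g = g * weylElt u v := by
  have h : Commute (u 1 * (v 1)⁻¹ * u 1) g :=
    (Commute.mul_left (Commute.mul_left hu (Commute.inv_left hv)) hu)
  exact h

namespace Frame

variable {s : Sys2 D} (fr : Frame s) {X X' : Over S} (f : X' ⟶ X)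

theorem comp_V (p : ℤ × ℤ) (x : Γ(X.left, ⊤)) : f ≫ fr.V X p x = fr.V X' p (f.left.appTop x) := by
  simp only [V, Sys2.V, comp_U, map_mul, map_intCast]

theorem comp_mSub (x : Γ(X.left, ⊤)) : f ≫ fr.mSub X x = fr.mSub X' (f.left.appTop x) := by
  simp only [mSub, comp_mul', comp_inv', comp_V, comp_W]

theorem comp_g2 (x : Γ(X.left, ⊤)) : f ≫ fr.g2 X x = fr.g2 X' (f.left.appTop x) := by
  simp only [g2, comp_mul', comp_inv', comp_mSub, comp_W]

theorem comp_g3 (x : Γ(X.left, ⊤)) : f ≫ fr.g3 X x = fr.g3 X' (f.left.appTop x) := by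
  simp only [g3, comp_mul', comp_inv', comp_V, comp_W, map_neg]

theorem comp_g4 (x : Γ(X.left, ⊤)) : f ≫ fr.g4 X x = fr.g4 X' (f.left.appTop x) := by
  simp only [g4, comp_mul', comp_inv', comp_g3, comp_W]

omit f X X'
variable (X : Over S) (N : HasNormalForm D) (hs : s.pos = posG2) (hba : D.P.pairing s.b s.a = -3)
  (hab : D.P.pairing s.a s.b = -1)
include N hs hba hab

set_option maxHeartbeats 1000000 in
theorem G2_commute : (∀ x, W D X fr.ca * fr.g4 X x = fr.g4 X x * W D X fr.ca) ∧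
    ∀ x, W D X fr.cb * fr.g2 X x = fr.g2 X x * W D X fr.cb := by
  obtain ⟨κ, d⟩ := fr.G2_data X N hs hba hab
  refine ⟨fun x => ?_, fun x => ?_⟩
  · rw [← fr.weyl_a X]
    exact weylElt_commute (d.a4 1 x) (d.m4_na x 1).symm
  · rw [← fr.weyl_b X]
    exact weylElt_commute (d.b2 1 x) (d.m2_nb x 1).symm

set_option maxHeartbeats 1000000 in
theorem G2_commutators (x y : Γ(X.left, ⊤)) :
    fr.V X (0, 1) y * fr.V X (1, 0) x = fr.V X (1, 0) x * fr.V X (0, 1) y * fr.mSub X (x * y) *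
        fr.g2 X (x ^ 2 * y) * fr.g3 X (x ^ 3 * y) * fr.g4 X (x ^ 3 * y ^ 2) ∧
      fr.mSub X y * fr.V X (1, 0) x = fr.V X (1, 0) x * fr.mSub X y * fr.g2 X (2 * x * y) *
        fr.g3 X (3 * x ^ 2 * y) * fr.g4 X (3 * x * y ^ 2) ∧
      fr.g2 X y * fr.V X (1, 0) x = fr.V X (1, 0) x * fr.g2 X y * fr.g3 X (3 * x * y) ∧
      fr.g3 X y * fr.V X (0, 1) x = fr.V X (0, 1) x * fr.g3 X y * fr.g4 X (-(x * y)) ∧
      fr.g2 X y * fr.mSub X x = fr.mSub X x * fr.g2 X y * fr.g4 X (3 * x * y) := by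
  obtain ⟨X', f, t, r, hf, hr⟩ := RankOne.exists_cover X
  obtain ⟨κ, d⟩ := fr.G2_data X' N hs hba hab
  obtain ⟨hC2, hG0, hH, hM⟩ := d.C2_eq
  obtain ⟨hN, hK, hz⟩ := d.N_K_eq
  have hC4 : κ.C4 = 1 := by
    have h1 : IsUnit (-(t : Γ(X'.left, ⊤)) + (-(t : Γ(X'.left, ⊤))) ^ 2) := by
      have : -(t : Γ(X'.left, ⊤)) + (-(t : Γ(X'.left, ⊤))) ^ 2 = -((t : Γ(X'.left, ⊤)) * r) := by rw [hr]; ring
      rw [this]
      exact ((t.isUnit).mul r.isUnit).neg
    exact sub_eq_zero.mp (h1.mul_left_eq_zero.mp (hz _))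
  simp only [← cancel_epi f, comp_mul', comp_V, comp_mSub, comp_g2, comp_g3, comp_g4, map_mul, map_pow, map_neg,
    map_ofNat]
  refine ⟨?_, ?_, ?_, ?_, ?_⟩
  · rw [d.b_a, d.C1_eq, hC2, d.wa_b.1, hC4]
    simp only [one_mul]
  · rw [d.m1_a, hG0, hH, hK]
  · rw [d.m2_a, hM]
  · rw [d.m3_b, d.L_eq, neg_one_mul, neg_mul]
  · rw [d.m2_m1, hN]

end Frame

end Groth.Agent.Rank2Red38
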