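import Groth.Agent.Rank2Red38.PinnedB2
import Groth.Agent.Rank2Red38.SysG2Rel

/-! The relations of type G2 between two simple roots of a pinned group. -/

set_option autoImplicit false

universe u

open CategoryTheory CategoryTheory.Limits AlgebraicGeometry MonoidalCategory CartesianMonoidalCategory
open scoped MonObj

noncomputable section

namespace Groth.Agent.Rank2Red38

open GrpSchLib

theorem conj_swap {H : Type*} [Group H] {g t t' x : H} (h : t * g = g * t') :
    t * (g * x * g⁻¹) * t⁻¹ = g * (t' * x * t'⁻¹) * g⁻¹ := by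
  have e : t = g * t' * g⁻¹ := by rw [← h, mul_inv_cancel_right]
  rw [e]; group

variable {S : Scheme.{u}} {G : Over S} [GrpObj G] {D : Red.Pinning G} {a b : D.idx} (ha : a ∈ D.base.support)
  (hb : b ∈ D.base.support) (hne : a ≠ b)

/-- The system of type G2, `a` short. -/
def pinnedG2 (hba : D.P.pairing b a = -3) (hab : D.P.pairing a b = -1) : Sys2 D.toSplitRed :=
  pinnedSys ha hb hne posG2
    (by
      have h11 : IsComb D.P a b 1 1 := by simpa [hab] using (isComb_gen (D := D) (a := a) (b := b)).1.reflect_right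
      have h31 : IsComb D.P a b 3 1 := by simpa [hba] using (isComb_gen (D := D) (a := a) (b := b)).2.reflect_left
      have h21 : IsComb D.P a b 2 1 := by simpa [hba] using h11.reflect_left
      have h32 : IsComb D.P a b 3 2 := by simpa [hab] using h31.reflect_right
      simp only [List.forall_mem_cons, List.not_mem_nil, IsEmpty.forall_iff, implies_true, and_true]
      exact ⟨isComb_gen.1, isComb_gen.2, h11, h21, h31, h32⟩)
    (fun i j hi hj h => by
      rcases comb_G2 D.base ha hb hne hi hj h hba hab with ⟨rfl, rfl | rfl | rfl⟩ | ⟨rfl, rfl⟩ <;> decide)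
    (by decide) (by decide)

namespace G2Pinned

variable (N : HasNormalForm D.toSplitRed) (hba : D.P.pairing b a = -3) (hab : D.P.pairing a b = -1)
  (hda : IsDual D.toSplitRed a) (hdb : IsDual D.toSplitRed b) (X : Over S)

local notation "u" => U D.toSplitRed X
local notation "n" => W D.toSplitRed X

/-- The subgroup of `a + b`. -/
abbrev m1 (a b : D.idx) (x : Γ(X.left, ⊤)) : X ⟶ G := n b * u a x * (n b)⁻¹
/-- The subgroup of `2a + b`. -/
abbrev m2 (a b : D.idx) (x : Γ(X.left, ⊤)) : X ⟶ G := n a * m1 X a b x * (n a)⁻¹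
/-- The subgroup of `3a + b`. -/
abbrev m3 (a b : D.idx) (x : Γ(X.left, ⊤)) : X ⟶ G := n a * u b (-x) * (n a)⁻¹
/-- The subgroup of `3a + 2b`. -/
abbrev m4 (a b : D.idx) (x : Γ(X.left, ⊤)) : X ⟶ G := n b * m3 X a b x * (n b)⁻¹

include N ha hb hne hba hab hda hdb

theorem commutators (x y : Γ(X.left, ⊤)) :
    u b y * u a x = u a x * u b y * m1 X a b (x * y) * m2 X a b (x ^ 2 * y) * m3 X a b (x ^ 3 * y) *
        m4 X a b (x ^ 3 * y ^ 2) ∧
      m1 X a b y * u a x = u a x * m1 X a b y * m2 X a b (2 * x * y) * m3 X a b (3 * x ^ 2 * y) *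
        m4 X a b (3 * x * y ^ 2) ∧
      m2 X a b y * u a x = u a x * m2 X a b y * m3 X a b (3 * x * y) ∧
      m3 X a b y * u b x = u b x * m3 X a b y * m4 X a b (-(x * y)) ∧
      m2 X a b y * m1 X a b x = m1 X a b x * m2 X a b y * m4 X a b (3 * x * y) := by
  set s := pinnedG2 ha hb hne hba hab with hs
  have h1 : InSys s.pos (1, 0) := Or.inl (show (1, 0) ∈ posG2 by decide)
  have h2 : InSys s.pos (0, 1) := Or.inl (show (0, 1) ∈ posG2 by decide)
  obtain ⟨r1, r2, -, -⟩ := s.r_gen h1 h2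
  have h := Frame.G2_commutators (s := s) (s.frame h1 h2 hda hdb) X N rfl hba hab x y
  have e1 : ∀ x, s.V X (1, 0) x = u a x := fun x => by rw [Sys2.V, r1]; rfl
  have e2 : ∀ x, s.V X (0, 1) x = u b x := fun x => by rw [Sys2.V, r2]; rfl
  simp only [Frame.V, Frame.mSub, Frame.g2, Frame.g3, Frame.g4, Sys2.frame, Int.cast_one, one_mul, e1, e2] at h
  exact h

theorem commute_long : (∀ x, n a * m4 X a b x = m4 X a b x * n a) ∧ (∀ x, n b * m2 X a b x = m2 X a b x * n b) ∧
    ∀ x, n a * (n b * (n a * u (neg' D.toSplitRed b) x * (n a)⁻¹) * (n b)⁻¹) =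
      n b * (n a * u (neg' D.toSplitRed b) x * (n a)⁻¹) * (n b)⁻¹ * n a := by
  set s := pinnedG2 ha hb hne hba hab with hs
  have h1 : InSys s.pos (1, 0) := Or.inl (show (1, 0) ∈ posG2 by decide)
  have h2 : InSys s.pos (0, 1) := Or.inl (show (0, 1) ∈ posG2 by decide)
  obtain ⟨r1, r2, -, -⟩ := s.r_gen h1 h2
  obtain ⟨-, q2, -, -⟩ := s.negSys.r_gen h1 h2
  obtain ⟨p1, p2⟩ := Frame.G2_commute (s := s) (s.frame h1 h2 hda hdb) X N rfl hba hab
  have np : ∀ c d (v : ℤ), D.P.pairing c d = v →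
      D.P.pairing (neg' D.toSplitRed c) (neg' D.toSplitRed d) = v := fun c d v h => by
    show D.P.pairing (D.P.reflectionPerm c c) (D.P.reflectionPerm d d) = v
    rw [RootPairing.pairing_reflectionPerm_self_left, RootPairing.pairing_reflectionPerm_self_right, neg_neg, h]
  obtain ⟨p3, -⟩ := Frame.G2_commute (s := s.negSys) (s.negFrame h1 h2 hda hdb) X N rfl
    (np _ _ _ hba) (np _ _ _ hab)
  have e1 : ∀ x, s.V X (1, 0) x = u a x := fun x => by rw [Sys2.V, r1]; rfl
  have e2 : ∀ x, s.V X (0, 1) x = u b x := fun x => by rw [Sys2.V, r2]; rfl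
  have f2 : ∀ x, s.negSys.V X (0, 1) x = u (neg' D.toSplitRed b) x := fun x => by rw [Sys2.V, q2]; rfl
  simp only [Frame.V, Frame.mSub, Frame.g2, Frame.g3, Frame.g4, Sys2.frame, Int.cast_one, one_mul, e1, e2] at p1 p2
  simp only [Frame.V, Frame.g3, Frame.g4, Sys2.negFrame, Int.cast_neg, Int.cast_one, neg_one_mul, neg_neg, f2] at p3
  exact ⟨p1, p2, p3⟩

theorem torus_conj : n a * I D.toSplitRed X (av D.toSplitRed X b (-1)) * (n a)⁻¹ =
      I D.toSplitRed X (av D.toSplitRed X b (-1)) * I D.toSplitRed X (av D.toSplitRed X a (-1)) ∧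
    n b * I D.toSplitRed X (av D.toSplitRed X a (-1)) * (n b)⁻¹ =
      I D.toSplitRed X (av D.toSplitRed X a (-1)) * I D.toSplitRed X (av D.toSplitRed X b (-1)) := by
  constructor
  · rw [W_conj_torus D.toSplitRed hda, rootVal_av, hab, map_mul, map_inv]
    simp [inv_eq_of_mul_eq_one_left (av_neg_one_mul_self D.toSplitRed (X := X) a)]
  · rw [W_conj_torus D.toSplitRed hdb, rootVal_av, hba, map_mul, map_inv]
    simp [zpow_neg, inv_eq_of_mul_eq_one_left (av_neg_one_mul_self D.toSplitRed (X := X) b),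
      show ((-1 : Γ(X.left, ⊤)ˣ) ^ (3 : ℤ)) = -1 by simp [zpow_ofNat, pow_succ]]

set_option maxHeartbeats 800000 in
theorem coxeter : (n a * n b) ^ 6 = 1 ∧ (n b * n a) ^ 6 = 1 := by
  obtain ⟨p1, -, p3⟩ := commute_long ha hb hne N hba hab hda hdb X
  obtain ⟨t1, t2⟩ := torus_conj ha hb hne N hba hab hda hdb X
  refine coxeter_G2 (W_sq D.toSplitRed hda) (W_sq D.toSplitRed hdb) (av_neg_one_mul_self _ a) (av_neg_one_mul_self _ b)
    (I_comm _ _ _) t1 t2 ?_
  have hg : n b * n a * n b * (n a)⁻¹ * (n b)⁻¹ =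
      weylElt (fun x => n b * n a * u b x * (n b * n a)⁻¹)
        (fun x => n b * n a * u (neg' D.toSplitRed b) x * (n b * n a)⁻¹) := by
    have h3 : n b * n a * weylElt (u b) (u (neg' D.toSplitRed b)) * (n b * n a)⁻¹ =
        weylElt (fun x => n b * n a * u b x * (n b * n a)⁻¹)
          (fun x => n b * n a * u (neg' D.toSplitRed b) x * (n b * n a)⁻¹) :=
      weylElt_conj_eq _ (fun _ => rfl) (fun _ => rfl)
    rw [← h3]
    show _ = n b * n a * n b * (n b * n a)⁻¹
    group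
  have c1 : n a * (n b * n a * u b 1 * (n b * n a)⁻¹) = (n b * n a * u b 1 * (n b * n a)⁻¹) * n a := by
    have h := p1 (-1)
    simp only [m4, m3, neg_neg] at h
    rw [show n b * n a * u b 1 * (n b * n a)⁻¹ = n b * (n a * u b 1 * (n a)⁻¹) * (n b)⁻¹ by group]
    exact h
  have c2 : n a * (n b * n a * u (neg' D.toSplitRed b) 1 * (n b * n a)⁻¹) =
      (n b * n a * u (neg' D.toSplitRed b) 1 * (n b * n a)⁻¹) * n a := by
    rw [show n b * n a * u (neg' D.toSplitRed b) 1 * (n b * n a)⁻¹ =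
      n b * (n a * u (neg' D.toSplitRed b) 1 * (n a)⁻¹) * (n b)⁻¹ by group]
    exact p3 1
  have h4 : weylElt (fun x => n b * n a * u b x * (n b * n a)⁻¹)
      (fun x => n b * n a * u (neg' D.toSplitRed b) x * (n b * n a)⁻¹) * n a =
      n a * weylElt (fun x => n b * n a * u b x * (n b * n a)⁻¹)
      (fun x => n b * n a * u (neg' D.toSplitRed b) x * (n b * n a)⁻¹) :=
    weylElt_commute (R := Γ(X.left, ⊤)) (by beta_reduce; exact c1.symm) (by beta_reduce; exact c2.symm)
  rw [hg]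
  exact conj_of_commute h4.symm

theorem weyl_conj (x : Γ(X.left, ⊤)) :
    n a * m2 X a b x * (n a)⁻¹ = m1 X a b (-x) ∧ n a * m3 X a b x * (n a)⁻¹ = u b x ∧
    n a * m4 X a b x * (n a)⁻¹ = m4 X a b x ∧ n b * m1 X a b x * (n b)⁻¹ = u a (-x) ∧
    n b * m2 X a b x * (n b)⁻¹ = m2 X a b x ∧ n b * m4 X a b x * (n b)⁻¹ = m3 X a b (-x) := by
  obtain ⟨p1, p2, -⟩ := commute_long ha hb hne N hba hab hda hdb X
  obtain ⟨t1, t2⟩ := torus_conj ha hb hne N hba hab hda hdb X
  set ta := I D.toSplitRed X (av D.toSplitRed X a (-1)) with hta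
  set tb := I D.toSplitRed X (av D.toSplitRed X b (-1)) with htb
  have sa : n a ^ 2 = ta := W_sq D.toSplitRed hda
  have sb : n b ^ 2 = tb := W_sq D.toSplitRed hdb
  have hsq : ∀ g y : X ⟶ G, g * (g * y * g⁻¹) * g⁻¹ = g ^ 2 * y * (g ^ 2)⁻¹ := fun g y => by rw [pow_two]; group
  have hswap : ta * n b = n b * (ta * tb) := by
    have e : n b * (ta * tb) * (n b)⁻¹ = ta := by
      rw [conj_mul', t2, show n b * tb * (n b)⁻¹ = tb by rw [← sb, pow_two]; group, mul_assoc, av_neg_one_mul_self,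
        mul_one]
    exact (mul_inv_eq_iff_eq_mul.mp e).symm
  have hswap' : tb * n a = n a * (tb * ta) := by
    have e : n a * (tb * ta) * (n a)⁻¹ = tb := by
      rw [conj_mul', t1, show n a * ta * (n a)⁻¹ = ta by rw [← sa, pow_two]; group, mul_assoc, av_neg_one_mul_self,
        mul_one]
    exact (mul_inv_eq_iff_eq_mul.mp e).symm
  refine ⟨?_, ?_, mul_inv_eq_iff_eq_mul.mpr (p1 x), ?_, mul_inv_eq_iff_eq_mul.mpr (p2 x), ?_⟩
  · rw [hsq, sa, conj_swap hswap, hta, htb, ← map_mul, conj_U, map_mul, rootVal_av, rootVal_av, hab,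
      RootPairing.pairing_same]
    simp
  · rw [hsq, sa, hta, conj_U, rootVal_av, hba]
    simp [zpow_ofNat, pow_succ]
  · rw [hsq, sb, htb, conj_U, rootVal_av, hab]
    simp
  · rw [hsq, sb, conj_swap hswap', hta, htb, ← map_mul, conj_U, map_mul, rootVal_av, rootVal_av, hba,
      RootPairing.pairing_same]
    simp [zpow_ofNat, pow_succ, m3]

end G2Pinned

end Groth.Agent.Rank2Red38
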