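import Groth.Agent.Rank2Red38.ChevRank
import Groth.Agent.Rank2Red38.ChevClass
import Groth.Agent.Rank2Red38.Scale
import Groth.Agent.Rank2Red38.PinnedG2
import Groth.Agent.Rank2Red38.Chevalley

/-! A Chevalley system on a split group gives rank-two systems with given Weyl elements. -/

set_option autoImplicit false

universe u

open CategoryTheory CategoryTheory.Limits AlgebraicGeometry MonoidalCategory CartesianMonoidalCategory
open scoped MonObj Classical

noncomputable section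

namespace Groth.Agent.Rank2Red38

open GrpSchLib

variable {S : Scheme.{u}} {G : Over S} [GrpObj G]

/-- A homomorphism on points, with values parametrised by functions. -/
def homFn (u : Red.Ga S ⟶ G) (X : Over S) (x : Γ(X.left, ⊤)) : X ⟶ G := (GaPts.ptOfFn x : X ⟶ Red.Ga S) ≫ u

omit [GrpObj G] in
theorem comp_homFn (u : Red.Ga S ⟶ G) {X X' : Over S} (g : X' ⟶ X) (x : Γ(X.left, ⊤)) :
    g ≫ homFn u X x = homFn u X' (g.left.appTop x) := by
  rw [homFn, homFn, ← Category.assoc, RankOne.map_gaFn_ptOfFn]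

omit [GrpObj G] in
theorem pt_comp_homFn (u : Red.Ga S ⟶ G) {X : Over S} (x : X ⟶ Red.Ga S) : x ≫ u = homFn u X (Red.gaFn x) :=
  congrArg (· ≫ u) (RankOne.ga_eq_ptOfFn x)

theorem homFn_oneParam (u : Red.Ga S ⟶ G) [IsMonHom u] (X : Over S) : IsOneParam (homFn u X) := fun x y => by
  rw [homFn, homFn, homFn, ← MonObj.mul_comp _ _ u]
  exact congrArg (· ≫ u) (GaPts.gaFn_injective (by simp [GaPts.gaFn_mul, GaPts.gaFn_ptOfFn]))

/-- Root homomorphisms with duals, such that the Weyl elements permute them up to signs. -/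
structure ChevData (D : Red.SplitRed G) where
  v : D.idx → (Red.Ga S ⟶ G)
  vd : D.idx → (Red.Ga S ⟶ G)
  root : ∀ c, Red.IsRootHom D.i (D.split.hom.hom.hom ≫ Red.chi S (D.P.root c)) (v c)
  monHom : ∀ c, IsMonHom (vd c)
  dual : ∀ (c : D.idx) (X : Over S) (x y : X ⟶ Red.Ga S), IsUnit (1 + Red.gaFn x * Red.gaFn y) →
    ∃ (x' y' : X ⟶ Red.Ga S) (z : X ⟶ Red.Gm S), Red.gmFn z = 1 + Red.gaFn x * Red.gaFn y ∧
      Red.gaFn x' * Red.gmFn z = Red.gaFn x ∧ Red.gaFn y' * Red.gmFn z = Red.gaFn y ∧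
      (x ≫ v c) * (y ≫ vd c) = (y' ≫ vd c) * (z ≫ corootHom D c ≫ D.i) * (x' ≫ v c)
  conj : ∀ c b, ∃ ε : ℤ, (ε = 1 ∨ ε = -1) ∧ ∀ (X : Over S) (x : Γ(X.left, ⊤)),
    weylElt (homFn (v c) X) (homFn (vd c) X) * homFn (v b) X x *
        (weylElt (homFn (v c) X) (homFn (vd c) X))⁻¹ =
      homFn (v (D.P.reflectionPerm c b)) X ((ε : Γ(X.left, ⊤)) * x)

namespace ChevData

variable {D : Red.SplitRed G} (C : ChevData D)

/-- The split group with the root homomorphisms of the system. -/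
def splitRed : Red.SplitRed G := { D with u := C.v, rootHom := C.root }

variable (X : Over S)

/-- The root elements. -/
def P (c : D.idx) : Γ(X.left, ⊤) → (X ⟶ G) := homFn (C.v c) X

/-- The dual root elements. -/
def M (c : D.idx) : Γ(X.left, ⊤) → (X ⟶ G) := homFn (C.vd c) X

theorem P_oneParam (c : D.idx) : IsOneParam (C.P X c) := by
  haveI := (C.root c).1; exact homFn_oneParam _ X

theorem M_oneParam (c : D.idx) : IsOneParam (C.M X c) := by
  haveI := C.monHom c; exact homFn_oneParam _ X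

theorem rule (c : D.idx) (x y : Γ(X.left, ⊤)) (z : Γ(X.left, ⊤)ˣ) (hz : (z : Γ(X.left, ⊤)) = 1 + x * y) :
    C.P X c x * C.M X c y = C.M X c (y * ((z⁻¹ : Γ(X.left, ⊤)ˣ) : Γ(X.left, ⊤))) * I D X (av D X c z) *
      C.P X c (x * ((z⁻¹ : Γ(X.left, ⊤)ˣ) : Γ(X.left, ⊤))) := by
  obtain ⟨x', y', z', h1, h2, h3, h4⟩ := C.dual c X (GaPts.ptOfFn x) (GaPts.ptOfFn y)
    (by simp only [GaPts.gaFn_ptOfFn]; exact hz ▸ z.isUnit)
  simp only [GaPts.gaFn_ptOfFn] at h1 h2 h3
  have e : z' = GmPts.ptOfUnit z := GmPts.gmFn_injective (by dsimp only; rw [h1, GmPts.gmFn_ptOfUnit, hz])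
  subst e
  rw [GmPts.gmFn_ptOfUnit] at h2 h3
  have ex : Red.gaFn x' = x * ((z⁻¹ : Γ(X.left, ⊤)ˣ) : Γ(X.left, ⊤)) := by rw [← h2, Units.mul_inv_cancel_right]
  have ey : Red.gaFn y' = y * ((z⁻¹ : Γ(X.left, ⊤)ˣ) : Γ(X.left, ⊤)) := by rw [← h3, Units.mul_inv_cancel_right]
  rw [pt_comp_homFn, pt_comp_homFn, pt_comp_homFn, pt_comp_homFn, GaPts.gaFn_ptOfFn, GaPts.gaFn_ptOfFn, ex, ey] at h4
  exact h4.trans (by rw [← Category.assoc]; rfl)

/-- The dual root homomorphism is that of the opposite root, up to sign. -/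
theorem exists_vd_eq (c : D.idx) :
    ∃ ε : ℤ, (ε = 1 ∨ ε = -1) ∧ C.vd c = scaleHom (ε : Γ(S, ⊤)) ≫ C.v (neg' D c) := by
  haveI := (C.root c).1
  haveI := C.monHom c
  obtain ⟨ε, hε, h⟩ := C.conj c c
  have key : ∀ (X : Over S) (x : Γ(X.left, ⊤)),
      weylElt (C.P X c) (C.M X c) * C.P X c x * (weylElt (C.P X c) (C.M X c))⁻¹ = C.M X c (-x) := by
    refine eq_of_eq_isUnit (φ := fun X x => weylElt (C.P X c) (C.M X c) * C.P X c x * (weylElt (C.P X c) (C.M X c))⁻¹)
      (ψ := fun X x => C.M X c (-x)) ?_ ?_ ?_ ?_ ?_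
    · intro X X' g x
      simp only [weylElt, comp_mul', comp_inv', P, M, comp_homFn, map_one]
    · intro X X' g x
      simp only [M, comp_homFn, map_neg]
    · intro X x y; simp only [C.P_oneParam X c x y]; group
    · intro X x y; simp only [neg_add, C.M_oneParam X c (-x) (-y)]
    · intro X x hx
      refine weyl_conj_unit (C.P_oneParam X c) (C.M_oneParam X c) ((I D X).comp (av D X c)) (fun z x => ?_)
        (C.rule X c) hx
      have h1 := conj_U C.splitRed (X := X) c (av D X c z) x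
      have h2 : rootVal D X c (av D X c z) = z ^ (2 : ℤ) := by rw [rootVal_av, RootPairing.pairing_same]
      refine h1.trans (congrArg (homFn (C.v c) X) ?_)
      show (rootVal D X c (av D X c z) : Γ(X.left, ⊤)) * x = _
      rw [h2, zpow_ofNat, Units.val_pow_eq_pow_val]
  refine ⟨-ε, by omega, ?_⟩
  have h1 := key (Red.Ga S) (-Red.gaFn (𝟙 (Red.Ga S)))
  rw [neg_neg] at h1
  have h2 := h (Red.Ga S) (-Red.gaFn (𝟙 (Red.Ga S)))
  have h3 := h1.symm.trans h2
  rw [M, ← pt_comp_homFn, Category.id_comp] at h3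
  rw [h3, ← Category.id_comp (scaleHom _ ≫ _), ← Category.assoc, pt_comp_homFn, gaFn_scaleHom, map_intCast]
  congr 1
  push_cast
  ring

theorem root_vd (c : D.idx) :
    Red.IsRootHom D.i (D.split.hom.hom.hom ≫ Red.chi S (D.P.root (neg' D c))) (C.vd c) := by
  obtain ⟨ε, hε, e⟩ := C.exists_vd_eq c
  have hsq : (ε : Γ(S, ⊤)) * ε = 1 := by
    rw [← Int.cast_mul, show ε * ε = 1 by rcases hε with rfl | rfl <;> rfl, Int.cast_one]
  haveI : IsIso (scaleHom (S := S) (ε : Γ(S, ⊤))) :=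
    ⟨scaleHom (ε : Γ(S, ⊤)), by rw [scaleHom_comp, hsq, scaleHom_one], by rw [scaleHom_comp, hsq, scaleHom_one]⟩
  haveI : IsIso (scaleHom (S := S) (ε : Γ(S, ⊤))).left :=
    (inferInstance : IsIso ((Over.forget S).map (scaleHom (S := S) (ε : Γ(S, ⊤)))))
  haveI : IsClosedImmersion (C.v (neg' D c)).left := (C.root _).2.1
  refine ⟨C.monHom c, by rw [e, Over.comp_left]; infer_instance, fun X t x => ?_⟩
  obtain ⟨y, h1, h2⟩ := (C.root (neg' D c)).2.2 X t (x ≫ scaleHom (ε : Γ(S, ⊤)))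
  refine ⟨y ≫ scaleHom (ε : Γ(S, ⊤)), ?_, ?_⟩
  · rw [e, Category.assoc, ← Category.assoc (scaleHom (S := S) _) (scaleHom _), scaleHom_comp, hsq, scaleHom_one,
      Category.id_comp, h1, Category.assoc]
  · rw [gaFn_scaleHom, h2, gaFn_scaleHom, mul_left_comm, ← mul_assoc (glob X _), ← map_mul, hsq, map_one, one_mul]

/-- The split group in which the opposite roots of `a`, `b` carry the dual homomorphisms. -/
def pair (a b : D.idx) : Red.SplitRed G :=
  { D with
    u := fun c => if c = neg' D a then C.vd a else if c = neg' D b then C.vd b else C.v c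
    rootHom := fun c => by
      dsimp only
      split_ifs with h h'
      · exact h ▸ C.root_vd a
      · exact h' ▸ C.root_vd b
      · exact C.root c }

variable {a b : D.idx} (hind : ∀ r s : ℤ, r • D.P.root a + s • D.P.root b = 0 → r = 0 ∧ s = 0)
include hind

omit C in
theorem ne_of_indep : a ≠ neg' D a ∧ a ≠ neg' D b ∧ b ≠ neg' D a ∧ b ≠ neg' D b ∧ neg' D b ≠ neg' D a := by
  refine ⟨fun h => ?_, fun h => ?_, fun h => ?_, fun h => ?_, fun h => ?_⟩ <;>
    have h' := congrArg D.P.root h <;> simp only [root_neg'] at h'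
  · have := hind 2 0 (by linear_combination (norm := module) h'); omega
  · have := hind 1 1 (by linear_combination (norm := module) h'); omega
  · have := hind 1 1 (by linear_combination (norm := module) h'); omega
  · have := hind 0 2 (by linear_combination (norm := module) h'); omega
  · have := hind 1 (-1) (by linear_combination (norm := module) h'); omega

theorem pair_u : (C.pair a b).u a = C.v a ∧ (C.pair a b).u b = C.v b ∧
    (C.pair a b).u (neg' D a) = C.vd a ∧ (C.pair a b).u (neg' D b) = C.vd b := by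
  obtain ⟨h1, h2, h3, h4, h5⟩ := ne_of_indep hind
  exact ⟨(if_neg h1).trans (if_neg h2), (if_neg h3).trans (if_neg h4), if_pos rfl, (if_neg h5).trans (if_pos rfl)⟩

theorem isDual_pair : IsDual (C.pair a b) a ∧ IsDual (C.pair a b) b := by
  obtain ⟨h1, h2, h3, h4⟩ := C.pair_u hind
  refine ⟨fun X x y hxy => ?_, fun X x y hxy => ?_⟩
  · obtain ⟨x', y', z, e1, e2, e3, e4⟩ := C.dual a X x y hxy
    refine ⟨x', y', z, e1, e2, e3, ?_⟩
    rw [show neg' (C.pair a b) a = neg' D a from rfl, h1, h3]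
    exact e4
  · obtain ⟨x', y', z, e1, e2, e3, e4⟩ := C.dual b X x y hxy
    refine ⟨x', y', z, e1, e2, e3, ?_⟩
    rw [show neg' (C.pair a b) b = neg' D b from rfl, h2, h4]
    exact e4

theorem pair_U : U (C.pair a b) X a = C.P X a ∧ U (C.pair a b) X b = C.P X b ∧
    W (C.pair a b) X a = weylElt (C.P X a) (C.M X a) ∧ W (C.pair a b) X b = weylElt (C.P X b) (C.M X b) := by
  obtain ⟨h1, h2, h3, h4⟩ := C.pair_u hind
  have e1 : U (C.pair a b) X a = C.P X a := funext fun x => congrArg ((GaPts.ptOfFn x : X ⟶ Red.Ga S) ≫ ·) h1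
  have e2 : U (C.pair a b) X b = C.P X b := funext fun x => congrArg ((GaPts.ptOfFn x : X ⟶ Red.Ga S) ≫ ·) h2
  have e3 : U (C.pair a b) X (neg' D a) = C.M X a := funext fun x => congrArg ((GaPts.ptOfFn x : X ⟶ Red.Ga S) ≫ ·) h3
  have e4 : U (C.pair a b) X (neg' D b) = C.M X b := funext fun x => congrArg ((GaPts.ptOfFn x : X ⟶ Red.Ga S) ≫ ·) h4
  refine ⟨e1, e2, ?_, ?_⟩
  · show weylElt (U (C.pair a b) X a) (U (C.pair a b) X (neg' D a)) = _
    rw [e1, e3]
  · show weylElt (U (C.pair a b) X b) (U (C.pair a b) X (neg' D b)) = _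
    rw [e2, e4]

omit C in
theorem exists_generic_pos {mu : Module.Dual ℤ D.M} (ha : 0 < mu (D.P.root a)) (hb : 0 < mu (D.P.root b)) :
    ∃ lam : Module.Dual ℤ D.M, IsGeneric D lam ∧ 0 < lam (D.P.root a) ∧ 0 < lam (D.P.root b) := by
  obtain ⟨ν, hν⟩ := exists_generic D
  set B : ℤ := ∑ c, |ν (D.P.root c)| + 1
  have hB : ∀ c, |ν (D.P.root c)| < B := fun c => by
    have := Finset.single_le_sum (f := fun c => |ν (D.P.root c)|) (fun i _ => abs_nonneg _) (Finset.mem_univ c)
    simp only [B]; omega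
  have hB0 : 0 ≤ B := by have := hB a; have := abs_nonneg (ν (D.P.root a)); omega
  have key : ∀ c, (0 < mu (D.P.root c) → 0 < (B • mu + ν) (D.P.root c)) ∧
      (mu (D.P.root c) < 0 → (B • mu + ν) (D.P.root c) < 0) := fun c => by
    have h1 := hB c
    have h2 := neg_abs_le (ν (D.P.root c))
    have h3 := le_abs_self (ν (D.P.root c))
    simp only [LinearMap.add_apply, LinearMap.smul_apply, smul_eq_mul]
    refine ⟨fun h => ?_, fun h => ?_⟩ <;> nlinarith
  refine ⟨B • mu + ν, fun c hc => ?_, (key a).1 ha, (key b).1 hb⟩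
  rcases lt_trichotomy (mu (D.P.root c)) 0 with h | h | h
  · have := (key c).2 h; omega
  · simp only [LinearMap.add_apply, LinearMap.smul_apply, h, smul_zero, zero_add] at hc; exact hν c hc
  · have := (key c).1 h; omega

/-- The rank-two system of the modified group, from the complete list of its roots. -/
theorem exists_sys (pos : List (ℤ × ℤ)) {mu : Module.Dual ℤ D.M} (ha : 0 < mu (D.P.root a))
    (hb : 0 < mu (D.P.root b)) (hiff : ∀ i j : ℤ, IsComb D.P a b i j ↔ InSys pos (i, j)) :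
    ∃ s : Sys2 (C.pair a b), s.a = a ∧ s.b = b ∧ s.pos = pos := by
  obtain ⟨lam, hl, h1, h2⟩ := exists_generic_pos hind ha hb
  exact ⟨⟨a, b, pos, lam, hl, h1, h2, hind, hiff⟩, rfl, rfl, rfl⟩

omit hind in
/-- The Weyl element of `c` on the root elements of `b`. -/
theorem weyl_P {c b d : D.idx} (hd : D.P.root d = D.P.root b - D.P.pairing b c • D.P.root c) :
    ∃ ε : ℤ, (ε = 1 ∨ ε = -1) ∧ ∀ (X : Over S) (x : Γ(X.left, ⊤)),
      weylElt (C.P X c) (C.M X c) * C.P X b x * (weylElt (C.P X c) (C.M X c))⁻¹ =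
        C.P X d ((ε : Γ(X.left, ⊤)) * x) := by
  have e : D.P.reflectionPerm c b = d := D.P.root.injective (by
    rw [RootPairing.root_reflectionPerm, RootPairing.reflection_apply_root, hd])
  rw [← e]
  exact C.conj c b

omit hind in
/-- Root elements of two roots whose sum is not a root commute. -/
theorem P_comm {c d : D.idx} (h0 : D.P.root c + D.P.root d ≠ 0) (h : D.P.root c + D.P.root d ∉ Set.range D.P.root)
    (x y : Γ(X.left, ⊤)) : C.P X c x * C.P X d y = C.P X d y * C.P X c x :=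
  U_comm_of_sum_not_root (D := C.splitRed) (a := c) (b := d) h0 h X x y

end ChevData

end Groth.Agent.Rank2Red38
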