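import Groth.Agent.Rank2Red38.Conj
import Groth.Agent.GrpSchLib.RankOneBraid
import Groth.Agent.GrpSchLib.RankOneTransfer

/-! The Weyl element of a dual pair of one-parameter subgroups carries the first to the second. -/

set_option autoImplicit false

universe u

open CategoryTheory CategoryTheory.Limits AlgebraicGeometry MonoidalCategory CartesianMonoidalCategory
open scoped MonObj

noncomputable section

namespace Groth.Agent.Rank2Red38

open GrpSchLib

theorem weyl_conj_unit {R H : Type*} [CommRing R] [Group H] {P M : R → H} (hP : IsOneParam P) (hM : IsOneParam M)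
    (A : Rˣ →* H) (hA : ∀ (z : Rˣ) (x : R), A z * P x * (A z)⁻¹ = P ((z : R) ^ 2 * x))
    (rule : ∀ (x y : R) (z : Rˣ), (z : R) = 1 + x * y →
      P x * M y = M (y * ((z⁻¹ : Rˣ) : R)) * A z * P (x * ((z⁻¹ : Rˣ) : R)))
    {x : R} (hx : IsUnit (1 + x)) :
    weylElt P M * P x * (weylElt P M)⁻¹ = M (-x) := by
  obtain ⟨z, hz⟩ := hx
  set w : R := ((z⁻¹ : Rˣ) : R) with hwdef
  have hzw : (z : R) * w = 1 := Units.mul_inv z
  have e1 := rule x 1 z (by rw [hz, mul_one])
  have e2 := rule 1 (-(x * w)) z⁻¹ (by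
    show w = 1 + 1 * -(x * w)
    linear_combination hzw - w * hz)
  rw [one_mul, ← hwdef] at e1
  simp only [inv_inv, one_mul] at e2
  rw [show -(x * w) * (z : R) = -x by linear_combination (-x) * hzw] at e2
  have e3 : P (z : R) * A z = A z * P w := by
    have h := hA z w
    rw [show (z : R) ^ 2 * w = z by rw [pow_two, mul_assoc, hzw, mul_one]] at h
    rw [← h]; group
  calc weylElt P M * P x * (weylElt P M)⁻¹
      = P 1 * (M 1)⁻¹ * (P x * M 1) * (P 1)⁻¹ := by
        simp only [weylElt]
        rw [show P 1 * (M 1)⁻¹ * P 1 * P x = P 1 * (M 1)⁻¹ * (P x * P 1) by rw [hP.comm x 1]; group]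
        group
    _ = P 1 * M (-(x * w)) * A z * P (x * w + -1) := by
        rw [e1, ← hM.neg, ← mul_assoc, ← mul_assoc, mul_assoc (P 1) (M (-1)) (M w), ← hM, hP (x * w) (-1), hP.neg,
          show -1 + w = -(x * w) by linear_combination hzw - w * hz]
        group
    _ = M (-x) * (A z⁻¹ * (P (z : R) * A z)) * P (x * w + -1) := by rw [e2]; group
    _ = M (-x) * (P w * P (x * w + -1)) := by rw [e3, map_inv]; group
    _ = M (-x) := by
        rw [← hP, show w + (x * w + -1) = 0 by linear_combination hzw - w * hz, hP.zero, mul_one]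

variable {S : Scheme.{u}} {G : Over S}

theorem isUnit_basicOpen {X : Scheme.{u}} (r : Γ(X, ⊤)) : IsUnit ((X.basicOpen r).ι.appTop r) := by
  have h := (X.toRingedSpace.isUnit_res_basicOpen r).map (X.basicOpen r).topIso.inv.hom
  rw [Scheme.Opens.ι_appTop]
  convert h using 1
  simp [Scheme.Opens.topIso]
  erw [← ConcreteCategory.comp_apply, ← Functor.map_comp]
  rfl

/-- Natural families of a parameter which are one-parameter subgroups and agree where `1 + x` is invertible
agree. -/
theorem eq_of_eq_isUnit [GrpObj G] {φ ψ : ∀ X : Over S, Γ(X.left, ⊤) → (X ⟶ G)}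
    (hφ : ∀ (X X' : Over S) (g : X' ⟶ X) x, g ≫ φ X x = φ X' (g.left.appTop x))
    (hψ : ∀ (X X' : Over S) (g : X' ⟶ X) x, g ≫ ψ X x = ψ X' (g.left.appTop x))
    (h1 : ∀ X, IsOneParam (φ X)) (h2 : ∀ X, IsOneParam (ψ X))
    (h : ∀ X x, IsUnit (1 + x) → φ X x = ψ X x) (X : Over S) (x : Γ(X.left, ⊤)) : φ X x = ψ X x := by
  obtain ⟨X', f, s, r, hf, hr⟩ := RankOne.exists_cover X
  rw [← cancel_epi f, hφ, hψ]
  set t := f.left.appTop x
  let g : Bool → Γ(X'.left, ⊤) := fun i => if i then 1 + (t + s) else 1 + t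
  let U : Bool → X'.left.Opens := fun i => X'.left.basicOpen (g i)
  have hU : TopologicalSpace.IsOpenCover U := by
    refine top_le_iff.mp fun p _ => ?_
    by_contra hp
    simp only [TopologicalSpace.Opens.mem_iSup, not_exists] at hp
    have hs : p ∈ X'.left.basicOpen (g true + -g false) := by
      rw [show g true + -g false = (s : Γ(X'.left, ⊤)) by simp [g]; ring, X'.left.basicOpen_of_isUnit s.isUnit]
      trivial
    have h0 := hp false
    have h1 := hp true
    simp only [U, Scheme.mem_basicOpen_top] at h0 h1 hs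
    rw [map_add, map_neg] at hs
    exact (IsLocalRing.isUnit_or_isUnit_of_isUnit_add hs).elim h1 fun h => h0 ((IsUnit.neg_iff _).mp h)
  refine Over.OverMorphism.ext ((X'.left.openCoverOfIsOpenCover U hU).hom_ext _ _ fun i => ?_)
  let W : Over S := Over.mk ((U i).ι ≫ X'.hom)
  let j : W ⟶ X' := Over.homMk (U i).ι rfl
  have hg : IsUnit (j.left.appTop (g i)) := isUnit_basicOpen (g i)
  have e : φ W (j.left.appTop t) = ψ W (j.left.appTop t) := by
    cases i
    · exact h W _ (by simpa [g] using hg)
    · have e1 := h W _ (by simpa [g] using hg : IsUnit (1 + (j.left.appTop t + j.left.appTop (s : Γ(X'.left, ⊤)))))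
      have e2 := h W (-j.left.appTop (s : Γ(X'.left, ⊤))) (by
        have hu := (r.isUnit.map j.left.appTop.hom)
        rw [hr, map_sub, map_one] at hu
        simpa [sub_eq_add_neg] using hu)
      have e3 : j.left.appTop t = j.left.appTop t + j.left.appTop (s : Γ(X'.left, ⊤)) + -j.left.appTop (s : Γ(X'.left, ⊤)) := by ring
      rw [e3, h1 W, h2 W, e1, e2]
  exact congrArg CommaMorphism.left ((hφ _ _ j t).trans (e.trans (hψ _ _ j t).symm))

end Groth.Agent.Rank2Red38
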