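import Groth.Agent.Rank2Red38.DSVal
import Groth.Agent.Rank2Red38.AlgCoxeter
import Groth.Agent.GrpSchLib.RankOneBraid
import Groth.Agent.GrpSchLib.RankOneTransfer
import Groth.Agent.S5427

/-! Root groups, torus and Weyl elements of a split group, pointwise. -/

set_option autoImplicit false
set_option linter.style.haveILetI false

universe u

open CategoryTheory CategoryTheory.Limits AlgebraicGeometry MonoidalCategory CartesianMonoidalCategory
open scoped MonObj

noncomputable section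

namespace Groth.Agent.Rank2Red38

open GrpSchLib

variable {S : Scheme.{u}} {G : Over S} [GrpObj G] (D : Red.SplitRed G)

/-- The character of a root. -/
def rootChar (a : D.idx) : D.T ⟶ Red.Gm S := D.split.hom.hom.hom ≫ Red.chi S (D.P.root a)

/-- The coroot of a root. -/
def corootHom (a : D.idx) : Red.Gm S ⟶ D.T :=
  Red.DSmap S (D.P.coroot a).toAddMonoidHom ≫ D.split.inv.hom.hom

instance isMonHom_rootChar (a : D.idx) : IsMonHom (rootChar D a) := by
  haveI : IsMonHom (Red.chi S (D.P.root a)) := S5427.isMonHom_DSmap S _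
  haveI : IsMonHom D.split.hom.hom.hom := D.split.hom.hom.isMonHom_hom
  unfold rootChar; infer_instance

instance isMonHom_corootHom (a : D.idx) : IsMonHom (corootHom D a) := by
  haveI : IsMonHom (Red.DSmap S (D.P.coroot a).toAddMonoidHom) := S5427.isMonHom_DSmap S _
  haveI : IsMonHom D.split.inv.hom.hom := D.split.inv.hom.isMonHom_hom
  unfold corootHom; infer_instance

instance isMonHom_u (a : D.idx) : IsMonHom (D.u a) := (D.rootHom a).1

instance isMonHom_i : IsMonHom D.i := D.maximalTorus.1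

variable (X : Over S)

/-- The root group of `a` at `X`. -/
def U (a : D.idx) (x : Γ(X.left, ⊤)) : X ⟶ G := (GaPts.ptOfFn x : X ⟶ Red.Ga S) ≫ D.u a

/-- The torus at `X`. -/
def I : (X ⟶ D.T) →* (X ⟶ G) := RankOne.postHom D.i X

/-- The value of a root at a torus point. -/
def rootVal (a : D.idx) : (X ⟶ D.T) →* Γ(X.left, ⊤)ˣ :=
  MonoidHom.mk' (fun t => GmPts.unitOfPt (t ≫ rootChar D a)) fun t t' => by
    have h : (t * t') ≫ rootChar D a = (t ≫ rootChar D a) * (t' ≫ rootChar D a) := MonObj.mul_comp _ _ _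
    rw [h, GmPts.unitOfPt_mul]

/-- The coroot at `X`. -/
def av (a : D.idx) : Γ(X.left, ⊤)ˣ →* (X ⟶ D.T) :=
  MonoidHom.mk' (fun v => GmPts.ptOfUnit v ≫ corootHom D a) fun v w => by rw [GmPts.ptOfUnit_mul, MonObj.mul_comp]

/-- The opposite root. -/
abbrev neg' (a : D.idx) : D.idx := D.P.reflectionPerm a a

variable {X}

theorem U_oneParam (a : D.idx) : IsOneParam (U D X a) := fun x y => by
  rw [U, U, U, ← MonObj.mul_comp _ _ (D.u a)]
  exact congrArg (· ≫ D.u a) (GaPts.gaFn_injective (by simp [GaPts.gaFn_mul, GaPts.gaFn_ptOfFn]))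

theorem pt_comp_eq (a : D.idx) (x : X ⟶ Red.Ga S) : x ≫ D.u a = U D X a (Red.gaFn x) :=
  congrArg (· ≫ D.u a) (RankOne.ga_eq_ptOfFn x)

theorem comp_U {X' : Over S} (g : X' ⟶ X) (a : D.idx) (x : Γ(X.left, ⊤)) :
    g ≫ U D X a x = U D X' a (g.left.appTop x) := by
  rw [U, U, ← Category.assoc, RankOne.map_gaFn_ptOfFn]

theorem conj_U (c : D.idx) (t : X ⟶ D.T) (x : Γ(X.left, ⊤)) :
    I D X t * U D X c x * (I D X t)⁻¹ = U D X c (rootVal D X c t * x) := by
  obtain ⟨y, h1, h2⟩ := (D.rootHom c).2.2 X t (GaPts.ptOfFn x)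
  rw [GaPts.gaFn_ptOfFn] at h2
  refine h1.symm.trans (congrArg (· ≫ D.u c) (GaPts.gaFn_injective ?_))
  simp only [GaPts.gaFn_ptOfFn, h2]
  rfl

theorem rootVal_apply (c : D.idx) (t : X ⟶ D.T) :
    (rootVal D X c t : Γ(X.left, ⊤)) = dsVal (t ≫ D.split.hom.hom.hom) (D.P.root c) := by
  rw [← gmFn_chi, Category.assoc]; rfl

theorem rootVal_av (a c : D.idx) (z : Γ(X.left, ⊤)ˣ) : rootVal D X c (av D X a z) = z ^ D.P.pairing c a := by
  refine Units.ext ?_
  rw [rootVal_apply]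
  have e : av D X a z ≫ D.split.hom.hom.hom =
      (GmPts.ptOfUnit z : X ⟶ Red.Gm S) ≫ Red.DSmap S (D.P.coroot a).toAddMonoidHom := by
    show (GmPts.ptOfUnit z ≫ corootHom D a) ≫ D.split.hom.hom.hom = _
    simp only [corootHom, Category.assoc]
    rw [show D.split.inv.hom.hom ≫ D.split.hom.hom.hom = 𝟙 _ from congrArg (fun k => k.hom.hom) D.split.inv_hom_id,
      Category.comp_id]
  rw [e, dsVal_map, dsVal_gm, GmPts.unitOfPt_ptOfUnit]
  have h : (D.P.coroot a).toAddMonoidHom (D.P.root c) = D.P.pairing c a := by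
    rw [← D.P.root_coroot_eq_pairing, D.pairing_eq]; rfl
  rw [h]

theorem root_neg' (a : D.idx) : D.P.root (neg' D a) = -D.P.root a := by
  rw [RootPairing.root_reflectionPerm, RootPairing.reflection_apply_self]

theorem rootVal_neg' (a : D.idx) (t : X ⟶ D.T) : rootVal D X (neg' D a) t = (rootVal D X a t)⁻¹ := by
  refine (eq_inv_iff_mul_eq_one.mpr (Units.ext ?_))
  rw [Units.val_mul, rootVal_apply, rootVal_apply, ← dsVal_add, root_neg', neg_add_cancel, dsVal_zero, Units.val_one]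

theorem torus_comm (t t' : X ⟶ D.T) : t * t' = t' * t := RankOne.torus_mul_comm D.maximalTorus.2.2.1 X t t'

variable (X) in
/-- The Weyl element of a root at `X`. -/
def W (a : D.idx) : X ⟶ G := weylElt (U D X a) (U D X (neg' D a))

/-- The root homomorphisms of `a` and `-a` are dual to each other. -/
def IsDual (a : D.idx) : Prop :=
  ∀ (X : Over S) (x y : X ⟶ Red.Ga S), IsUnit (1 + Red.gaFn x * Red.gaFn y) →
    ∃ (x' y' : X ⟶ Red.Ga S) (z : X ⟶ Red.Gm S), Red.gmFn z = 1 + Red.gaFn x * Red.gaFn y ∧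
      Red.gaFn x' * Red.gmFn z = Red.gaFn x ∧ Red.gaFn y' * Red.gmFn z = Red.gaFn y ∧
      (x ≫ D.u a) * (y ≫ D.u (neg' D a)) = (y' ≫ D.u (neg' D a)) * (z ≫ corootHom D a ≫ D.i) * (x' ≫ D.u a)

section Dual

variable {a : D.idx} (ha : IsDual D a)

theorem hpm (X : Over S) (t : X ⟶ D.T) (y : X ⟶ Red.Ga S) : ∃ y' : X ⟶ Red.Ga S,
    y' ≫ D.u (neg' D a) = (t ≫ D.i) * (y ≫ D.u (neg' D a)) * (t ≫ D.i)⁻¹ ∧
      Red.gaFn y' * Red.gmFn (t ≫ rootChar D a) = Red.gaFn y := by
  obtain ⟨y', h1, h2⟩ := (D.rootHom (neg' D a)).2.2 X t y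
  refine ⟨y', h1, ?_⟩
  have h : (rootVal D X (neg' D a) t : Γ(X.left, ⊤)) * (rootVal D X a t : Γ(X.left, ⊤)) = 1 := by
    rw [rootVal_neg', Units.inv_mul]
  rw [h2]
  show Red.gmFn _ * _ * Red.gmFn _ = _
  rw [mul_right_comm]
  exact (congrArg (· * Red.gaFn y) h).trans (one_mul _)

theorem av_comp_root : corootHom D a ≫ rootChar D a = (𝟙 (Red.Gm S)) ^ 2 := by
  refine GmPts.gmFn_injective ?_
  have h := congrArg Units.val (rootVal_av D (X := Red.Gm S) a a (GmPts.unitOfPt (𝟙 (Red.Gm S))))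
  rw [RootPairing.pairing_same] at h
  simp only [rootVal, av, MonoidHom.mk'_apply, GmPts.ptOfUnit_unitOfPt, Category.id_comp] at h
  dsimp only
  rw [pow_two, GmPts.gmFn_mul, ← GmPts.val_unitOfPt, h, zpow_ofNat, pow_two, Units.val_mul, GmPts.val_unitOfPt]

variable (X) in
/-- The rank-one system of `a` at `X`. -/
def sys : RankOne.Sys Γ(X.left, ⊤) (X ⟶ G) (X ⟶ D.T) :=
  RankOne.sys D.i (rootChar D a) (D.u a) (D.u (neg' D a)) (D.rootHom a).2.2 (hpm D) (corootHom D a)
    (av_comp_root D) ha X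

variable (X) in
theorem W_eq_w : W D X a = (sys D X ha).w 1 := by
  simp only [RankOne.Sys.w, inv_one, Units.val_one, (sys D X ha).m_neg]
  rfl

include ha in
theorem W_sq : W D X a ^ 2 = I D X (av D X a (-1)) := by
  rw [W_eq_w D X ha, (sys D X ha).w_sq]; rfl

include ha in
theorem W_conj_torus (t : X ⟶ D.T) :
    W D X a * I D X t * (W D X a)⁻¹ = I D X (t * (av D X a (rootVal D X a t))⁻¹) := by
  rw [W_eq_w D X ha]
  refine ((sys D X ha).w_conj 1 t).trans ?_
  rw [torus_comm, map_mul, map_inv]; rfl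

include ha in
/-- The Weyl element of `a` is also the one of the opposite pair. -/
theorem W_eq_neg :
    W D X a = weylElt (fun x => U D X (neg' D a) (-x)) (fun x => U D X a (-x)) := by
  have h := RankOne.braid D.i (rootChar D a) (D.u a) (D.u (neg' D a)) (D.rootHom a).2.2 (hpm D) (corootHom D a)
    (av_comp_root D) ha X (-1)
  change (sys D X ha).m _ * (sys D X ha).p _ * (sys D X ha).m _ = (sys D X ha).w _ at h
  simp only [inv_neg, inv_one, neg_neg, Units.val_neg, Units.val_one] at h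
  rw [W_eq_w D X ha, ← h, weylElt, (U_oneParam D a).neg, inv_inv]
  rfl

include ha in
theorem W_sq_conj (c : D.idx) (x : Γ(X.left, ⊤)) :
    W D X a ^ 2 * U D X c x * (W D X a ^ 2)⁻¹ = U D X c ((((-1 : Γ(X.left, ⊤)ˣ) ^ D.P.pairing c a : Γ(X.left, ⊤)ˣ) : Γ(X.left, ⊤)) * x) := by
  rw [W_sq D ha, conj_U, rootVal_av]

end Dual

theorem av_neg_one_mul_self (a : D.idx) : I D X (av D X a (-1)) * I D X (av D X a (-1)) = 1 := by
  rw [← map_mul, ← map_mul, neg_one_mul, neg_neg, map_one, map_one]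

theorem I_comm (t t' : X ⟶ D.T) : I D X t * I D X t' = I D X t' * I D X t := by
  rw [← map_mul, ← map_mul, torus_comm]

/-- The Weyl element of the statements. -/
theorem weyl_of_statement (e₁ : 𝟙_ (Over S) ⟶ Red.Ga S) (he₁ : Red.gaFn e₁ = 1) (a : D.idx) (X : Over S) :
    toUnit X ≫ ((e₁ ≫ D.u a) * (e₁ ≫ D.u (neg' D a))⁻¹ * (e₁ ≫ D.u a)) = W D X a := by
  rw [MonObj.comp_mul, MonObj.comp_mul, GrpObj.comp_inv, pt_comp_eq, pt_comp_eq, comp_U, comp_U, he₁, map_one]
  rfl

end Groth.Agent.Rank2Red38
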