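import Groth.Agent.Rank2Red38.NormalForm
import Groth.Agent.Rank2Red38.Pts

/-! Translation of the hypotheses of the statements on pinned groups. -/

set_option autoImplicit false

universe u

open CategoryTheory CategoryTheory.Limits AlgebraicGeometry MonoidalCategory CartesianMonoidalCategory
open scoped MonObj

noncomputable section

namespace Groth.Agent.Rank2Red38

open GrpSchLib

variable {S : Scheme.{u}} {G : Over S} [GrpObj G] {D : Red.Pinning G}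

theorem isDual_of_hpair {avc : D.idx → (Red.Gm S ⟶ D.T)}
    (havc : ∀ a, avc a = Red.DSmap S (D.P.coroot a).toAddMonoidHom ≫ D.split.inv.hom.hom) {a : D.idx}
    (h : ∀ (X : Over S) (x y : X ⟶ Red.Ga S), IsUnit (1 + Red.gaFn x * Red.gaFn y) →
      ∃ (x' y' : X ⟶ Red.Ga S) (z : X ⟶ Red.Gm S), Red.gmFn z = 1 + Red.gaFn x * Red.gaFn y ∧
        Red.gaFn x' * Red.gmFn z = Red.gaFn x ∧ Red.gaFn y' * Red.gmFn z = Red.gaFn y ∧
        (x ≫ D.u a) * (y ≫ D.u (D.P.reflectionPerm a a)) =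
          (y' ≫ D.u (D.P.reflectionPerm a a)) * (z ≫ avc a ≫ D.i) * (x' ≫ D.u a)) :
    IsDual D.toSplitRed a := fun X x y hxy => by
  obtain ⟨x', y', z, h1, h2, h3, h4⟩ := h X x y hxy
  refine ⟨x', y', z, h1, h2, h3, ?_⟩
  rw [havc] at h4
  exact h4

theorem w_eq_W {e₁ : 𝟙_ (Over S) ⟶ Red.Ga S} (he₁ : Red.gaFn e₁ = 1) {w : D.idx → (𝟙_ (Over S) ⟶ G)}
    (hw : ∀ a, w a = (e₁ ≫ D.u a) * (e₁ ≫ D.u (D.P.reflectionPerm a a))⁻¹ * (e₁ ≫ D.u a)) (X : Over S) (a : D.idx) :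
    toUnit X ≫ w a = W D.toSplitRed X a := by
  rw [hw]; exact weyl_of_statement D.toSplitRed e₁ he₁ a X

theorem w_self {e₁ : 𝟙_ (Over S) ⟶ Red.Ga S} (he₁ : Red.gaFn e₁ = 1) {w : D.idx → (𝟙_ (Over S) ⟶ G)}
    (hw : ∀ a, w a = (e₁ ≫ D.u a) * (e₁ ≫ D.u (D.P.reflectionPerm a a))⁻¹ * (e₁ ≫ D.u a)) (a : D.idx) :
    w a = W D.toSplitRed (𝟙_ (Over S)) a := by
  rw [← w_eq_W he₁ hw]
  simp [toUnit_unit]

theorem inv_comp_u (X : Over S) (x : X ⟶ Red.Ga S) (a : D.idx) :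
    (x ≫ D.u a)⁻¹ = U D.toSplitRed X a (-Red.gaFn x) := by
  rw [(U_oneParam D.toSplitRed a).neg, ← pt_comp_eq]

theorem av_neg_one {avc : D.idx → (Red.Gm S ⟶ D.T)}
    (havc : ∀ a, avc a = Red.DSmap S (D.P.coroot a).toAddMonoidHom ≫ D.split.inv.hom.hom)
    {m₁ : 𝟙_ (Over S) ⟶ Red.Gm S} (hm₁ : Red.gmFn m₁ = -1) (a : D.idx) :
    m₁ ≫ avc a ≫ D.i = I D.toSplitRed (𝟙_ (Over S)) (av D.toSplitRed (𝟙_ (Over S)) a (-1)) := by
  have h : m₁ = GmPts.ptOfUnit (-1) := GmPts.gmFn_injective (hm₁.trans (by simp [GmPts.gmFn_ptOfUnit]))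
  rw [havc, h]
  exact (Category.assoc _ _ _).symm

end Groth.Agent.Rank2Red38
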