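import Groth.Agent.Rank2Red38.ChevComm
import Groth.Agent.Rank2Red38.Stmt

/-! The four commutator tables of a Chevalley system, as stated for arbitrary pairs of roots. -/

set_option autoImplicit false

universe u

open CategoryTheory CategoryTheory.Limits AlgebraicGeometry MonoidalCategory CartesianMonoidalCategory
open scoped MonObj Classical

noncomputable section

namespace Groth.Agent.Rank2Red38

open GrpSchLib

variable {S : Scheme.{u}} {G : Over S} [GrpObj G] {D : Red.SplitRed G}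

/-- The data of the statements give a Chevalley system. -/
theorem exists_chevData (e₁ : 𝟙_ (Over S) ⟶ Red.Ga S) (he₁ : Red.gaFn e₁ = 1)
    (avc : D.idx → (Red.Gm S ⟶ D.T))
    (havc : ∀ a, avc a = Red.DSmap S (D.P.coroot a).toAddMonoidHom ≫ D.split.inv.hom.hom)
    (v vd : D.idx → (Red.Ga S ⟶ G)) (hv : ∀ c, Red.IsRootHom D.i (D.split.hom.hom.hom ≫ Red.chi S (D.P.root c)) (v c))
    (hvd : ∀ c, IsMonHom (vd c) ∧ ∀ (X : Over S) (x y : X ⟶ Red.Ga S), IsUnit (1 + Red.gaFn x * Red.gaFn y) →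
        ∃ (x' y' : X ⟶ Red.Ga S) (z : X ⟶ Red.Gm S), Red.gmFn z = 1 + Red.gaFn x * Red.gaFn y ∧
          Red.gaFn x' * Red.gmFn z = Red.gaFn x ∧ Red.gaFn y' * Red.gmFn z = Red.gaFn y ∧
          (x ≫ v c) * (y ≫ vd c) = (y' ≫ vd c) * (z ≫ avc c ≫ D.i) * (x' ≫ v c))
    (n : D.idx → (𝟙_ (Over S) ⟶ G)) (hn : ∀ c, n c = (e₁ ≫ v c) * (e₁ ≫ vd c)⁻¹ * (e₁ ≫ v c))
    (hSC : ∀ c b, ∃ ε : ℤ, (ε = 1 ∨ ε = -1) ∧ ∀ (X : Over S) (x y : X ⟶ Red.Ga S),
      Red.gaFn y = (ε : Γ(X.left, ⊤)) * Red.gaFn x →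
        (toUnit X ≫ n c) * (x ≫ v b) * (toUnit X ≫ n c)⁻¹ = y ≫ v (D.P.reflectionPerm c b)) :
    ∃ C : ChevData D, C.v = v := by
  refine ⟨⟨v, vd, hv, fun c => (hvd c).1, fun c X x y h => ?_, fun c b => ?_⟩, rfl⟩
  · obtain ⟨x', y', z, h1, h2, h3, h4⟩ := (hvd c).2 X x y h
    refine ⟨x', y', z, h1, h2, h3, ?_⟩
    rw [havc] at h4
    exact h4
  · obtain ⟨ε, hε, h⟩ := hSC c b
    refine ⟨ε, hε, fun X x => ?_⟩
    have h' := h X (GaPts.ptOfFn x) (GaPts.ptOfFn ((ε : Γ(X.left, ⊤)) * x)) (by rw [GaPts.gaFn_ptOfFn, GaPts.gaFn_ptOfFn])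
    have e : toUnit X ≫ n c = weylElt (homFn (v c) X) (homFn (vd c) X) := by
      rw [hn, MonObj.comp_mul, MonObj.comp_mul, GrpObj.comp_inv, pt_comp_homFn, pt_comp_homFn, comp_homFn, comp_homFn,
        he₁, map_one]
      rfl
    rw [e] at h'
    exact h'

theorem eq_of_isEmpty [IsEmpty S] {X Y : Over S} (f g : X ⟶ Y) : f = g := by
  haveI : IsEmpty X.left := Function.isEmpty X.hom.base
  exact Over.OverMorphism.ext (isInitialOfIsEmpty.hom_ext _ _)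

namespace ChevData

variable (C : ChevData D) [D.P.IsReduced] {a b : D.idx}
  (hind : ∀ r s : ℤ, r • D.P.root a + s • D.P.root b = 0 → r = 0 ∧ s = 0)
  (hlen : |D.P.pairing a b| ≤ |D.P.pairing b a|)
include hind hlen

omit C in
theorem pairing_cases (k : ℤ) (hk : D.P.pairing b a = k) (h1 : -3 ≤ k) (h2 : k ≤ 1) :
    D.P.pairing a b = if k = 0 then 0 else if k = 1 then 1 else -1 := by
  have hp := cartanPair (D := D) a b
  obtain ⟨n1, n2⟩ := cartan_ne_two hind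
  rw [hk] at hp hlen n1 n2
  rcases hp with h | h | h | h | h | h | h | h | h | h | h | h | h <;> obtain ⟨e1, e2⟩ := h <;>
    rw [e1] at hlen n1 n2 <;> subst e2 <;> rw [e1] <;>
    first
      | omega
      | rfl
      | exact absurd hlen (by norm_num)
      | exact absurd h1 (by norm_num)
      | exact absurd h2 (by norm_num)
      | exact absurd ⟨rfl, rfl⟩ n1
      | exact absurd ⟨rfl, rfl⟩ n2

/-- The cases `q = 1`. -/
theorem case_q1 {c : D.idx} (hc : D.P.root c = D.P.root a + D.P.root b)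
    (hq : D.P.root b + (2 : ℤ) • D.P.root a ∉ Set.range D.P.root)
    {p : ℕ} (hp1 : 1 ≤ p) (hpk : ∀ k : ℕ, k < p → D.P.root b - (k : ℤ) • D.P.root a ∈ Set.range D.P.root)
    (hp : D.P.root b - (p : ℤ) • D.P.root a ∉ Set.range D.P.root) :
    ∃ ε : ℤ, (ε = 1 ∨ ε = -1) ∧ ∀ (X : Over S) (x y z : X ⟶ Red.Ga S),
      Red.gaFn z = (ε : Γ(X.left, ⊤)) * (p : Γ(X.left, ⊤)) * Red.gaFn x * Red.gaFn y →
        (y ≫ C.v b) * (x ≫ C.v a) * (y ≫ C.v b)⁻¹ * (x ≫ C.v a)⁻¹ = z ≫ C.v c := by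
  obtain ⟨P, t, hPt, hdiff, hbot, htop⟩ := chain_coeffs hind
  have ht : t = 1 := by
    have h1 : 1 ≤ t := (htop 1).mp ⟨c, by rw [hc]; simp [add_comm]⟩
    have h2 : ¬ 2 ≤ t := fun h => hq (by simpa using (htop 2).mpr h)
    omega
  have hP : P + 1 = p := by
    have h1 : ¬ p ≤ P := fun h => hp ((hbot p).mpr h)
    have h2 : p - 1 ≤ P := (hbot (p - 1)).mp (hpk (p - 1) (by omega))
    omega
  have hab := pairing_cases hind hlen _ hdiff.symm (by omega) (by omega)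
  obtain hp3 | hp3 | hp3 : p = 1 ∨ p = 2 ∨ p = 3 := by omega
  · have hba : D.P.pairing b a = -1 := by omega
    rw [show ((P : ℤ) - t) = -1 by omega] at hab
    norm_num at hab
    obtain ⟨ε, hε, h⟩ := C.comm_A2 hind hba hab (fun ⟨d, hd⟩ => hq ⟨d, by rw [hd]; module⟩) hc
    refine ⟨ε, hε, fun X x y z hz => ?_⟩
    rw [pt_comp_homFn, pt_comp_homFn, pt_comp_homFn, hz, hp3]
    refine (h X _ _).trans (congrArg _ ?_)
    push_cast; ring
  · have hba : D.P.pairing b a = 0 := by omega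
    rw [show ((P : ℤ) - t) = 0 by omega] at hab
    norm_num at hab
    obtain ⟨β, hβ⟩ : D.P.root b - (1 : ℤ) • D.P.root a ∈ Set.range D.P.root := by
      simpa using (hbot 1).mpr (by omega)
    have hind' : ∀ r s : ℤ, r • D.P.root a + s • D.P.root β = 0 → r = 0 ∧ s = 0 := fun r s h => by
      obtain ⟨e1, e2⟩ := hind (r - s) s (by rw [← h, hβ]; module)
      omega
    have pβa : D.P.pairing β a = -2 := by
      rw [pairing_eq_apply, hβ, map_sub, map_zsmul, ← pairing_eq_apply, ← pairing_eq_apply, hba, RootPairing.pairing_same]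
      rfl
    have paβ : D.P.pairing a β = -1 := by
      have h := cartanPair (D := D) a β
      obtain ⟨n1, n2⟩ := cartan_ne_two hind'
      rw [pβa] at h n1 n2
      rcases h with h | h | h | h | h | h | h | h | h | h | h | h | h <;> omega
    obtain ⟨e, f, g, -, -, hg, h⟩ := C.comm_B2 hind' pβa paβ (c₁ := b) (c₂ := c) (by rw [hβ]; module)
      (by rw [hc, hβ]; module)
    refine ⟨g, hg, fun X x y z hz => ?_⟩
    rw [pt_comp_homFn, pt_comp_homFn, pt_comp_homFn, hz, hp3]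
    refine (h X _ _).2.trans (congrArg _ ?_)
    push_cast; ring
  · have hba : D.P.pairing b a = 1 := by omega
    rw [show ((P : ℤ) - t) = 1 by omega] at hab
    norm_num at hab
    obtain ⟨c₁, hc₁⟩ : D.P.root b - (1 : ℤ) • D.P.root a ∈ Set.range D.P.root := by
      simpa using (hbot 1).mpr (by omega)
    obtain ⟨β, hβ⟩ : D.P.root b - (2 : ℤ) • D.P.root a ∈ Set.range D.P.root := by
      simpa using (hbot 2).mpr (by omega)
    have hind' : ∀ r s : ℤ, r • D.P.root a + s • D.P.root β = 0 → r = 0 ∧ s = 0 := fun r s h => by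
      obtain ⟨e1, e2⟩ := hind (r - 2 * s) s (by rw [← h, hβ]; module)
      omega
    have pβa : D.P.pairing β a = -3 := by
      rw [pairing_eq_apply, hβ, map_sub, map_zsmul, ← pairing_eq_apply, ← pairing_eq_apply, hba, RootPairing.pairing_same]
      rfl
    have paβ : D.P.pairing a β = -1 := by
      have h := cartanPair (D := D) a β
      obtain ⟨n1, n2⟩ := cartan_ne_two hind'
      rw [pβa] at h n1 n2
      rcases h with h | h | h | h | h | h | h | h | h | h | h | h | h <;> omega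
    have hdroot : D.P.root (D.P.reflectionPerm β c) = (3 : ℤ) • D.P.root a + (2 : ℤ) • D.P.root β := by
      have e : D.P.pairing c β = -1 := by
        rw [pairing_eq_apply, show D.P.root c = (3 : ℤ) • D.P.root a + D.P.root β by rw [hc, hβ]; module, map_add,
          map_zsmul, ← pairing_eq_apply, ← pairing_eq_apply, paβ, RootPairing.pairing_same]
        rfl
      rw [RootPairing.root_reflectionPerm, RootPairing.reflection_apply_root, e, hc, hβ]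
      module
    obtain ⟨ε, ε', -, hε', h⟩ := C.comm_G2 hind' pβa paβ (c₁ := c₁) (c₂ := b) (c₃ := c) (by rw [hc₁, hβ]; module)
      (by rw [hβ]; module) (by rw [hc, hβ]; module) hdroot
    refine ⟨ε' 3, hε' 3, fun X x y z hz => ?_⟩
    rw [pt_comp_homFn, pt_comp_homFn, pt_comp_homFn, hz, hp3]
    refine (h X _ _).2.2.trans (congrArg _ ?_)
    push_cast; ring

/-- The case `(p, q) = (1, 2)`. -/
theorem case_12 (hm : D.P.root b - D.P.root a ∉ Set.range D.P.root) {c₁ c₂ : D.idx}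
    (hc₁ : D.P.root c₁ = D.P.root a + D.P.root b) (hc₂ : D.P.root c₂ = (2 : ℤ) • D.P.root a + D.P.root b)
    (hq : D.P.root b + (3 : ℤ) • D.P.root a ∉ Set.range D.P.root) :
    ∃ ε₁ ε₂ : ℤ, (ε₁ = 1 ∨ ε₁ = -1) ∧ (ε₂ = 1 ∨ ε₂ = -1) ∧ ∀ (X : Over S) (x y z₁ z₂ : X ⟶ Red.Ga S),
      Red.gaFn z₁ = (ε₁ : Γ(X.left, ⊤)) * Red.gaFn x * Red.gaFn y →
      Red.gaFn z₂ = (ε₂ : Γ(X.left, ⊤)) * Red.gaFn x ^ 2 * Red.gaFn y →
        (y ≫ C.v b) * (x ≫ C.v a) * (y ≫ C.v b)⁻¹ * (x ≫ C.v a)⁻¹ = (z₁ ≫ C.v c₁) * (z₂ ≫ C.v c₂) := by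
  obtain ⟨P, t, hPt, hdiff, hbot, htop⟩ := chain_coeffs hind
  have hP : P = 0 := by
    by_contra h
    exact hm (by simpa using (hbot 1).mpr (by omega))
  have ht : t = 2 := by
    have h1 : 2 ≤ t := (htop 2).mp ⟨c₂, by rw [hc₂]; simp [add_comm]⟩
    have h2 : ¬ 3 ≤ t := fun h => hq (by simpa using (htop 3).mpr h)
    omega
  have hab := pairing_cases hind hlen _ hdiff.symm (by omega) (by omega)
  rw [show ((P : ℤ) - t) = -2 by omega] at hab
  norm_num at hab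
  obtain ⟨e, f, g, he, hf, -, h⟩ := C.comm_B2 hind (by omega) hab hc₁ hc₂
  refine ⟨e, f, he, hf, fun X x y z₁ z₂ h1 h2 => ?_⟩
  rw [pt_comp_homFn, pt_comp_homFn, pt_comp_homFn, pt_comp_homFn, h1, h2, mul_assoc (e : Γ(X.left, ⊤)),
    mul_assoc (f : Γ(X.left, ⊤))]
  exact (h X _ _).1

/-- The case `(p, q) = (1, 3)`. -/
theorem case_13 (hm : D.P.root b - D.P.root a ∉ Set.range D.P.root) {c₁ c₂ c₃ c₄ : D.idx}
    (hc₁ : D.P.root c₁ = D.P.root a + D.P.root b) (hc₂ : D.P.root c₂ = (2 : ℤ) • D.P.root a + D.P.root b)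
    (hc₃ : D.P.root c₃ = (3 : ℤ) • D.P.root a + D.P.root b)
    (hc₄ : D.P.root c₄ = (3 : ℤ) • D.P.root a + (2 : ℤ) • D.P.root b) :
    ∃ ε : Fin 4 → ℤ, (∀ j, ε j = 1 ∨ ε j = -1) ∧ ∀ (X : Over S) (x y z₁ z₂ z₃ z₄ : X ⟶ Red.Ga S),
      Red.gaFn z₁ = (ε 0 : Γ(X.left, ⊤)) * Red.gaFn x * Red.gaFn y →
      Red.gaFn z₂ = (ε 1 : Γ(X.left, ⊤)) * Red.gaFn x ^ 2 * Red.gaFn y →
      Red.gaFn z₃ = (ε 2 : Γ(X.left, ⊤)) * Red.gaFn x ^ 3 * Red.gaFn y →
      Red.gaFn z₄ = (ε 3 : Γ(X.left, ⊤)) * Red.gaFn x ^ 3 * Red.gaFn y ^ 2 →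
        (y ≫ C.v b) * (x ≫ C.v a) * (y ≫ C.v b)⁻¹ * (x ≫ C.v a)⁻¹ =
          (z₁ ≫ C.v c₁) * (z₂ ≫ C.v c₂) * (z₃ ≫ C.v c₃) * (z₄ ≫ C.v c₄) := by
  obtain ⟨P, t, hPt, hdiff, hbot, htop⟩ := chain_coeffs hind
  have hP : P = 0 := by
    by_contra h
    exact hm (by simpa using (hbot 1).mpr (by omega))
  have ht : t = 3 := by
    have h1 : 3 ≤ t := (htop 3).mp ⟨c₃, by rw [hc₃]; simp [add_comm]⟩
    omega
  have hab := pairing_cases hind hlen _ hdiff.symm (by omega) (by omega)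
  rw [show ((P : ℤ) - t) = -3 by omega] at hab
  norm_num at hab
  obtain ⟨ε, ε', hε, -, h⟩ := C.comm_G2 hind (by omega) hab hc₁ hc₂ hc₃ hc₄
  refine ⟨ε, hε, fun X x y z₁ z₂ z₃ z₄ h1 h2 h3 h4 => ?_⟩
  rw [pt_comp_homFn, pt_comp_homFn, pt_comp_homFn, pt_comp_homFn, pt_comp_homFn, pt_comp_homFn, h1, h2, h3, h4,
    mul_assoc (ε 0 : Γ(X.left, ⊤)), mul_assoc (ε 1 : Γ(X.left, ⊤)), mul_assoc (ε 2 : Γ(X.left, ⊤)),
    mul_assoc (ε 3 : Γ(X.left, ⊤))]
  exact (h X _ _).1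

/-- The case `(p, q) = (2, 2)`. -/
theorem case_22 (hm1 : D.P.root b - D.P.root a ∈ Set.range D.P.root)
    (hm2 : D.P.root b - (2 : ℤ) • D.P.root a ∉ Set.range D.P.root) {c₁ c₂ c₃ : D.idx}
    (hc₁ : D.P.root c₁ = D.P.root a + D.P.root b) (hc₂ : D.P.root c₂ = (2 : ℤ) • D.P.root a + D.P.root b)
    (hq : D.P.root b + (3 : ℤ) • D.P.root a ∉ Set.range D.P.root)
    (hc₃ : D.P.root c₃ = D.P.root a + (2 : ℤ) • D.P.root b) :
    ∃ ε₁ ε₂ ε₃ : ℤ, (ε₁ = 1 ∨ ε₁ = -1) ∧ (ε₂ = 1 ∨ ε₂ = -1) ∧ (ε₃ = 1 ∨ ε₃ = -1) ∧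
      ∀ (X : Over S) (x y z₁ z₂ z₃ : X ⟶ Red.Ga S),
      Red.gaFn z₁ = 2 * (ε₁ : Γ(X.left, ⊤)) * Red.gaFn x * Red.gaFn y →
      Red.gaFn z₂ = 3 * (ε₂ : Γ(X.left, ⊤)) * Red.gaFn x ^ 2 * Red.gaFn y →
      Red.gaFn z₃ = 3 * (ε₃ : Γ(X.left, ⊤)) * Red.gaFn x * Red.gaFn y ^ 2 →
        (y ≫ C.v b) * (x ≫ C.v a) * (y ≫ C.v b)⁻¹ * (x ≫ C.v a)⁻¹ =
          (z₁ ≫ C.v c₁) * (z₂ ≫ C.v c₂) * (z₃ ≫ C.v c₃) := by
  obtain ⟨P, t, hPt, hdiff, hbot, htop⟩ := chain_coeffs hind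
  have hP : P = 1 := by
    have h1 : 1 ≤ P := (hbot 1).mp (by simpa using hm1)
    have h2 : ¬ 2 ≤ P := fun h => hm2 (by simpa using (hbot 2).mpr h)
    omega
  have ht : t = 2 := by
    have h1 : 2 ≤ t := (htop 2).mp ⟨c₂, by rw [hc₂]; simp [add_comm]⟩
    omega
  have hab := pairing_cases hind hlen _ hdiff.symm (by omega) (by omega)
  rw [show ((P : ℤ) - t) = -1 by omega] at hab
  norm_num at hab
  obtain ⟨β, hβ⟩ := hm1
  have hba : D.P.pairing b a = -1 := by omega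
  have hind' : ∀ r s : ℤ, r • D.P.root a + s • D.P.root β = 0 → r = 0 ∧ s = 0 := fun r s h => by
    obtain ⟨e1, e2⟩ := hind (r - s) s (by rw [← h, hβ]; module)
    omega
  have pβa : D.P.pairing β a = -3 := by
    rw [pairing_eq_apply, hβ, map_sub, ← pairing_eq_apply, ← pairing_eq_apply, hba, RootPairing.pairing_same]
    rfl
  have paβ : D.P.pairing a β = -1 := by
    have h := cartanPair (D := D) a β
    obtain ⟨n1, n2⟩ := cartan_ne_two hind'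
    rw [pβa] at h n1 n2
    rcases h with h | h | h | h | h | h | h | h | h | h | h | h | h <;> omega
  obtain ⟨ε, ε', -, hε', h⟩ := C.comm_G2 hind' pβa paβ (c₁ := b) (c₂ := c₁) (c₃ := c₂) (c₄ := c₃)
    (by rw [hβ]; module) (by rw [hc₁, hβ]; module) (by rw [hc₂, hβ]; module) (by rw [hc₃, hβ]; module)
  refine ⟨ε' 0, ε' 1, ε' 2, hε' 0, hε' 1, hε' 2, fun X x y z₁ z₂ z₃ h1 h2 h3 => ?_⟩
  rw [pt_comp_homFn, pt_comp_homFn, pt_comp_homFn, pt_comp_homFn, pt_comp_homFn, h1, h2, h3]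
  refine (h X _ _).2.1.trans (congrArg₂ (· * ·) (congrArg₂ (· * ·) (congrArg _ ?_) (congrArg _ ?_)) (congrArg _ ?_)) <;>
    ring

end ChevData

end Groth.Agent.Rank2Red38
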