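import Groth.Agent.Rank2Red38.PinnedA1A1
import Groth.Agent.Rank2Red38.PinnedG2
import Groth.Agent.Rank2Red38.Stmt
import Groth.Agent.Rank2Red38.Commute

/-! Representatives of root groups of a pinned group by descent along simple reflections: heights, signs, the
two-torsion of the torus, existence. -/

set_option autoImplicit false

universe u

open CategoryTheory CategoryTheory.Limits AlgebraicGeometry MonoidalCategory CartesianMonoidalCategory
open scoped MonObj Classical

noncomputable section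

namespace Groth.Agent.Rank2Red38

open GrpSchLib

variable {S : Scheme.{u}} {G : Over S} [GrpObj G] {D : Red.Pinning G}

local notation "ht" => D.base.height

theorem root_reflect (a c : D.idx) :
    D.P.root (D.P.reflectionPerm a c) = D.P.root c - D.P.pairing c a • D.P.root a := by
  rw [RootPairing.root_reflectionPerm, RootPairing.reflection_apply_root]

theorem pairing_reflect (a c d : D.idx) :
    D.P.pairing (D.P.reflectionPerm a c) d = D.P.pairing c d - D.P.pairing c a * D.P.pairing a d := by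
  simp only [pairing_eq_apply D.toSplitRed]
  rw [root_reflect, map_sub, map_zsmul, smul_eq_mul, pairing_eq_apply D.toSplitRed]

theorem eq_of_root_eq {c d : D.idx} (h : D.P.root c = D.P.root d) : c = d := D.P.root.injective h

theorem reflect_neg' (a c : D.idx) :
    D.P.reflectionPerm a (neg' D.toSplitRed c) = neg' D.toSplitRed (D.P.reflectionPerm a c) := by
  refine eq_of_root_eq ?_
  show D.P.root (D.P.reflectionPerm a (D.P.reflectionPerm c c)) = _
  rw [RootPairing.root_reflectionPerm, root_neg', RootPairing.root_reflectionPerm, RootPairing.reflection_apply_self,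
    map_neg, ← RootPairing.root_reflectionPerm]

theorem height_reflect {a : D.idx} (ha : a ∈ D.base.support) (c : D.idx) :
    ht (D.P.reflectionPerm a c) = ht c - D.P.pairing c a := by
  rw [D.base.height_add_zsmul (i := c) (j := a) (z := -D.P.pairing c a)
    (by rw [root_reflect, neg_smul, sub_eq_add_neg]), RootPairing.Base.height_one_of_mem_support ha]
  simp [sub_eq_add_neg]

theorem height_neg' (c : D.idx) : ht (neg' D.toSplitRed c) = -ht c := D.base.height_reflectionPerm_self c

theorem exists_sgn (c : D.idx) : ∃ σ : ℤ, (σ = 1 ∨ σ = -1) ∧ 0 < σ * ht c := by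
  rcases (D.base.height_ne_zero c).lt_or_gt with h | h
  · exact ⟨-1, .inr rfl, by omega⟩
  · exact ⟨1, .inl rfl, by omega⟩

/-- `c` is neither `a` nor its opposite. -/
def Off (D : Red.Pinning G) (a c : D.idx) : Prop := c ≠ a ∧ c ≠ neg' D.toSplitRed a

theorem sgn_reflect {σ : ℤ} (hσ : σ = 1 ∨ σ = -1) {a c : D.idx} (ha : a ∈ D.base.support) (hc : Off D a c)
    (h : 0 < σ * ht c) : 0 < σ * ht (D.P.reflectionPerm a c) := by
  rcases hσ with rfl | rfl
  · rw [one_mul] at h ⊢
    exact isPos_reflectionPerm D.base ha h hc.1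
  · have hne : neg' D.toSplitRed c ≠ a := fun e =>
      hc.2 (by rw [← e]; exact (neg'_neg' (D := D.toSplitRed) c).symm)
    have hp : D.base.IsPos (neg' D.toSplitRed c) := by
      rw [RootPairing.Base.isPos_iff, height_neg']; omega
    have := isPos_reflectionPerm D.base ha hp hne
    rw [RootPairing.Base.isPos_iff, reflect_neg', height_neg'] at this
    omega

theorem mul_pos_sgn {σ x y : ℤ} (hσ : σ = 1 ∨ σ = -1) (h : 0 < σ * x) : 0 < x * y ↔ 0 < σ * y := by
  rcases hσ with rfl | rfl <;> constructor <;> intro h' <;> nlinarith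

theorem natAbs_height_reflect {a c : D.idx} (ha : a ∈ D.base.support) (hc : Off D a c)
    (h : 0 < ht c * D.P.pairing c a) : (ht (D.P.reflectionPerm a c)).natAbs < (ht c).natAbs := by
  obtain ⟨σ, hσ, hs⟩ := exists_sgn (D := D) c
  have h1 := sgn_reflect hσ ha hc hs
  rw [mul_pos_sgn hσ hs] at h
  rw [height_reflect ha] at h1 ⊢
  rcases hσ with rfl | rfl <;> omega

theorem pairing_simple_nonpos {a b : D.idx} (ha : a ∈ D.base.support) (hb : b ∈ D.base.support) (hne : a ≠ b) :
    D.P.pairing a b ≤ 0 := by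
  rw [← pairingIn_eq_pairing D.toSplitRed]
  exact D.base.pairingIn_le_zero_of_ne hne ha hb

theorem exists_descent {c : D.idx} (hc : ∀ a ∈ D.base.support, Off D a c) :
    ∃ a ∈ D.base.support, 0 < ht c * D.P.pairing c a := by
  rcases (D.base.height_ne_zero c).lt_or_gt with h | h
  · have hp : D.base.IsPos (neg' D.toSplitRed c) := by rw [RootPairing.Base.isPos_iff, height_neg']; omega
    obtain ⟨a, ha, h'⟩ := hp.exists_mem_support_pos_pairingIn
    rw [D.P.zero_lt_pairingIn_iff' ℤ, pairingIn_eq_pairing D.toSplitRed,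
      RootPairing.pairing_reflectionPerm_self_left] at h'
    exact ⟨a, ha, mul_pos_of_neg_of_neg h (by omega)⟩
  · obtain ⟨a, ha, h'⟩ := RootPairing.Base.IsPos.exists_mem_support_pos_pairingIn (b := D.base) h
    rw [D.P.zero_lt_pairingIn_iff' ℤ, pairingIn_eq_pairing D.toSplitRed] at h'
    exact ⟨a, ha, mul_pos h h'⟩

/-- Roots of a pinned group have no multiples among the roots. -/
theorem red1 (c : D.idx) : Red1 D.toSplitRed c := by
  induction hn : (ht c).natAbs using Nat.strong_induction_on generalizing c with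
  | _ n ih =>
    intro e k hk
    change D.P.root e = k • D.P.root c at hk
    by_cases hs : ∃ a ∈ D.base.support, ¬ Off D a c
    · obtain ⟨a, ha, hca⟩ := hs
      rw [Off, not_and_or, not_not, not_not] at hca
      rcases hca with rfl | rfl
      · have := D.base.eq_one_or_neg_one_of_mem_support_of_smul_mem _ ha (k : ℤ) ⟨e, by simpa using hk⟩
        omega
      · have := D.base.eq_one_or_neg_one_of_mem_support_of_smul_mem _ ha (-(k : ℤ))
          ⟨e, by rw [hk, show D.P.root (neg' D.toSplitRed a) = _ from root_neg' D.toSplitRed a]; simp⟩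
        omega
    · push_neg at hs
      obtain ⟨a, ha, h⟩ := exists_descent hs
      refine ih _ (hn ▸ natAbs_height_reflect ha (hs a ha) h) _ rfl (D.P.reflectionPerm a e) k ?_
      show D.P.root (D.P.reflectionPerm a e) = k • D.P.root (D.P.reflectionPerm a c)
      rw [RootPairing.root_reflectionPerm, hk, map_nsmul, ← RootPairing.root_reflectionPerm]

/-- Families of points parametrised by a function. -/
abbrev Fam (G : Over S) := ∀ X : Over S, Γ(X.left, ⊤) → (X ⟶ G)

/-- Families of points. -/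
abbrev Elt (G : Over S) := ∀ X : Over S, X ⟶ G

/-- Equality up to a sign of the parameter. -/
def Sim (φ ψ : Fam G) : Prop :=
  ∃ ε : ℤ, (ε = 1 ∨ ε = -1) ∧ ∀ X x, φ X x = ψ X ((ε : Γ(X.left, ⊤)) * x)

/-- Conjugation of a family. -/
def act (g : Elt G) (φ : Fam G) : Fam G := fun X x => g X * φ X x * (g X)⁻¹

omit [GrpObj G] in
theorem Sim.rfl' {φ : Fam G} : Sim φ φ := ⟨1, .inl rfl, fun X x => by simp⟩

omit [GrpObj G] in
theorem Sim.symm {φ ψ : Fam G} : Sim φ ψ → Sim ψ φ := fun ⟨e, he, h⟩ => ⟨e, he, fun X x => by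
  rw [h, ← mul_assoc, ← Int.cast_mul, show e * e = 1 by rcases he with rfl | rfl <;> rfl, Int.cast_one, one_mul]⟩

omit [GrpObj G] in
theorem Sim.trans {φ ψ χ : Fam G} : Sim φ ψ → Sim ψ χ → Sim φ χ := fun ⟨e, he, h⟩ ⟨f, hf, k⟩ =>
  ⟨f * e, by rcases he with rfl | rfl <;> rcases hf with rfl | rfl <;> simp,
    fun X x => by rw [h, k, Int.cast_mul, mul_assoc]⟩

theorem Sim.act {φ ψ : Fam G} (g : Elt G) : Sim φ ψ → Sim (act g φ) (Rank2Red38.act g ψ) := fun ⟨e, he, h⟩ =>
  ⟨e, he, fun X x => by simp only [Rank2Red38.act, h]⟩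

theorem act_mul (g h : Elt G) (φ : Fam G) : act (g * h) φ = act g (act h φ) := by
  funext X x; simp only [act, Pi.mul_apply]; group

theorem act_one (φ : Fam G) : act 1 φ = φ := by funext X x; simp [act]

variable (D) in
/-- The root family of `c`, scaled. -/
def Uk (c : D.idx) (k : Γ(S, ⊤)) : Fam G := fun X x => U D.toSplitRed X c (glob X k * x)

variable (D) in
/-- The root family of `c`. -/
def Uf (c : D.idx) : Fam G := fun X x => U D.toSplitRed X c x

theorem Uk_one (c : D.idx) : Uk D c 1 = Uf D c := by funext X x; simp [Uk, Uf]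

variable (D) in
/-- The Weyl element as a family. -/
def Wf (a : D.idx) : Elt G := fun X => W D.toSplitRed X a

variable (D) in
/-- The value of a coroot at `-1`. -/
def Zf (a : D.idx) : Elt G := fun X => I D.toSplitRed X (av D.toSplitRed X a (-1))

variable (D) in
/-- The subgroup generated by the values of the coroots at `-1`. -/
def TS : Subgroup (Elt G) := Subgroup.closure (Set.range (Zf D))

theorem Zf_mem (a : D.idx) : Zf D a ∈ TS D := Subgroup.subset_closure ⟨a, rfl⟩

theorem Zf_mul_self (a : D.idx) : Zf D a * Zf D a = 1 := funext fun X => av_neg_one_mul_self D.toSplitRed a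

theorem TS_fix_root {g : Elt G} (hg : g ∈ TS D) (c : D.idx) : Sim (act g (Uf D c)) (Uf D c) := by
  induction hg using Subgroup.closure_induction with
  | mem g hg =>
    obtain ⟨a, rfl⟩ := hg
    have key : ∀ n : ℤ, ∃ ε : ℤ, (ε = 1 ∨ ε = -1) ∧
        ∀ R : Type u, ∀ _ : CommRing R, (((-1 : Rˣ) ^ n : Rˣ) : R) = (ε : R) := fun n => by
      rcases Int.even_or_odd n with h | h
      · exact ⟨1, .inl rfl, fun R _ => by simp [h.neg_one_zpow]⟩
      · exact ⟨-1, .inr rfl, fun R _ => by simp [h.neg_one_zpow]⟩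
    obtain ⟨ε, hε, h⟩ := key (D.P.pairing c a)
    refine ⟨ε, hε, fun X x => ?_⟩
    simp only [act, Zf, Uf, conj_U, rootVal_av]
    rw [← h]
  | one => rw [act_one]; exact Sim.rfl'
  | mul g g' _ _ h1 h2 => rw [act_mul]; exact (h2.act g).trans h1
  | inv g _ h1 =>
    have := (h1.act g⁻¹).symm
    rwa [← act_mul, inv_mul_cancel, act_one] at this

theorem TS_fix {g : Elt G} (hg : g ∈ TS D) (c : D.idx) (k : Γ(S, ⊤)) : Sim (act g (Uk D c k)) (Uk D c k) := by
  obtain ⟨e, he, h⟩ := TS_fix_root hg c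
  refine ⟨e, he, fun X x => ?_⟩
  have := h X (glob X k * x)
  simp only [act, Uk, Uf] at this ⊢
  rw [this]
  congr 1
  ring

section Weyl

variable {a : D.idx} (hda : IsDual D.toSplitRed a)
include hda

theorem Wf_sq : Wf D a * Wf D a = Zf D a := funext fun X => (pow_two _).symm.trans (W_sq D.toSplitRed hda)

theorem Wf_inv : (Wf D a)⁻¹ = Zf D a * Wf D a := by
  refine inv_eq_of_mul_eq_one_left ?_
  rw [mul_assoc, Wf_sq hda, Zf_mul_self]

theorem Wf_conj_Zf (c : D.idx) :
    Wf D a * Zf D c * (Wf D a)⁻¹ = Zf D c * (Zf D a ^ D.P.pairing a c)⁻¹ := by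
  funext X
  simp only [Pi.mul_apply, Pi.inv_apply, Pi.pow_apply, Wf, Zf]
  rw [W_conj_torus D.toSplitRed hda, rootVal_av, map_mul, map_inv, map_zpow, map_zpow]

theorem Wf_conj_mem {g : Elt G} (hg : g ∈ TS D) : Wf D a * g * (Wf D a)⁻¹ ∈ TS D := by
  induction hg using Subgroup.closure_induction with
  | mem g hg =>
    obtain ⟨c, rfl⟩ := hg
    rw [Wf_conj_Zf hda]
    exact mul_mem (Zf_mem c) (inv_mem (zpow_mem (Zf_mem a) _))
  | one => simpa using one_mem _
  | mul g g' _ _ h1 h2 =>
    rw [show Wf D a * (g * g') * (Wf D a)⁻¹ = (Wf D a * g * (Wf D a)⁻¹) * (Wf D a * g' * (Wf D a)⁻¹) by group]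
    exact mul_mem h1 h2
  | inv g _ h1 =>
    rw [show Wf D a * g⁻¹ * (Wf D a)⁻¹ = (Wf D a * g * (Wf D a)⁻¹)⁻¹ by group]
    exact inv_mem h1

theorem Wf_conj_mem' {g : Elt G} (hg : g ∈ TS D) : (Wf D a)⁻¹ * g * Wf D a ∈ TS D := by
  have h : (Wf D a)⁻¹ * g * Wf D a = Zf D a * (Wf D a * g * (Wf D a)⁻¹) * Zf D a := by
    have e : Wf D a = (Wf D a)⁻¹ * Zf D a := by rw [← Wf_sq hda]; group
    conv_lhs => rw [Wf_inv hda]
    conv_lhs => enter [2]; rw [e]
    group
  rw [h]
  exact mul_mem (mul_mem (Zf_mem a) (Wf_conj_mem hda hg)) (Zf_mem a)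

end Weyl

/-- Alternating products. -/
def alt {H : Type*} [Monoid H] (x y : H) : ℕ → H
  | 0 => 1
  | n + 1 => x * alt y x n

theorem map_alt {H K : Type*} [Monoid H] [Monoid K] (f : H →* K) (x y : H) (n : ℕ) :
    f (alt x y n) = alt (f x) (f y) n := by
  induction n generalizing x y with
  | zero => simp [alt]
  | succ n ih => simp [alt, ih]

theorem alt_succ_last {H : Type*} [Monoid H] (x y : H) (n : ℕ) :
    alt x y (n + 1) = alt x y n * (if n % 2 = 0 then x else y) := by
  induction n generalizing x y with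
  | zero => simp [alt]
  | succ n ih =>
    show x * alt y x (n + 1) = _
    rw [ih, ← mul_assoc]
    rcases Nat.mod_two_eq_zero_or_one n with h | h <;>
      simp [h, Nat.add_mod, alt]

theorem alt_swap {H : Type*} [Group H] {x y : H} (hx : x * x = 1) (hy : y * y = 1) {m : ℕ}
    (hm : m = 2 ∨ m = 3 ∨ m = 4 ∨ m = 6) (h : (x * y) ^ m = 1) : alt x y m = alt y x m := by
  have e : alt x y m = (x * y) ^ m * alt y⁻¹ x⁻¹ m := by
    rcases hm with rfl | rfl | rfl | rfl <;> simp only [alt, pow_succ, pow_zero, one_mul, mul_one] <;> group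
  rw [e, h, one_mul, inv_eq_of_mul_eq_one_left hx, inv_eq_of_mul_eq_one_left hy]

theorem alt_inv_mul_mem {H : Type*} [Group H] (K : Subgroup H) {x y : H} (hx : ∀ z ∈ K, x * z * x⁻¹ ∈ K)
    (hx' : ∀ z ∈ K, x⁻¹ * z * x ∈ K) (hy : ∀ z ∈ K, y * z * y⁻¹ ∈ K) (hy' : ∀ z ∈ K, y⁻¹ * z * y ∈ K)
    (hxx : x * x ∈ K) (hyy : y * y ∈ K) {m : ℕ} (hm : m = 2 ∨ m = 3 ∨ m = 4 ∨ m = 6) (h : (x * y) ^ m ∈ K) :
    (alt x y m)⁻¹ * alt y x m ∈ K := by
  let L : Subgroup H :=
    { carrier := {g | (∀ z ∈ K, g * z * g⁻¹ ∈ K) ∧ ∀ z ∈ K, g⁻¹ * z * g ∈ K}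
      one_mem' := by simp
      mul_mem' := fun {g g'} h1 h2 => ⟨fun z hz => by
          simpa [mul_assoc] using h1.1 _ (h2.1 z hz), fun z hz => by
          simpa [mul_assoc] using h2.2 _ (h1.2 z hz)⟩
      inv_mem' := fun {g} h1 => ⟨fun z hz => by simpa using h1.2 z hz, fun z hz => by simpa using h1.1 z hz⟩ }
  have hKL : ∀ k ∈ K, k ∈ L := fun k hk => ⟨fun z hz => mul_mem (mul_mem hk hz) (inv_mem hk),
    fun z hz => mul_mem (mul_mem (inv_mem hk) hz) hk⟩
  haveI : (K.subgroupOf L).Normal := ⟨fun z hz g => by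
    rw [Subgroup.mem_subgroupOf] at hz ⊢
    exact g.2.1 _ hz⟩
  let π : L →* L ⧸ K.subgroupOf L := QuotientGroup.mk' _
  have key : ∀ g : L, π g = 1 ↔ (g : H) ∈ K := fun g => by
    rw [QuotientGroup.mk'_apply, QuotientGroup.eq_one_iff, Subgroup.mem_subgroupOf]
  let x' : L := ⟨x, hx, hx'⟩
  let y' : L := ⟨y, hy, hy'⟩
  have e := alt_swap (x := π x') (y := π y') (by rw [← map_mul, key]; exact hxx) (by rw [← map_mul, key]; exact hyy)
    hm (by rw [← map_mul, ← map_pow, key]; exact h)
  rw [← map_alt, ← map_alt, ← inv_mul_eq_one, ← map_inv, ← map_mul, key] at e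
  have hsub : ∀ (g g' : L) (n : ℕ), ((alt g g' n : L) : H) = alt (g : H) g' n := fun g g' n => map_alt L.subtype g g' n
  rw [Subgroup.coe_mul, Subgroup.coe_inv, hsub, hsub] at e
  exact e

section Scalar

variable (hd : ∀ a ∈ D.base.support, IsDual D.toSplitRed a)
include hd

theorem exists_scalar {a : D.idx} (ha : a ∈ D.base.support) (c : D.idx) :
    ∃ k : Γ(S, ⊤), IsUnit k ∧ act (Wf D a) (Uf D c) = Uk D (D.P.reflectionPerm a c) k := by
  have hlam : ∀ d : D.idx, ∃ lam : Module.Dual ℤ D.M, IsGeneric D.toSplitRed lam ∧ 0 < lam (D.P.root d) := fun d => by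
    obtain ⟨σ, hσ, hs⟩ := exists_sgn (D := D) d
    refine ⟨σ • twoRho D, fun e he => isGeneric_twoRho D e ?_, ?_⟩
    · change σ • twoRho D (D.P.root e) = 0 at he
      rcases hσ with rfl | rfl <;> simpa using he
    · show 0 < σ • twoRho D (D.P.root d)
      rw [twoRho_height, smul_eq_mul]
      nlinarith
  obtain ⟨lam, hl, hp⟩ := hlam (D.P.reflectionPerm a c)
  obtain ⟨k, hk⟩ := W_conj_root (hasNormalForm D.toSplitRed) (hd a ha) c (red1 _) hl hp
  obtain ⟨lam', hl', hp'⟩ := hlam c
  obtain ⟨k', hk'⟩ := W_conj_root (hasNormalForm D.toSplitRed) (hd a ha) (D.P.reflectionPerm a c)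
    (by rw [RootPairing.reflectionPerm_self]; exact red1 _) hl' (by rw [RootPairing.reflectionPerm_self]; exact hp')
  rw [RootPairing.reflectionPerm_self] at hk'
  refine ⟨k, ?_, funext fun X => funext fun x => hk X x⟩
  have h2 : U D.toSplitRed (𝟙_ (Over S)) c (glob _ k' * glob _ k) =
      U D.toSplitRed (𝟙_ (Over S)) c
        ((((-1 : Γ((𝟙_ (Over S)).left, ⊤)ˣ) ^ D.P.pairing c a : Γ((𝟙_ (Over S)).left, ⊤)ˣ) :
          Γ((𝟙_ (Over S)).left, ⊤)) * 1) := by
    rw [← W_sq_conj D.toSplitRed (hd a ha), ← hk', ← mul_one (glob (𝟙_ (Over S)) k), ← hk, pow_two]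
    group
  have h3 := (hasNormalForm D.toSplitRed).mono hl' hp' h2
  rw [mul_one] at h3
  have h4 : IsUnit (glob (𝟙_ (Over S)) k' * glob (𝟙_ (Over S)) k) := h3 ▸ Units.isUnit _
  have h5 := (IsUnit.mul_iff.mp h4).2
  rw [glob_self] at h5
  exact h5

end Scalar

variable (D) in
/-- Representatives of root groups obtained by descent to the simple roots and their opposites. -/
inductive Rep : D.idx → Fam G → Prop
  | base {a c : D.idx} (ha : a ∈ D.base.support) (hc : c = a ∨ c = neg' D.toSplitRed a) : Rep c (Uf D c)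
  | step {a c : D.idx} {ψ : Fam G} (ha : a ∈ D.base.support) (hc : Off D a c)
      (hp : 0 < D.base.height c * D.P.pairing c a) (h : Rep (D.P.reflectionPerm a c) ψ) : Rep c (act (Wf D a) ψ)

theorem exists_rep (c : D.idx) : ∃ φ, Rep D c φ := by
  induction hn : (ht c).natAbs using Nat.strong_induction_on generalizing c with
  | _ n ih =>
    by_cases hs : ∃ a ∈ D.base.support, ¬ Off D a c
    · obtain ⟨a, ha, hca⟩ := hs
      rw [Off, not_and_or, not_not, not_not] at hca
      exact ⟨_, .base ha hca⟩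
    · push_neg at hs
      obtain ⟨a, ha, h⟩ := exists_descent hs
      obtain ⟨ψ, hψ⟩ := ih _ (hn ▸ natAbs_height_reflect ha (hs a ha) h) _ rfl
      exact ⟨_, .step ha (hs a ha) h hψ⟩

theorem Rep.scalar (hd : ∀ a ∈ D.base.support, IsDual D.toSplitRed a) {c : D.idx} {φ : Fam G} (h : Rep D c φ) :
    ∃ k : Γ(S, ⊤), IsUnit k ∧ φ = Uk D c k := by
  induction h with
  | base ha hc => exact ⟨1, isUnit_one, (Uk_one _).symm⟩
  | @step a c ψ ha hc hp h ih =>
    obtain ⟨k, hk, rfl⟩ := ih
    obtain ⟨k', hk', e⟩ := exists_scalar hd ha (D.P.reflectionPerm a c)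
    rw [RootPairing.reflectionPerm_self] at e
    refine ⟨k' * k, hk'.mul hk, funext fun X => funext fun x => ?_⟩
    refine (congrFun (congrFun e X) (glob X k * x)).trans ?_
    simp only [Uk, map_mul, mul_assoc]

theorem Rep.fix (hd : ∀ a ∈ D.base.support, IsDual D.toSplitRed a) {c : D.idx} {φ : Fam G} (h : Rep D c φ)
    {g : Elt G} (hg : g ∈ TS D) : Sim (act g φ) φ := by
  obtain ⟨k, -, rfl⟩ := h.scalar hd
  exact TS_fix hg c k

end Groth.Agent.Rank2Red38
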