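import Groth.Agent.Rank2Red38.Pts

/-! The normal form of equivariant families of points by root groups: the interface between the geometry of a
split group and the calculations with root groups. -/

set_option autoImplicit false

universe u

open CategoryTheory CategoryTheory.Limits AlgebraicGeometry MonoidalCategory CartesianMonoidalCategory
open scoped MonObj

noncomputable section

namespace Groth.Agent.Rank2Red38

open GrpSchLib

variable {S : Scheme.{u}} {G : Over S} [GrpObj G]

/-- A linear form on the characters which vanishes on no root. -/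
def IsGeneric (D : Red.SplitRed G) (lam : Module.Dual ℤ D.M) : Prop := ∀ c, lam (D.P.root c) ≠ 0

/-- Functions on the base as functions on `X`. -/
def glob (X : Over S) : Γ(S, ⊤) →+* Γ(X.left, ⊤) := X.hom.appTop.hom

theorem map_glob {X X' : Over S} (g : X' ⟶ X) (c : Γ(S, ⊤)) : g.left.appTop (glob X c) = glob X' c := by
  have h := Over.w g
  unfold glob
  rw [← h]
  rfl

/-- The product of root elements along a list. -/
def rootProd (D : Red.SplitRed G) (X : Over S) (l : List D.idx) (x : D.idx → Γ(X.left, ⊤)) : X ⟶ G :=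
  (l.map fun c => U D X c (x c)).prod

/-- A family of points parametrised by `n` functions, compatible with pullback, which the torus moves through
the roots `w k`. -/
structure IsWeighted (D : Red.SplitRed G) {n : ℕ} (w : Fin n → D.idx)
    (F : ∀ X : Over S, (Fin n → Γ(X.left, ⊤)) → (X ⟶ G)) : Prop where
  nat : ∀ (X X' : Over S) (g : X' ⟶ X) (x : Fin n → Γ(X.left, ⊤)),
    g ≫ F X x = F X' fun k => g.left.appTop (x k)
  equiv : ∀ (X : Over S) (t : X ⟶ D.T) (x : Fin n → Γ(X.left, ⊤)),
    I D X t * F X x * (I D X t)⁻¹ = F X fun k => rootVal D X (w k) t * x k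
  zero : ∀ X : Over S, F X 0 = 1

/-- The normal form: injectivity of products of positive root elements and the coordinates of weighted families. -/
structure HasNormalForm (D : Red.SplitRed G) : Prop where
  inj : ∀ (lam : Module.Dual ℤ D.M), IsGeneric D lam → ∀ (l : List D.idx), l.Nodup →
    (∀ c ∈ l, 0 < lam (D.P.root c)) → ∀ (X : Over S) (x y : D.idx → Γ(X.left, ⊤)),
    rootProd D X l x = rootProd D X l y → ∀ c ∈ l, x c = y c
  exists_coord : ∀ (lam : Module.Dual ℤ D.M), IsGeneric D lam → ∀ (n : ℕ) (w : Fin n → D.idx),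
    (∀ k, 0 < lam (D.P.root (w k))) → ∀ (F : ∀ X : Over S, (Fin n → Γ(X.left, ⊤)) → (X ⟶ G)),
    IsWeighted D w F → ∀ (l : List D.idx), l.Nodup → (∀ c ∈ l, 0 < lam (D.P.root c)) → ∀ (e : D.idx → Fin n → ℕ),
    (∀ (d : D.idx) (m : Fin n → ℕ), D.P.root d = ∑ k, m k • D.P.root (w k) → d ∈ l ∧ m = e d) →
    ∃ C : D.idx → Γ(S, ⊤), ∀ (X : Over S) (x : Fin n → Γ(X.left, ⊤)),
      F X x = rootProd D X l fun d => glob X (C d) * ∏ k, x k ^ e d k

variable {D : Red.SplitRed G}

theorem HasNormalForm.mono (N : HasNormalForm D) {lam : Module.Dual ℤ D.M} (hl : IsGeneric D lam) {c : D.idx}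
    (hc : 0 < lam (D.P.root c)) {X : Over S} {x y : Γ(X.left, ⊤)} (h : U D X c x = U D X c y) : x = y := by
  have := N.inj lam hl [c] (List.nodup_singleton c) (by simpa using hc) X (fun _ => x) (fun _ => y)
    (by simpa [rootProd] using h)
  exact this c List.mem_cons_self

end Groth.Agent.Rank2Red38
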