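import Groth.Agent.Rank2Red38.Sys2
import Mathlib.Tactic.IntervalCases

/-! A system of rank two with compatible Weyl elements for both generating roots. -/

set_option autoImplicit false

universe u

open CategoryTheory CategoryTheory.Limits AlgebraicGeometry MonoidalCategory CartesianMonoidalCategory
open scoped MonObj

noncomputable section

namespace Groth.Agent.Rank2Red38

open GrpSchLib

variable {S : Scheme.{u}} {G : Over S} [GrpObj G] {D : Red.SplitRed G}

/-- Bounded enumeration of the combinations of two coordinate vectors that are roots. -/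
macro "root_comb" : tactic => `(tactic|
  (intro i j h
   obtain ⟨hi, hj⟩ : i ≤ 6 ∧ j ≤ 6 := by
     simp [InSys] at h
     omega
   interval_cases i <;> interval_cases j <;> revert h <;> decide))

/-- No proper multiple is a root. -/
macro "root_red" : tactic => `(tactic|
  (intro k h
   simp [InSys] at h
   omega))

variable (s : Sys2 D)

/-- A rank-two system with a sign convention under which the two Weyl elements are given. -/
structure Frame (s : Sys2 D) where
  σ : ℤ
  hσ : σ * σ = 1
  ca : D.idx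
  cb : D.idx
  dual_a : IsDual D ca
  dual_b : IsDual D cb
  refl_a : ∀ v, D.P.reflection ca v = D.P.reflection s.a v
  refl_b : ∀ v, D.P.reflection cb v = D.P.reflection s.b v
  weyl_a : ∀ X : Over S, weylElt (fun x => s.V X (1, 0) ((σ : Γ(X.left, ⊤)) * x))
    (fun x => s.V X (-1, 0) ((σ : Γ(X.left, ⊤)) * x)) = W D X ca
  weyl_b : ∀ X : Over S, weylElt (fun x => s.V X (0, 1) ((σ : Γ(X.left, ⊤)) * x))
    (fun x => s.V X (0, -1) ((σ : Γ(X.left, ⊤)) * x)) = W D X cb

theorem Sys2.r_gen (h1 : InSys s.pos (1, 0)) (h2 : InSys s.pos (0, 1)) :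
    s.r (1, 0) = s.a ∧ s.r (0, 1) = s.b ∧ s.r (-1, 0) = neg' D s.a ∧ s.r (0, -1) = neg' D s.b := by
  refine ⟨s.r_eq_a h1, s.r_eq_b h2, ?_, ?_⟩
  · rw [show ((-1 : ℤ), (0 : ℤ)) = -(1, 0) from rfl, s.r_neg h1, s.r_eq_a h1]
  · rw [show ((0 : ℤ), (-1 : ℤ)) = -(0, 1) from rfl, s.r_neg h2, s.r_eq_b h2]

theorem neg'_neg' (a : D.idx) : neg' D (neg' D a) = a := by
  apply D.P.root.injective
  rw [root_neg', root_neg', neg_neg]

/-- The frame of two dual pairs. -/
def Sys2.frame (h1 : InSys s.pos (1, 0)) (h2 : InSys s.pos (0, 1)) (ha : IsDual D s.a) (hb : IsDual D s.b) :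
    Frame s where
  σ := 1
  hσ := rfl
  ca := s.a
  cb := s.b
  dual_a := ha
  dual_b := hb
  refl_a _ := rfl
  refl_b _ := rfl
  weyl_a X := by simp only [Int.cast_one, one_mul, Sys2.V, (s.r_gen h1 h2).1, (s.r_gen h1 h2).2.2.1]; rfl
  weyl_b X := by simp only [Int.cast_one, one_mul, Sys2.V, (s.r_gen h1 h2).2.1, (s.r_gen h1 h2).2.2.2]; rfl

theorem reflection_neg' (a : D.idx) (v : D.M) : D.P.reflection (neg' D a) v = D.P.reflection a v := by
  rw [RootPairing.reflection_reflectionPerm]
  simp [Equiv.Perm.mul_apply, RootPairing.reflection_apply_self]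

/-- The frame of the opposite system. -/
def Sys2.negFrame (h1 : InSys s.pos (1, 0)) (h2 : InSys s.pos (0, 1)) (ha : IsDual D s.a) (hb : IsDual D s.b) :
    Frame s.negSys where
  σ := -1
  hσ := rfl
  ca := s.a
  cb := s.b
  dual_a := ha
  dual_b := hb
  refl_a v := (reflection_neg' s.a v).symm
  refl_b v := (reflection_neg' s.b v).symm
  weyl_a X := by
    obtain ⟨e1, -, e3, -⟩ := s.negSys.r_gen h1 h2
    simp only [Int.cast_neg, Int.cast_one, neg_one_mul, Sys2.V, e1, e3]
    rw [W_eq_neg D ha]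
    simp only [Sys2.negSys, neg'_neg']
  weyl_b X := by
    obtain ⟨-, e2, -, e4⟩ := s.negSys.r_gen h1 h2
    simp only [Int.cast_neg, Int.cast_one, neg_one_mul, Sys2.V, e2, e4]
    rw [W_eq_neg D hb]
    simp only [Sys2.negSys, neg'_neg']

namespace Frame

variable {s} (fr : Frame s) (X : Over S)

/-- The signed root subgroup. -/
def V (p : ℤ × ℤ) : Γ(X.left, ⊤) → (X ⟶ G) := fun x => s.V X p ((fr.σ : Γ(X.left, ⊤)) * x)

theorem σ_mul : (fr.σ : Γ(X.left, ⊤)) * fr.σ = 1 := by rw [← Int.cast_mul, fr.hσ, Int.cast_one]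

theorem isUnit_σ : IsUnit (fr.σ : Γ(X.left, ⊤)) := IsUnit.of_mul_eq_one _ (fr.σ_mul X)

theorem V_oneParam (p : ℤ × ℤ) : IsOneParam (fr.V X p) := fun x y => by
  simp only [V, mul_add]; exact s.V_oneParam X p _ _

theorem glob_σ : glob X (fr.σ : Γ(S, ⊤)) = fr.σ := map_intCast _ _

end Frame

/-- A root subgroup reparametrised by an invertible scalar. -/
theorem isOneParam_scale {R H : Type*} [CommRing R] [Group H] {u : R → H} (hu : IsOneParam u) (k : R) :
    IsOneParam fun x => u (k * x) := fun x y => by simp only [mul_add]; exact hu _ _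

end Groth.Agent.Rank2Red38
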