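import Groth.Agent.RedRk29.NormWeyl
import Groth.Agent.Rank2Red38.NormalForm
import Groth.Agent.Rank2Red38.HomExt
import Groth.Agent.S5509

/-! An inner automorphism respecting a pinning is trivial. -/

set_option autoImplicit false
set_option linter.style.haveILetI false
set_option linter.unusedSectionVars false

universe u

open CategoryTheory CategoryTheory.Limits AlgebraicGeometry MonoidalCategory CartesianMonoidalCategory
open scoped MonObj GrpObj AddMonoidAlgebra

noncomputable section

namespace Groth.Agent.Rank2Red38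

open GrpSchLib BigCell29 RedRk29

section Roots

variable {κ M N : Type*} [Finite κ] [AddCommGroup M] [AddCommGroup N] (P : RootPairing κ ℤ M N)

theorem word_coroot (l : List κ) (c : κ) : ∃ c' : κ,
    (l.map fun a => P.reflection a).prod (P.root c) = P.root c' ∧
      ∀ v, P.coroot' c' ((l.map fun a => P.reflection a).prod v) = P.coroot' c v := by
  induction l with
  | nil => exact ⟨c, rfl, fun v => rfl⟩
  | cons a l ih =>
    obtain ⟨c', h1, h2⟩ := ih
    refine ⟨P.reflectionPerm a c', ?_, fun v => ?_⟩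
    · rw [List.map_cons, List.prod_cons]
      show P.reflection a ((l.map fun a => P.reflection a).prod (P.root c)) = _
      rw [h1, RootPairing.root_reflectionPerm]
    · rw [List.map_cons, List.prod_cons]
      show P.coroot' (P.reflectionPerm a c') (P.reflection a ((l.map fun a => P.reflection a).prod v)) = _
      rw [RootPairing.coroot'_reflectionPerm, LinearMap.comp_apply, LinearEquiv.coe_coe,
        RootPairing.reflection_same, h2]

theorem word_sub_mem (l : List κ) (v : M) :
    (l.map fun a => P.reflection a).prod v - v ∈ P.rootSpan ℤ := by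
  induction l with
  | nil => simp
  | cons a l ih =>
    rw [List.map_cons, List.prod_cons]
    show P.reflection a ((l.map fun a => P.reflection a).prod v) - v ∈ _
    set w := (l.map fun a => P.reflection a).prod v
    have h : P.reflection a w - v = (w - v) - P.coroot' a w • P.root a := by
      rw [RootPairing.reflection_apply]; abel
    rw [h]
    exact Submodule.sub_mem _ ih (Submodule.smul_mem _ _ (Submodule.subset_span (Set.mem_range_self a)))

/-- A word of reflections fixing every root is trivial. -/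
theorem word_eq_id (l : List κ) (h : ∀ c, (l.map fun a => P.reflection a).prod (P.root c) = P.root c) (v : M) :
    (l.map fun a => P.reflection a).prod v = v := by
  have := Fintype.ofFinite κ
  refine sub_eq_zero.1 (P.eq_zero_of_mem_rootSpan_of_rootForm_self_eq_zero (word_sub_mem P l v) ?_)
  rw [RootPairing.rootForm_apply_apply]
  refine Finset.sum_eq_zero fun c _ => ?_
  obtain ⟨c', h1, h2⟩ := word_coroot P l c
  rw [h c] at h1
  rw [P.root.injective h1, map_sub, h2, ← P.root.injective h1, sub_self, mul_zero]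

end Roots

variable {S : Scheme.{u}} {G : Over S} [GrpObj G]

theorem isMonHom_conj (g : 𝟙_ (Over S) ⟶ G) :
    IsMonHom ((toUnit G ≫ g) * 𝟙 G * (toUnit G ≫ g)⁻¹) := by
  have key : ∀ {Z : Over S} (x : Z ⟶ G), x ≫ ((toUnit G ≫ g) * 𝟙 G * (toUnit G ≫ g)⁻¹) =
      (toUnit Z ≫ g) * x * (toUnit Z ≫ g)⁻¹ := fun {Z} x => by
    rw [MonObj.comp_mul, MonObj.comp_mul, GrpObj.comp_inv, ← Category.assoc, toUnit_unique (x ≫ toUnit G) (toUnit Z),
      Category.comp_id]
  refine ⟨?_, ?_⟩
  · have : η[G] = (1 : 𝟙_ (Over S) ⟶ G) := MonObj.one_eq_one _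
    rw [this, key, _root_.mul_one, mul_inv_cancel]
  · have h1 := key μ[G]
    have h2 : μ[G] = fst G G * snd G G := by rw [Hom.mul_def, lift_fst_snd, Category.id_comp]
    rw [key, h2]
    set f := (toUnit G ≫ g) * 𝟙 G * (toUnit G ≫ g)⁻¹
    rw [← lift_fst_comp_snd_comp, ← h2, ← Hom.mul_def, key, key]
    rw [h2]
    group

variable (D : Red.Pinning G) (g : 𝟙_ (Over S) ⟶ G)
  (hT : ∀ (X : Over S) (t : X ⟶ D.T), ∃ t' : X ⟶ D.T, (toUnit X ≫ g) * (t ≫ D.i) * (toUnit X ≫ g)⁻¹ = t' ≫ D.i)
  (hu : ∀ a ∈ D.base.support, ∀ (X : Over S) (x : X ⟶ Red.Ga S),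
    (toUnit X ≫ g) * (x ≫ D.u a) * (toUnit X ≫ g)⁻¹ = x ≫ D.u a)

theorem comp_gX {X X' : Over S} (k : X' ⟶ X) : k ≫ toUnit X ≫ g = toUnit X' ≫ g := by
  rw [← Category.assoc, toUnit_unique (k ≫ toUnit X) (toUnit X')]

include hu in
theorem rootVal_conj [Nonempty S] (X : Over S) (t t' : X ⟶ D.T)
    (h : (toUnit X ≫ g) * (t ≫ D.i) * (toUnit X ≫ g)⁻¹ = t' ≫ D.i) (c : D.idx) :
    rootVal D.toSplitRed X c t' = rootVal D.toSplitRed X c t := by
  have hs : ∀ a ∈ D.base.support, rootVal D.toSplitRed X a t' = rootVal D.toSplitRed X a t := by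
    intro a ha
    obtain ⟨lam, hgen, hpos⟩ := exists_generic_pos D.toSplitRed a
    have hx : ∀ x : Γ(X.left, ⊤), (toUnit X ≫ g) * U D.toSplitRed X a x * (toUnit X ≫ g)⁻¹ = U D.toSplitRed X a x := fun x =>
      hu a ha X _
    refine Units.ext ((hasNormalForm D.toSplitRed).mono hgen hpos (X := X) ?_)
    have e1 : (toUnit X ≫ g) * (I D.toSplitRed X t * U D.toSplitRed X a 1 * (I D.toSplitRed X t)⁻¹) * (toUnit X ≫ g)⁻¹ =
        I D.toSplitRed X t' * U D.toSplitRed X a 1 * (I D.toSplitRed X t')⁻¹ := by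
      show _ = (t' ≫ D.i) * U D.toSplitRed X a 1 * (t' ≫ D.i)⁻¹
      rw [← h]
      conv_rhs => rw [← hx 1]
      show (toUnit X ≫ g) * ((t ≫ D.i) * U D.toSplitRed X a 1 * (t ≫ D.i)⁻¹) * (toUnit X ≫ g)⁻¹ = _
      group
    rw [conj_U, conj_U, hx, _root_.mul_one, _root_.mul_one] at e1
    exact e1.symm
  let F : Set D.M := {v | dsVal (t' ≫ D.split.hom.hom.hom) v = dsVal (t ≫ D.split.hom.hom.hom) v}
  have hzero : (0 : D.M) ∈ F := by simp only [F, Set.mem_setOf_eq, dsVal_zero]
  have hadd : ∀ v w, v ∈ F → w ∈ F → v + w ∈ F := fun v w hv hw => by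
    simp only [F, Set.mem_setOf_eq, dsVal_add] at hv hw ⊢
    rw [hv, hw]
  have hneg : ∀ v, v ∈ F → -v ∈ F := fun v hv => by
    simp only [F, Set.mem_setOf_eq] at hv ⊢
    have e1 := (dsVal_add (t' ≫ D.split.hom.hom.hom) (-v) v).symm.trans (by rw [neg_add_cancel, dsVal_zero])
    have e2 := (dsVal_add (t ≫ D.split.hom.hom.hom) (-v) v).symm.trans (by rw [neg_add_cancel, dsVal_zero])
    rw [hv] at e1
    exact left_inv_eq_right_inv e1 (by rw [_root_.mul_comm]; exact e2)
  let A : AddSubgroup D.M := { carrier := F, zero_mem' := hzero, add_mem' := fun {v w} => hadd v w, neg_mem' := fun {v} => hneg v }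
  suffices hc : D.P.root c ∈ A from Units.ext (by rw [rootVal_apply, rootVal_apply]; exact hc)
  obtain ⟨f, -, -, hf⟩ := D.base.exists_root_eq_sum_int c
  rw [hf]
  refine A.sum_mem fun a ha => A.zsmul_mem ?_ _
  show dsVal _ _ = dsVal _ _
  rw [← rootVal_apply D.toSplitRed, ← rootVal_apply D.toSplitRed, hs a ha]

include hT hu in
/-- The element is a point of the torus. -/
theorem exists_torus_of_inner [Nonempty S] : ∃ t₀ : 𝟙_ (Over S) ⟶ D.T, g = t₀ ≫ D.i := by
  classical
  let e (R : Set D.idx) : Fin (Set.toFinset R).card → D.idx := fun k => ((Set.toFinset R).equivFin.symm k : D.idx)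
  have he : ∀ R, RedSub.Enumerates R (e R) := fun R => ⟨Subtype.val_injective.comp (Equiv.injective _), by
    ext x
    simp only [Set.mem_range, e]
    exact ⟨fun ⟨k, hk⟩ => hk ▸ Set.mem_toFinset.mp ((Set.toFinset R).equivFin.symm k).2,
      fun hx => ⟨(Set.toFinset R).equivFin ⟨x, Set.mem_toFinset.mpr hx⟩, by simp⟩⟩⟩
  set c := RedSub.cellMap D.toSplitRed (e (RedSub.negRoots D.P D.base)) (e (RedSub.posRoots D.P D.base))
  haveI : IsOpenImmersion c.left :=
    BigCell29.isOpenImmersion_cellMap D.toSplitRed D.base (he (RedSub.negRoots D.P D.base)) (he (RedSub.posRoots D.P D.base))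
  haveI : IsMonHom D.i := D.maximalTorus.1
  have hrange : Set.range g.left.base ⊆ Set.range c.left.base := by
    rintro _ ⟨s₀, rfl⟩
    let s : S := s₀
    let K := AlgebraicClosure (S.residueField s)
    let f := Red.geomPt s
    let X := tObj f K
    haveI : Nonempty X.left := inferInstanceAs (Nonempty (PrimeSpectrum K))
    haveI : PreconnectedSpace X.left := inferInstanceAs (PreconnectedSpace (PrimeSpectrum K))
    haveI : ConnectedSpace X.left := ⟨inferInstance⟩
    have hg' : ∀ (X' : Over S) (y : X' ⟶ X) (t : X' ⟶ D.T), ∃ t' : X' ⟶ D.T,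
        (y ≫ toUnit X ≫ g) * (t ≫ D.i) * (y ≫ toUnit X ≫ g)⁻¹ = t' ≫ D.i := fun X' y t => by
      rw [comp_gX]; exact hT X' t
    obtain ⟨l, hl⟩ := exists_word_of_normalizing D.toSplitRed X (toUnit X ≫ g) hg'
    have hroot : ∀ r, wordMap D.toSplitRed l (D.P.root r) = D.P.root r := by
      intro r
      let Y := tObj f K[D.M]
      let y : Y ⟶ X := tMap f (Algebra.ofId K K[D.M])
      let t := chPt f (univChar K D.M) ≫ D.split.inv.hom.hom
      obtain ⟨t', ht'⟩ := hT Y t
      have e1 := hl Y y t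
      rw [comp_gX, ht'] at e1
      have hid : D.split.inv.hom.hom ≫ D.split.hom.hom.hom = 𝟙 _ := congrArg (fun k => k.hom.hom) D.split.inv_hom_id
      haveI : Mono D.i := D.maximalTorus.2.1
      have e2 : t' = t ≫ D.split.hom.hom.hom ≫ Red.DSmap S (wordMap D.toSplitRed l) ≫ D.split.inv.hom.hom := by
        rw [← cancel_mono D.i]
        simpa only [actT, Category.assoc] using e1
      have e3 := congrArg Units.val (rootVal_conj D g hu Y t t' ht' r)
      rw [rootVal_apply, rootVal_apply, e2] at e3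
      simp only [t, Category.assoc, hid, reassoc_of% hid, Category.comp_id] at e3
      rw [dsVal_map, ← gmFn_chi, ← gmFn_chi, gmFn_chPt_chi, gmFn_chPt_chi] at e3
      have e4 := (tVal f K[D.M]).symm.injective e3
      simp only [univChar, AddMonoidAlgebra.of_apply] at e4
      exact AddMonoidAlgebra.single_left_injective (M := D.M) (R := K) one_ne_zero e4
    have hid' : D.split.hom.hom.hom ≫ D.split.inv.hom.hom = 𝟙 _ := congrArg (fun k => k.hom.hom) D.split.hom_inv_id
    have hcomm : ∀ t : X ⟶ D.T, (toUnit X ≫ g) * I D.toSplitRed X t = I D.toSplitRed X t * (toUnit X ≫ g) := fun t => by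
      have e1 := hl X (𝟙 X) t
      rw [Category.id_comp] at e1
      have e2 : t ≫ D.split.hom.hom.hom ≫ Red.DSmap S (wordMap D.toSplitRed l) = t ≫ D.split.hom.hom.hom := by
        refine ds_ext fun m => ?_
        rw [← Category.assoc, dsVal_map]
        exact congrArg _ (word_eq_id D.P l hroot m)
      rw [← mul_inv_eq_iff_eq_mul]
      refine e1.trans ?_
      show t ≫ D.split.hom.hom.hom ≫ Red.DSmap S (wordMap D.toSplitRed l) ≫ D.split.inv.hom.hom ≫ D.i = t ≫ D.i
      have := congrArg (· ≫ D.split.inv.hom.hom ≫ D.i) e2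
      simp only [Category.assoc, reassoc_of% hid'] at this
      exact this
    obtain ⟨t₁, ht₁⟩ := (geom_pts D.toSplitRed s).2.1 _ hcomm
    let z : X ⟶ RedSub.pow (Red.Ga S) _ ⊗ (D.T ⊗ RedSub.pow (Red.Ga S) _) :=
      lift (toUnit X ≫ powOne (Set.toFinset (RedSub.negRoots D.P D.base)).card)
        (lift t₁ (toUnit X ≫ powOne (Set.toFinset (RedSub.posRoots D.P D.base)).card))
    have hz : z ≫ c = toUnit X ≫ g := by
      rw [ht₁]
      show z ≫ RedSub.cellMap D.toSplitRed _ _ = _
      rw [RedSub.cellMap, MonObj.comp_mul, MonObj.comp_mul, lift_fst_assoc, lift_snd_assoc, lift_fst_assoc,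
        lift_snd_assoc, lift_snd_assoc, Category.assoc, Category.assoc, powOne_prodMap _ _ (fun k => (D.rootHom _).1),
        powOne_prodMap _ _ (fun k => (D.rootHom _).1), MonObj.comp_one, _root_.one_mul, _root_.mul_one]
      rfl
    let p : X.left := IsLocalRing.closedPoint K
    refine ⟨z.left.base p, ?_⟩
    show (z ≫ c).left.base p = _
    rw [hz]
    show g.left.base ((toUnit X).left.base p) = _
    congr 1
    have e : (toUnit X).left = X.hom := by
      have h := Over.w (toUnit X)
      exact (Category.comp_id _).symm.trans h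
    rw [e]
    show (Red.geomPt s).base ((Spec.map (CommRingCat.ofHom (algebraMap K K))).base p) = s
    rw [Scheme.Hom.comp_apply]
    exact Scheme.fromSpecResidueField_apply s _
  let z : 𝟙_ (Over S) ⟶ _ := Over.homMk (IsOpenImmersion.lift c.left g.left hrange) (by
    rw [← Over.w c, ← Category.assoc, IsOpenImmersion.lift_fac]; exact Over.w g)
  have hz : z ≫ c = g := Over.OverMorphism.ext (IsOpenImmersion.lift_fac _ _ _)
  refine ⟨z ≫ snd _ _ ≫ fst _ _, ?_⟩
  rw [← hz]
  refine Groth.Agent.S5509.result D.toSplitRed D.base _ _ (he _) (he _) _ z fun X' y t => ?_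
  show ∃ t', (y ≫ z ≫ c) * _ * (y ≫ z ≫ c)⁻¹ = _
  rw [hz, toUnit_unique y (toUnit X')]
  exact hT X' t

include hT hu in
/-- An inner automorphism respecting the pinning is trivial. -/
theorem inner_trivial (X : Over S) (y : X ⟶ G) : (toUnit X ≫ g) * y * (toUnit X ≫ g)⁻¹ = y := by
  rcases isEmpty_or_nonempty S with hS | hS
  · haveI : IsEmpty X.left := Function.isEmpty X.hom.base
    exact Over.OverMorphism.ext (isInitialOfIsEmpty.hom_ext _ _)
  obtain ⟨t₀, ht₀⟩ := exists_torus_of_inner D g hT hu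
  haveI : IsMonHom D.i := D.maximalTorus.1
  let f : G ⟶ G := (toUnit G ≫ g) * 𝟙 G * (toUnit G ≫ g)⁻¹
  haveI : IsMonHom f := isMonHom_conj g
  have hgX : ∀ Z : Over S, toUnit Z ≫ g = I D.toSplitRed Z (toUnit Z ≫ t₀) := fun Z => by
    rw [ht₀, ← Category.assoc]; rfl
  have key : ∀ {Z : Over S} (x : Z ⟶ G), x ≫ f = (toUnit Z ≫ g) * x * (toUnit Z ≫ g)⁻¹ := fun {Z} x => by
    rw [MonObj.comp_mul, MonObj.comp_mul, GrpObj.comp_inv, ← Category.assoc, toUnit_unique (x ≫ toUnit G) (toUnit Z),
      Category.comp_id]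
  have hall : ∀ (Z : Over S) (c : D.idx), rootVal D.toSplitRed Z c (toUnit Z ≫ t₀) = 1 := by
    intro Z c
    have hs : ∀ a ∈ D.base.support, rootVal D.toSplitRed Z a (toUnit Z ≫ t₀) = 1 := fun a ha => by
      obtain ⟨lam, hgen, hpos⟩ := exists_generic_pos D.toSplitRed a
      refine Units.ext ((hasNormalForm D.toSplitRed).mono hgen hpos (X := Z) ?_)
      have e := hu a ha Z (GaPts.ptOfFn 1)
      rw [hgX] at e
      have e' : U D.toSplitRed Z a ((rootVal D.toSplitRed Z a (toUnit Z ≫ t₀) : Γ(Z.left, ⊤)) * 1) = U D.toSplitRed Z a 1 := (conj_U D.toSplitRed a _ 1).symm.trans e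
      rwa [_root_.mul_one] at e'
    let A : AddSubgroup D.M :=
      { carrier := {v | dsVal ((toUnit Z ≫ t₀) ≫ D.split.hom.hom.hom) v = 1}
        zero_mem' := dsVal_zero _
        add_mem' := fun {v w} hv hw => by
          show dsVal _ (v + w) = 1
          rw [dsVal_add, hv, hw, _root_.one_mul]
        neg_mem' := fun {v} hv => by
          show dsVal _ (-v) = 1
          have e := dsVal_add ((toUnit Z ≫ t₀) ≫ D.split.hom.hom.hom) (-v) v
          rw [neg_add_cancel, dsVal_zero, hv, _root_.mul_one] at e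
          exact e.symm }
    suffices hc : D.P.root c ∈ A from Units.ext (by rw [rootVal_apply]; exact hc)
    obtain ⟨f', -, -, hf⟩ := D.base.exists_root_eq_sum_int c
    rw [hf]
    refine A.sum_mem fun a ha => A.zsmul_mem ?_ _
    show dsVal _ _ = 1
    rw [← rootVal_apply D.toSplitRed, hs a ha]; rfl
  have hf : f = 𝟙 G := by
    refine hom_ext_roots D.toSplitRed D.base f (𝟙 G) ?_ fun c => ?_
    · rw [key, Category.comp_id, hgX]
      have hii : D.i = I D.toSplitRed D.T (𝟙 D.T) := (Category.id_comp _).symm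
      conv_lhs => rw [hii]
      rw [I_comm, mul_inv_cancel_right, ← hii]
    · have hid : D.u c = U D.toSplitRed (Red.Ga S) c (Red.gaFn (𝟙 (Red.Ga S))) := by
        rw [← pt_comp_eq, Category.id_comp]
      rw [key, Category.comp_id, hgX]
      conv_lhs => rw [hid]
      rw [conj_U, hall, Units.val_one, _root_.one_mul, ← hid]
  rw [← key, hf, Category.comp_id]

end Groth.Agent.Rank2Red38
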