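import Mathlib.LinearAlgebra.RootSystem.Base
import Mathlib.Algebra.BigOperators.Group.Finset.Basic

/-! The sum of the positive coroots of a based root pairing over the integers takes the value two on every
simple root. -/

set_option autoImplicit false

open scoped Classical

namespace Groth.Agent.Rank2Red38

variable {ι M N : Type*} [Fintype ι] [AddCommGroup M] [AddCommGroup N] [IsAddTorsionFree M]
  [IsAddTorsionFree N] {P : RootPairing ι ℤ M N} (b : P.Base)

/-- A positive root distinct from a simple root stays positive under its reflection. -/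
theorem isPos_reflectionPerm {α c : ι} (hα : α ∈ b.support) (hc : b.IsPos c) (hne : c ≠ α) :
    b.IsPos (P.reflectionPerm α c) := by
  obtain ⟨f, hf₀, hf₁, hf₂⟩ := b.exists_root_eq_sum_int c
  replace hf₁ : 0 < f := by
    refine hf₁.resolve_right fun h => ?_
    rw [RootPairing.Base.isPos_iff, RootPairing.Base.height_eq_sum hf₂] at hc
    exact absurd hc (not_lt.mpr (Finset.sum_nonpos fun i _ => h.le i))
  obtain ⟨k, hk, hkα⟩ : ∃ k ∈ b.support, k ≠ α ∧ f k ≠ 0 := by
    by_contra! h
    have e : P.root c = f α • P.root α := by
      rw [hf₂, Finset.sum_eq_single_of_mem α hα fun k hk hkα => by simp [h k hk hkα]]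
    rcases b.eq_one_or_neg_one_of_mem_support_of_smul_mem α hα (f α) ⟨c, e⟩ with h1 | h1
    · rw [h1, one_smul] at e; exact hne (P.root.injective e)
    · have := hf₁.le α; rw [h1] at this; simp at this
  let g : ι → ℤ := f - Pi.single α (P.pairing c α)
  have hg₂ : P.root (P.reflectionPerm α c) = ∑ j ∈ b.support, g j • P.root j := by
    rw [RootPairing.root_reflectionPerm, RootPairing.reflection_apply_root]
    simp only [g, Pi.sub_apply, sub_smul, Finset.sum_sub_distrib, ← hf₂]
    rw [Finset.sum_eq_single_of_mem α hα fun j _ hj => by simp [hj]]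
    simp
  have hg₀ : g.support ⊆ b.support := fun j hj => by
    by_cases e : j = α
    · exact e ▸ hα
    · exact hf₀ (by simpa [g, e] using hj)
  have hg₁ : 0 < g := (b.pos_or_neg_of_sum_smul_root_mem g ⟨_, hg₂⟩ hg₀).resolve_right fun h => by
    have h1 : g k = f k := by simp [g, hkα.1]
    exact hkα.2 (le_antisymm (h1 ▸ h.le k) (hf₁.le k))
  rw [RootPairing.Base.isPos_iff', RootPairing.Base.height_eq_sum hg₂]
  exact Finset.sum_nonneg fun i _ => hg₁.le i

/-- The sum of the positive coroots, evaluated on a simple root. -/
theorem sum_pos_pairing {α : ι} (hα : α ∈ b.support) :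
    ∑ d with b.IsPos d, P.pairing α d = 2 := by
  rw [← Finset.add_sum_erase _ _ (Finset.mem_filter.mpr ⟨Finset.mem_univ α, b.isPos_of_mem_support hα⟩),
    RootPairing.pairing_same, add_eq_left]
  refine Finset.sum_involution (fun d _ => P.reflectionPerm α d) ?_ ?_ ?_ ?_
  · intro d _
    rw [RootPairing.pairing_reflectionPerm, RootPairing.pairing_reflectionPerm_self_left, add_neg_cancel]
  · intro d _ hd h
    have h1 := congrArg (P.pairing α) h
    rw [RootPairing.pairing_reflectionPerm, RootPairing.pairing_reflectionPerm_self_left] at h1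
    exact hd (by omega)
  · intro d hd
    simp only [Finset.mem_erase, Finset.mem_filter, Finset.mem_univ, true_and] at hd ⊢
    refine ⟨fun e => ?_, isPos_reflectionPerm b hα hd.2 hd.1⟩
    letI := P.indexNeg
    have hd' : d = -α := by
      have := congrArg (P.reflectionPerm α) e
      rwa [RootPairing.reflectionPerm_self] at this
    have h2 := hd.2
    rw [hd', RootPairing.Base.IsPos.neg_iff_not] at h2
    exact h2 (b.isPos_of_mem_support hα)
  · intro d _; rw [RootPairing.reflectionPerm_self]

end Groth.Agent.Rank2Red38
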