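import Groth.Agent.Rank2Red38.Frame
import Groth.Agent.Rank2Red38.AlgA2B2

/-! Systems of type A2. -/

set_option autoImplicit false

universe u

open CategoryTheory CategoryTheory.Limits AlgebraicGeometry MonoidalCategory CartesianMonoidalCategory
open scoped MonObj

noncomputable section

namespace Groth.Agent.Rank2Red38

open GrpSchLib

variable {S : Scheme.{u}} {G : Over S} [GrpObj G] {D : Red.SplitRed G}

/-- The positive roots of A2. -/
abbrev posA2 : List (ℤ × ℤ) := [(1, 0), (0, 1), (1, 1)]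

namespace Frame

variable {s : Sys2 D} (fr : Frame s) (X : Over S)

/-- The subgroup of the sum of the two roots. -/
def mSub (x : Γ(X.left, ⊤)) : X ⟶ G := W D X fr.cb * fr.V X (1, 0) x * (W D X fr.cb)⁻¹

variable (N : HasNormalForm D) (hs : s.pos = posA2) (hba : D.P.pairing s.b s.a = -1)
  (hab : D.P.pairing s.a s.b = -1)
include N hs hba hab

theorem A2_relations : (∀ x y, fr.V X (0, 1) y * fr.V X (1, 0) x = fr.V X (1, 0) x * fr.V X (0, 1) y * fr.mSub X (x * y)) ∧
    ∀ x, W D X fr.ca * fr.V X (0, 1) x * (W D X fr.ca)⁻¹ = fr.mSub X (-x) := by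
  have sa := s.side_a hba
  have sb := s.side_b hab
  have si := s.side_id
  have hin : ∀ p, p ∈ posA2 → InSys s.pos p := fun p hp => Or.inl (hs ▸ hp)
  have r10 : Red1 D (s.r (1, 0)) := s.red1 (hin _ (by decide)) (by rw [hs]; root_red)
  have r01 : Red1 D (s.r (0, 1)) := s.red1 (hin _ (by decide)) (by rw [hs]; root_red)
  have r11 : Red1 D (s.r (1, 1)) := s.red1 (hin _ (by decide)) (by rw [hs]; root_red)
  have fb : D.P.reflection fr.cb (s.vec (1, 0)) = s.vec (1, 1) := by
    rw [fr.refl_b]; simp [Sys2.vec, RootPairing.reflection_apply_root, hab]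
  have fa : D.P.reflection fr.ca (s.vec (0, 1)) = s.vec (1, 1) := by
    rw [fr.refl_a]; simp [Sys2.vec, RootPairing.reflection_apply_root, hba, add_comm]
  obtain ⟨k, hku, hk⟩ := s.weyl_conj N fr.dual_b (hin _ (by decide)) (hin _ (by decide)) fb si si
    (by decide) (by decide) r10 r11
  obtain ⟨ka, -, hka⟩ := s.weyl_conj N fr.dual_a (hin _ (by decide)) (hin _ (by decide)) fa si si
    (by decide) (by decide) r01 r11
  obtain ⟨K', hK'⟩ : ∃ K', K' * (glob X k * (fr.σ : Γ(X.left, ⊤))) = 1 :=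
    ((hku X).mul (fr.isUnit_σ X)).exists_left_inv
  set K : Γ(X.left, ⊤) := glob X k * (fr.σ : Γ(X.left, ⊤)) with hKdef
  have hm : ∀ x, fr.mSub X x = s.V X (1, 1) (K * x) := fun x => by
    rw [mSub, Frame.V, hk, hKdef, mul_assoc]
  have hm' : ∀ z, s.V X (1, 1) z = fr.mSub X (K' * z) := fun z => by
    rw [hm, ← mul_assoc, mul_comm K, hK', one_mul]
  have hcomm : ∀ p q, InSys s.pos p → InSys s.pos q → Pos2 p → Pos2 q → [p, q].Nodup →
      (∀ i j : ℕ, InSys s.pos (i • p + j • q) →
        (i • p + j • q = q ∧ i = 0 ∧ j = 1) ∨ (i • p + j • q = p ∧ i = 1 ∧ j = 0)) →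
      ∀ x y, s.V X q y * s.V X p x = s.V X p x * s.V X q y := fun p q hp hq hp' hq' hd h x y => by
    obtain ⟨C, hC⟩ := s.comm_form N si p q hp hq hp' hq' [] (fun _ => (0, 0)) (by simp) hd
      (fun i j hij => (h i j hij).imp_right Or.inl) (by simp)
    simpa [Sys2.prodV] using hC X x y
  have c1 := hcomm (1, 0) (1, 1) (hin _ (by decide)) (hin _ (by decide)) (by decide) (by decide) (by decide)
    (by rw [hs]; root_comb)
  have c2 := hcomm (0, 1) (1, 1) (hin _ (by decide)) (hin _ (by decide)) (by decide) (by decide) (by decide)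
    (by rw [hs]; root_comb)
  obtain ⟨Cba, hCba⟩ := s.comm_form N si (1, 0) (0, 1) (hin _ (by decide)) (hin _ (by decide)) (by decide)
    (by decide) [(1, 1)] (fun _ => (1, 1)) (by simp [hs, InSys, Pos2]) (by decide) (by rw [hs]; root_comb) (by decide)
  obtain ⟨Ca, hCa⟩ := s.comm_form N sb (1, 0) (0, -1) (hin _ (by decide)) (Or.inr (by rw [hs]; decide))
    (by decide) (by decide) [] (fun _ => (0, 0)) (by simp) (by decide) (by rw [hs]; root_comb) (by decide)
  obtain ⟨Cb, hCb⟩ := s.comm_form N sa (0, 1) (-1, 0) (hin _ (by decide)) (Or.inr (by rw [hs]; decide))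
    (by decide) (by decide) [] (fun _ => (0, 0)) (by simp) (by decide) (by rw [hs]; root_comb) (by decide)
  obtain ⟨Cn, hn1, hCn⟩ := s.conj_form N sb (1, 1) (0, -1) (hin _ (by decide)) (Or.inr (by rw [hs]; decide))
    (by decide) (by decide) [(1, 0), (1, 1)] (fun m => if m = (1, 1) then (1, 0) else (1, 1))
    (by simp [hs, InSys, Pos2]) (by decide) (by rw [hs]; root_comb) (by decide) (by decide)
  obtain ⟨Cn', hn1', hCn'⟩ := s.conj_form N sa (1, 1) (-1, 0) (hin _ (by decide)) (Or.inr (by rw [hs]; decide))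
    (by decide) (by decide) [(0, 1), (1, 1)] (fun m => if m = (1, 1) then (1, 0) else (1, 1))
    (by simp [hs, InSys, Pos2]) (by decide) (by rw [hs]; root_comb) (by decide) (by decide)
  simp only [Sys2.prodV, List.map_nil, List.prod_nil, mul_one] at hCa hCb
  simp only [Sys2.prodV, List.map_cons, List.map_nil, List.prod_cons, List.prod_nil, mul_one, pow_one] at hCba hCn hCn'
  simp only [hn1, hn1', if_true, if_false, show ((1 : ℤ), (0 : ℤ)) ≠ (1, 1) by decide,
    show ((0 : ℤ), (1 : ℤ)) ≠ (1, 1) by decide, pow_one, pow_zero, mul_one, one_mul] at hCn hCn'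
  have hσ := fr.σ_mul X
  have DA : A2.Data (fr.V X (1, 0)) (fr.V X (-1, 0)) (fr.V X (0, 1)) (fr.V X (0, -1)) (fr.mSub X)
      (K' * glob X (Cba (1, 1))) (glob X (Cn (1, 0)) * K) := by
    refine ⟨fr.V_oneParam X _, fr.V_oneParam X _, fr.V_oneParam X _, fr.V_oneParam X _, ?_, ?_, ?_, ?_, ?_, ?_,
      ?_, ?_, ?_⟩
    · intro x y; simp only [hm, mul_add]; exact s.V_oneParam X _ _ _
    · intro x; rw [mSub, show weylElt (fr.V X (0, 1)) (fr.V X (0, -1)) = W D X fr.cb from fr.weyl_b X]
    · intro x y; simp only [hm, Frame.V]; exact (c1 _ _).symm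
    · intro x y; simp only [hm, Frame.V]; exact (c2 _ _).symm
    · intro x y; exact (hCa X _ _).symm
    · intro x y; exact (hCb X _ _).symm
    · intro x y
      simp only [Frame.V]
      rw [hCba, hm']
      congr 2
      linear_combination K' * glob X (Cba (1, 1)) * x * y * hσ
    · intro z
      simp only [Frame.V, mul_one, hm]
      rw [hCn]
      congr 2
      ring
    · intro x y x' y' h
      simp only [Frame.V, hm] at h
      have := s.inj N si [(1, 0), (1, 1)] (by simp [hs, InSys, Pos2]) (by decide) X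
        (fun m => if m = (1, 0) then (fr.σ : Γ(X.left, ⊤)) * x else K * y)
        (fun m => if m = (1, 0) then (fr.σ : Γ(X.left, ⊤)) * x' else K * y') (by simpa [Sys2.prodV] using h)
      refine ⟨(fr.isUnit_σ X).mul_left_cancel (by simpa using this (1, 0) (by simp)), ?_⟩
      exact ((hku X).mul (fr.isUnit_σ X)).mul_left_cancel (by simpa using this (1, 1) (by simp))
  refine ⟨DA.commutator, fun x => ?_⟩
  have hk' : ∀ x, weylElt (fr.V X (1, 0)) (fr.V X (-1, 0)) * fr.V X (0, 1) x *
      (weylElt (fr.V X (1, 0)) (fr.V X (-1, 0)))⁻¹ = fr.mSub X (K' * glob X ka * fr.σ * x) := fun x => by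
    rw [show weylElt (fr.V X (1, 0)) (fr.V X (-1, 0)) = W D X fr.ca from fr.weyl_a X, Frame.V, hka, hm']
    congr 1; ring
  have := DA.wa_b (fr.σ * glob X (Cn' (0, 1)) * fr.σ * K) (fun z => by
      simp only [Frame.V, mul_one, hm]
      rw [hCn']
      congr 2
      linear_combination -(glob X (Cn' (0, 1)) * K * z * (fr.σ : Γ(X.left, ⊤))) * hσ)
    (fun x y x' y' h => by
      simp only [Frame.V, hm] at h
      have := s.inj N si [(0, 1), (1, 1)] (by simp [hs, InSys, Pos2]) (by decide) X
        (fun m => if m = (0, 1) then (fr.σ : Γ(X.left, ⊤)) * x else K * y)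
        (fun m => if m = (0, 1) then (fr.σ : Γ(X.left, ⊤)) * x' else K * y') (by simpa [Sys2.prodV] using h)
      exact ⟨(fr.isUnit_σ X).mul_left_cancel (by simpa using this (0, 1) (by simp)),
        ((hku X).mul (fr.isUnit_σ X)).mul_left_cancel (by simpa using this (1, 1) (by simp))⟩) _ hk'
  rw [← show weylElt (fr.V X (1, 0)) (fr.V X (-1, 0)) = W D X fr.ca from fr.weyl_a X, hk', this, neg_one_mul]

end Frame

end Groth.Agent.Rank2Red38
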