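import Groth.Agent.Rank2Red38.Frame
import Groth.Agent.Rank2Red38.SysA2
import Mathlib.RingTheory.Finiteness.Projective

/-! The rank-two systems of two simple roots of a pinned group. -/

set_option autoImplicit false

universe u

open CategoryTheory CategoryTheory.Limits AlgebraicGeometry MonoidalCategory CartesianMonoidalCategory
open scoped MonObj Classical

noncomputable section

namespace Groth.Agent.Rank2Red38

open GrpSchLib

variable {S : Scheme.{u}} {G : Over S} [GrpObj G] (D : Red.Pinning G)

instance isAddTorsionFree_M : IsAddTorsionFree D.M := .of_isTorsionFree ℤ D.M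

instance isAddTorsionFree_dual : IsAddTorsionFree (Module.Dual ℤ D.M) := .of_isTorsionFree ℤ _

/-- The sum of the positive coroots. -/
def twoRho : Module.Dual ℤ D.M := ∑ d with D.base.IsPos d, D.P.coroot d

theorem twoRho_root {α : D.idx} (hα : α ∈ D.base.support) : twoRho D (D.P.root α) = 2 := by
  rw [← sum_pos_pairing D.base hα, twoRho, LinearMap.sum_apply]
  refine Finset.sum_congr rfl fun d _ => ?_
  rw [← D.P.root_coroot_eq_pairing, D.pairing_eq]
  rfl

theorem twoRho_height (c : D.idx) : twoRho D (D.P.root c) = 2 * D.base.height c := by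
  obtain ⟨f, -, -, hf⟩ := D.base.exists_root_eq_sum_int c
  rw [RootPairing.Base.height_eq_sum hf, hf, map_sum, Finset.mul_sum]
  exact Finset.sum_congr rfl fun j hj => by rw [map_zsmul, twoRho_root D hj, smul_eq_mul, mul_comm]

theorem isGeneric_twoRho : IsGeneric D.toSplitRed (twoRho D) := fun c => by
  show twoRho D (D.P.root c) ≠ 0
  rw [twoRho_height]
  exact mul_ne_zero two_ne_zero (D.base.height_ne_zero c)

variable {D}
variable {a b : D.idx} (ha : a ∈ D.base.support) (hb : b ∈ D.base.support) (hne : a ≠ b)

include ha hb hne in
theorem indep_of_simple (i j : ℤ) (h : i • D.P.root a + j • D.P.root b = 0) : i = 0 ∧ j = 0 := by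
  have h1 : LinearIndependent ℤ (D.P.root ∘ ((↑) : ({a, b} : Set D.idx) → D.idx)) :=
    (D.base.linearIndepOn_root.mono (by simp [Set.insert_subset_iff, ha, hb]))
  have h2 := LinearIndependent.pair_iff.mp (h1.comp ![(⟨a, by simp⟩ : ({a, b} : Set D.idx)), ⟨b, by simp⟩] (by
    intro x y hxy
    fin_cases x <;> fin_cases y <;> simp_all [hne.symm]) |> fun h => (by
      convert h using 1
      funext k; fin_cases k <;> rfl : LinearIndependent ℤ ![D.P.root a, D.P.root b]))
  exact h2 i j h

/-- The system of two simple roots, from a complete list of its positive roots. -/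
def pinnedSys (pos : List (ℤ × ℤ)) (hpos : ∀ p ∈ pos, IsComb D.P a b p.1 p.2)
    (hall : ∀ i j : ℤ, 0 < i → 0 < j → IsComb D.P a b i j → (i, j) ∈ pos)
    (h10 : (1, 0) ∈ pos) (h01 : (0, 1) ∈ pos) : Sys2 D.toSplitRed where
  a := a
  b := b
  pos := pos
  lam := twoRho D
  generic := isGeneric_twoRho D
  lam_a := by show 0 < twoRho D (D.P.root a); rw [twoRho_root D ha]; norm_num
  lam_b := by show 0 < twoRho D (D.P.root b); rw [twoRho_root D hb]; norm_num
  indep := indep_of_simple ha hb hne
  isComb_iff := by
    have hneg : ∀ {i j : ℤ}, IsComb D.P a b i j → IsComb D.P a b (-i) (-j) := fun {i j} ⟨c, hc⟩ => by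
      refine ⟨D.P.reflectionPerm c c, ?_⟩
      rw [RootPairing.root_reflectionPerm, RootPairing.reflection_apply_self, hc]
      module
    refine fun i j => ⟨fun h => ?_, fun h => ?_⟩
    · rcases h.sign D.base ha hb hne with ⟨hi, hj⟩ | ⟨hi, hj⟩
      · left
        rcases hi.lt_or_eq with hi' | hi' <;> rcases hj.lt_or_eq with hj' | hj'
        · exact hall i j hi' hj' h
        · subst hj'; rcases h.left_eq D.base ha with rfl | rfl
          · exact h10
          · omega
        · subst hi'; rcases h.right_eq D.base hb with rfl | rfl
          · exact h01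
          · omega
        · subst hi' hj'
          exact absurd (by simpa [IsComb] using h) D.P.zero_notMem_range_root
      · right
        have h' := hneg h
        rcases hi.lt_or_eq with hi' | hi' <;> rcases hj.lt_or_eq with hj' | hj'
        · exact hall _ _ (by omega) (by omega) h'
        · subst hj'; rcases h.left_eq D.base ha with rfl | rfl
          · omega
          · simpa using h10
        · subst hi'; rcases h.right_eq D.base hb with rfl | rfl
          · omega
          · simpa using h01
        · subst hi' hj'
          exact absurd (by simpa [IsComb] using h) D.P.zero_notMem_range_root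
    · rcases h with h | h
      · exact hpos _ h
      · simpa using hneg (hpos _ h)

omit ha hb hne in
theorem isComb_gen : IsComb D.P a b 1 0 ∧ IsComb D.P a b 0 1 :=
  ⟨⟨a, by simp⟩, ⟨b, by simp⟩⟩

/-- The system of type A2. -/
def pinnedA2 (hba : D.P.pairing b a = -1) (hab : D.P.pairing a b = -1) : Sys2 D.toSplitRed :=
  pinnedSys ha hb hne posA2
    (by
      have h : IsComb D.P a b 1 1 := by simpa [hab] using (isComb_gen (D := D) (a := a) (b := b)).1.reflect_right
      simp only [List.forall_mem_cons, List.not_mem_nil, IsEmpty.forall_iff, implies_true, and_true]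
      exact ⟨isComb_gen.1, isComb_gen.2, h⟩)
    (fun i j hi hj h => by
      obtain ⟨rfl, rfl⟩ := comb_A2 D.base ha hb hne hi hj h hba hab
      decide)
    (by decide) (by decide)

end Groth.Agent.Rank2Red38
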