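import Groth.Agent.Rank2Red38.PinnedB2
import Groth.Agent.Rank2Red38.SysG2Rel

/-! Two orthogonal simple roots of a pinned group. -/

set_option autoImplicit false

universe u

open CategoryTheory CategoryTheory.Limits AlgebraicGeometry MonoidalCategory CartesianMonoidalCategory
open scoped MonObj

noncomputable section

namespace Groth.Agent.Rank2Red38

open GrpSchLib

variable {S : Scheme.{u}} {G : Over S} [GrpObj G] {D : Red.Pinning G} {a b : D.idx} (ha : a ∈ D.base.support)
  (hb : b ∈ D.base.support) (hne : a ≠ b)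

/-- The positive roots of A1 × A1. -/
abbrev posA1A1 : List (ℤ × ℤ) := [(1, 0), (0, 1)]

/-- The system of two orthogonal simple roots. -/
def pinnedA1A1 (hba : D.P.pairing b a = 0) : Sys2 D.toSplitRed :=
  pinnedSys ha hb hne posA1A1
    (by
      simp only [List.forall_mem_cons, List.not_mem_nil, IsEmpty.forall_iff, implies_true, and_true]
      exact ⟨isComb_gen.1, isComb_gen.2⟩)
    (fun i j hi hj h => by
      rcases comb_A1A1 D.base ha hb hne h hba with rfl | rfl <;> omega)
    (by decide) (by decide)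

theorem A1A1_weyl_commute (N : HasNormalForm D.toSplitRed) (ha : a ∈ D.base.support) (hb : b ∈ D.base.support)
    (hne : a ≠ b) (hba : D.P.pairing b a = 0) (hab : D.P.pairing a b = 0) (X : Over S) :
    Commute (W D.toSplitRed X a) (W D.toSplitRed X b) := by
  set s := pinnedA1A1 ha hb hne hba with hs
  have hin : ∀ p, p ∈ posA1A1 → InSys s.pos p := fun p hp => Or.inl hp
  have hneg : ∀ p : ℤ × ℤ, -p ∈ posA1A1 → InSys s.pos p := fun p hp => Or.inr hp
  have h1 : InSys s.pos (1, 0) := hin _ (by decide)
  have h2 : InSys s.pos (0, 1) := hin _ (by decide)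
  obtain ⟨r1, r2, r3, r4⟩ := s.r_gen h1 h2
  obtain ⟨q1, q2, q3, q4⟩ := s.negSys.r_gen h1 h2
  have c1 := s.comm_nil N s.side_id (1, 0) (0, 1) h1 h2 (by decide) (by decide) (by decide)
    (by rw [show s.pos = posA1A1 from rfl]; root_comb) X 1 1
  have c2 := s.comm_nil N (s.side_b (n := 0) hab) (1, 0) (0, -1) h1 (hneg _ (by decide)) (by decide) (by decide)
    (by decide) (by rw [show s.pos = posA1A1 from rfl]; root_comb) X 1 1
  have c3 := s.comm_nil N (s.side_a (n := 0) hba) (-1, 0) (0, 1) (hneg _ (by decide)) h2 (by decide) (by decide)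
    (by decide) (by rw [show s.pos = posA1A1 from rfl]; root_comb) X 1 1
  have c4 := s.negSys.comm_nil N s.negSys.side_id (1, 0) (0, 1) h1 h2 (by decide) (by decide) (by decide)
    (by rw [show s.negSys.pos = posA1A1 from rfl]; root_comb) X 1 1
  simp only [Sys2.V, r1, r2, r3, r4, q1, q2] at c1 c2 c3 c4
  exact weylElt_commute (weylElt_commute c1.symm c2.symm).symm (weylElt_commute c3.symm c4.symm).symm

theorem A1A1_coxeter (N : HasNormalForm D.toSplitRed) (ha : a ∈ D.base.support) (hb : b ∈ D.base.support)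
    (hne : a ≠ b) (hba : D.P.pairing b a = 0) (hab : D.P.pairing a b = 0) (hda : IsDual D.toSplitRed a)
    (hdb : IsDual D.toSplitRed b) (X : Over S) :
    (W D.toSplitRed X a * W D.toSplitRed X b) ^ 2 =
        I D.toSplitRed X (av D.toSplitRed X a (-1)) * I D.toSplitRed X (av D.toSplitRed X b (-1)) ∧
      (W D.toSplitRed X b * W D.toSplitRed X a) ^ 2 =
        I D.toSplitRed X (av D.toSplitRed X a (-1)) * I D.toSplitRed X (av D.toSplitRed X b (-1)) := by
  have h := A1A1_weyl_commute N ha hb hne hba hab X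
  rw [sq_commute h, sq_commute h.symm, W_sq D.toSplitRed hda, W_sq D.toSplitRed hdb]
  exact ⟨rfl, I_comm _ _ _⟩

end Groth.Agent.Rank2Red38
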