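import Groth.Agent.Rank2Red38.Pinned

/-! The relations of type A2 between two simple roots of a pinned group. -/

set_option autoImplicit false

universe u

open CategoryTheory CategoryTheory.Limits AlgebraicGeometry MonoidalCategory CartesianMonoidalCategory
open scoped MonObj

noncomputable section

namespace Groth.Agent.Rank2Red38

open GrpSchLib

variable {S : Scheme.{u}} {G : Over S} [GrpObj G]

theorem neg_neg_root {D : Red.SplitRed G} (a : D.idx) : neg' D (neg' D a) = a := neg'_neg' a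

namespace A2Pinned

variable {D : Red.Pinning G} (N : HasNormalForm D.toSplitRed) {a b : D.idx} (ha : a ∈ D.base.support)
  (hb : b ∈ D.base.support) (hne : a ≠ b) (hba : D.P.pairing b a = -1) (hab : D.P.pairing a b = -1)
  (hda : IsDual D.toSplitRed a) (hdb : IsDual D.toSplitRed b) (X : Over S)

local notation "u" => U D.toSplitRed X
local notation "n" => W D.toSplitRed X

theorem gens : let s := pinnedA2 ha hb hne hba hab
    InSys s.pos (1, 0) ∧ InSys s.pos (0, 1) := ⟨Or.inl (show (1, 0) ∈ posA2 by decide), Or.inl (show (0, 1) ∈ posA2 by decide)⟩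

include N ha hb hne hba hab hda hdb

theorem relations : (∀ x y, u b y * u a x = u a x * u b y * (n b * u a (x * y) * (n b)⁻¹)) ∧
    (∀ x, n a * u b x * (n a)⁻¹ = n b * u a (-x) * (n b)⁻¹) ∧
    (∀ x, n a * u (neg' D.toSplitRed b) x * (n a)⁻¹ = n b * u (neg' D.toSplitRed a) (-x) * (n b)⁻¹) := by
  obtain ⟨h1, h2⟩ := gens ha hb hne hba hab
  obtain ⟨r1, r2, -, -⟩ := Sys2.r_gen _ h1 h2
  obtain ⟨p1, p2⟩ := Frame.A2_relations (s := pinnedA2 ha hb hne hba hab)
    ((pinnedA2 ha hb hne hba hab).frame h1 h2 hda hdb) X N rfl hba hab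
  obtain ⟨q1, q2, -, -⟩ := Sys2.r_gen (pinnedA2 ha hb hne hba hab).negSys h1 h2
  have np : ∀ c d, D.P.pairing c d = -1 → D.P.pairing (neg' D.toSplitRed c) (neg' D.toSplitRed d) = -1 := fun c d h => by
    show D.P.pairing (D.P.reflectionPerm c c) (D.P.reflectionPerm d d) = -1
    rw [RootPairing.pairing_reflectionPerm_self_left, RootPairing.pairing_reflectionPerm_self_right, neg_neg, h]
  obtain ⟨-, p3⟩ := Frame.A2_relations (s := (pinnedA2 ha hb hne hba hab).negSys)
    ((pinnedA2 ha hb hne hba hab).negFrame h1 h2 hda hdb) X N rfl (np _ _ hba) (np _ _ hab)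
  have e1 : ∀ x, (pinnedA2 ha hb hne hba hab).V X (1, 0) x = u a x := fun x => by rw [Sys2.V, r1]; rfl
  have e2 : ∀ x, (pinnedA2 ha hb hne hba hab).V X (0, 1) x = u b x := fun x => by rw [Sys2.V, r2]; rfl
  have f1 : ∀ x, (pinnedA2 ha hb hne hba hab).negSys.V X (1, 0) x = u (neg' D.toSplitRed a) x := fun x => by
    rw [Sys2.V, q1]; rfl
  have f2 : ∀ x, (pinnedA2 ha hb hne hba hab).negSys.V X (0, 1) x = u (neg' D.toSplitRed b) x := fun x => by
    rw [Sys2.V, q2]; rfl
  simp only [Frame.V, Frame.mSub, Sys2.frame, Int.cast_one, one_mul, e1, e2] at p1 p2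
  simp only [Frame.V, Frame.mSub, Sys2.negFrame, Int.cast_neg, Int.cast_one, neg_one_mul, neg_neg, f1, f2] at p3
  exact ⟨p1, p2, fun x => by have h := p3 (-x); simp only [neg_neg] at h; exact h⟩

theorem coxeter : (n a * n b) ^ 3 = 1 ∧ (n b * n a) ^ 3 = 1 := by
  obtain ⟨-, p2, p3⟩ := relations N ha hb hne hba hab hda hdb X
  refine coxeter_A2 (W_sq D.toSplitRed hda) (W_sq D.toSplitRed hdb) (av_neg_one_mul_self _ a) (av_neg_one_mul_self _ b)
    (I_comm _ _ _) ?_ ?_ ?_
  · rw [W_conj_torus D.toSplitRed hda, rootVal_av, hab, map_mul, map_inv]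
    simp [inv_eq_of_mul_eq_one_left (av_neg_one_mul_self D.toSplitRed (X := X) a)]
  · rw [W_conj_torus D.toSplitRed hdb, rootVal_av, hba, map_mul, map_inv]
    simp [inv_eq_of_mul_eq_one_left (av_neg_one_mul_self D.toSplitRed (X := X) b)]
  · have h1 : n a * weylElt (u b) (u (neg' D.toSplitRed b)) * (n a)⁻¹ =
        weylElt (fun x => n b * u a (-x) * (n b)⁻¹) (fun x => n b * u (neg' D.toSplitRed a) (-x) * (n b)⁻¹) :=
      weylElt_conj_eq _ p2 p3
    have h2 : n b * (n a)⁻¹ * (n b)⁻¹ =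
        weylElt (fun x => n b * u a (-x) * (n b)⁻¹) (fun x => n b * u (neg' D.toSplitRed a) (-x) * (n b)⁻¹) := by
      have h3 : n b * weylElt (fun x => u a (-x)) (fun x => u (neg' D.toSplitRed a) (-x)) * (n b)⁻¹ =
          weylElt (fun x => n b * u a (-x) * (n b)⁻¹) (fun x => n b * u (neg' D.toSplitRed a) (-x) * (n b)⁻¹) :=
        weylElt_conj_eq _ (fun _ => rfl) (fun _ => rfl)
      rw [← h3, weylElt_neg (U_oneParam _ a) (U_oneParam _ _)]
      rfl
    rw [h2, ← h1]
    rfl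

theorem weyl_conj (x : Γ(X.left, ⊤)) :
    n a * u b x * (n a)⁻¹ = n b * u a (-x) * (n b)⁻¹ ∧
    n a * (n b * u a x * (n b)⁻¹) * (n a)⁻¹ = u b x ∧
    n b * (n b * u a x * (n b)⁻¹) * (n b)⁻¹ = u a (-x) := by
  obtain ⟨-, p2, -⟩ := relations N ha hb hne hba hab hda hdb X
  refine ⟨p2 x, ?_, ?_⟩
  · have h : n b * u a x * (n b)⁻¹ = n a * u b (-x) * (n a)⁻¹ := by rw [p2, neg_neg]
    rw [h, show n a * (n a * u b (-x) * (n a)⁻¹) * (n a)⁻¹ = n a ^ 2 * u b (-x) * (n a ^ 2)⁻¹ by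
      rw [pow_two]; group, W_sq_conj _ hda, hba]
    simp
  · rw [show n b * (n b * u a x * (n b)⁻¹) * (n b)⁻¹ = n b ^ 2 * u a x * (n b ^ 2)⁻¹ by
      rw [pow_two]; group, W_sq_conj _ hdb, hab]
    simp

end A2Pinned

end Groth.Agent.Rank2Red38
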