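import Groth.Agent.Rank2Red38.SysA2

/-! Systems of type B2. -/

set_option autoImplicit false

universe u

open CategoryTheory CategoryTheory.Limits AlgebraicGeometry MonoidalCategory CartesianMonoidalCategory
open scoped MonObj

noncomputable section

namespace Groth.Agent.Rank2Red38

open GrpSchLib

variable {S : Scheme.{u}} {G : Over S} [GrpObj G] {D : Red.SplitRed G}

/-- The positive roots of B2, the first root short. -/
abbrev posB2 : List (ℤ × ℤ) := [(1, 0), (0, 1), (1, 1), (2, 1)]

namespace Sys2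

variable (s : Sys2 D) (N : HasNormalForm D) {f : ℤ × ℤ → ℤ × ℤ} (hf : s.Side f)
include N hf

/-- Root subgroups without common combinations commute. -/
theorem comm_nil (p q : ℤ × ℤ) (hp : InSys s.pos p) (hq : InSys s.pos q) (hpf : Pos2 (f p)) (hqf : Pos2 (f q))
    (hd : [p, q].Nodup)
    (hcomp : ∀ i j : ℕ, InSys s.pos (i • p + j • q) →
      (i • p + j • q = q ∧ i = 0 ∧ j = 1) ∨ (i • p + j • q = p ∧ i = 1 ∧ j = 0))
    (X : Over S) (x y : Γ(X.left, ⊤)) : s.V X p x * s.V X q y = s.V X q y * s.V X p x := by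
  obtain ⟨C, hC⟩ := s.comm_form N hf p q hp hq hpf hqf [] (fun _ => (0, 0)) (by simp) hd
    (fun i j hij => (hcomp i j hij).imp_right Or.inl) (by simp)
  simpa [Sys2.prodV] using (hC X x y).symm

end Sys2

namespace Frame

variable {s : Sys2 D} (fr : Frame s) (X : Over S)

/-- The long subgroup of B2. -/
def lSub (x : Γ(X.left, ⊤)) : X ⟶ G := W D X fr.ca * fr.V X (0, 1) x * (W D X fr.ca)⁻¹

variable (N : HasNormalForm D) (hs : s.pos = posB2) (hba : D.P.pairing s.b s.a = -2)
  (hab : D.P.pairing s.a s.b = -1)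
include N hs hba hab

theorem B2_relations :
    (∀ x y, fr.V X (0, 1) y * fr.V X (1, 0) x =
      fr.V X (1, 0) x * fr.V X (0, 1) y * fr.mSub X (x * y) * fr.lSub X (x ^ 2 * y)) ∧
    (∀ x y, fr.mSub X y * fr.V X (1, 0) x = fr.V X (1, 0) x * fr.mSub X y * fr.lSub X (2 * x * y)) ∧
    (∀ x, W D X fr.ca * fr.mSub X x * (W D X fr.ca)⁻¹ = fr.mSub X (-x)) ∧
    ∀ x, W D X fr.cb * fr.lSub X x = fr.lSub X x * W D X fr.cb := by
  have sa := s.side_a hba
  have sb := s.side_b hab
  have si := s.side_id
  have hin : ∀ p, p ∈ posB2 → InSys s.pos p := fun p hp => Or.inl (hs ▸ hp)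
  have hneg : ∀ p : ℤ × ℤ, -p ∈ posB2 → InSys s.pos p := fun p hp => Or.inr (hs ▸ hp)
  have r10 : Red1 D (s.r (1, 0)) := s.red1 (hin _ (by decide)) (by rw [hs]; root_red)
  have r01 : Red1 D (s.r (0, 1)) := s.red1 (hin _ (by decide)) (by rw [hs]; root_red)
  have r11 : Red1 D (s.r (1, 1)) := s.red1 (hin _ (by decide)) (by rw [hs]; root_red)
  have r21 : Red1 D (s.r (2, 1)) := s.red1 (hin _ (by decide)) (by rw [hs]; root_red)
  have fb : D.P.reflection fr.cb (s.vec (1, 0)) = s.vec (1, 1) := by
    rw [fr.refl_b]; simp [Sys2.vec, RootPairing.reflection_apply_root, hab]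
  have fa : D.P.reflection fr.ca (s.vec (0, 1)) = s.vec (2, 1) := by
    rw [fr.refl_a]; simp [Sys2.vec, RootPairing.reflection_apply_root, hba, add_comm]
  have fm : D.P.reflection fr.ca (s.vec (1, 1)) = s.vec (1, 1) := by
    rw [fr.refl_a]
    simp [Sys2.vec, RootPairing.reflection_apply_root, RootPairing.reflection_apply_self, hba]
    module
  obtain ⟨k, hku, hk⟩ := s.weyl_conj N fr.dual_b (hin _ (by decide)) (hin _ (by decide)) fb si si
    (by decide) (by decide) r10 r11
  obtain ⟨ka, hkau, hka⟩ := s.weyl_conj N fr.dual_a (hin _ (by decide)) (hin _ (by decide)) fa si si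
    (by decide) (by decide) r01 r21
  obtain ⟨km, -, hkm⟩ := s.weyl_conj N fr.dual_a (hin _ (by decide)) (hin _ (by decide)) fm si si
    (by decide) (by decide) r11 r11
  set σ : Γ(X.left, ⊤) := (fr.σ : Γ(X.left, ⊤)) with hσdef
  have hσ : σ * σ = 1 := fr.σ_mul X
  set K : Γ(X.left, ⊤) := glob X k * σ with hKdef
  set L : Γ(X.left, ⊤) := glob X ka * σ with hLdef
  have hKu : IsUnit K := (hku X).mul (fr.isUnit_σ X)
  have hLu : IsUnit L := (hkau X).mul (fr.isUnit_σ X)
  obtain ⟨K', hK'⟩ : ∃ K', K' * K = 1 := hKu.exists_left_inv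
  obtain ⟨L', hL'⟩ : ∃ L', L' * L = 1 := hLu.exists_left_inv
  have hV : ∀ p x, fr.V X p x = s.V X p (σ * x) := fun p x => rfl
  have hV' : ∀ p z, s.V X p z = fr.V X p (σ * z) := fun p z => by rw [hV, ← mul_assoc, hσ, one_mul]
  have hm : ∀ x, fr.mSub X x = s.V X (1, 1) (K * x) := fun x => by
    rw [mSub, Frame.V, hk, hKdef, mul_assoc]
  have hl : ∀ x, fr.lSub X x = s.V X (2, 1) (L * x) := fun x => by
    rw [lSub, Frame.V, hka, hLdef, mul_assoc]
  have hm' : ∀ z, s.V X (1, 1) z = fr.mSub X (K' * z) := fun z => by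
    rw [hm, ← mul_assoc, mul_comm K, hK', one_mul]
  have hl' : ∀ z, s.V X (2, 1) z = fr.lSub X (L' * z) := fun z => by
    rw [hl, ← mul_assoc, mul_comm L, hL', one_mul]
  have cbm := s.comm_nil N si (0, 1) (1, 1) (hin _ (by decide)) (hin _ (by decide)) (by decide) (by decide)
    (by decide) (by rw [hs]; root_comb) X
  have cbl := s.comm_nil N si (0, 1) (2, 1) (hin _ (by decide)) (hin _ (by decide)) (by decide) (by decide)
    (by decide) (by rw [hs]; root_comb) X
  have cal := s.comm_nil N si (1, 0) (2, 1) (hin _ (by decide)) (hin _ (by decide)) (by decide) (by decide)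
    (by decide) (by rw [hs]; root_comb) X
  have cml := s.comm_nil N si (1, 1) (2, 1) (hin _ (by decide)) (hin _ (by decide)) (by decide) (by decide)
    (by decide) (by rw [hs]; root_comb) X
  have cln := s.comm_nil N sb (2, 1) (0, -1) (hin _ (by decide)) (hneg _ (by decide)) (by decide) (by decide)
    (by decide) (by rw [hs]; root_comb) X
  have can := s.comm_nil N sb (1, 0) (0, -1) (hin _ (by decide)) (hneg _ (by decide)) (by decide) (by decide)
    (by decide) (by rw [hs]; root_comb) X
  have cbn := s.comm_nil N sa (0, 1) (-1, 0) (hin _ (by decide)) (hneg _ (by decide)) (by decide) (by decide)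
    (by decide) (by rw [hs]; root_comb) X
  obtain ⟨Cba, hCba⟩ := s.comm_form N si (1, 0) (0, 1) (hin _ (by decide)) (hin _ (by decide)) (by decide)
    (by decide) [(1, 1), (2, 1)] (fun m => if m = (1, 1) then (1, 1) else (2, 1)) (by simp [hs, InSys, Pos2])
    (by decide) (by rw [hs]; root_comb) (by decide)
  obtain ⟨Cma, hCma⟩ := s.comm_form N si (1, 0) (1, 1) (hin _ (by decide)) (hin _ (by decide)) (by decide)
    (by decide) [(2, 1)] (fun _ => (1, 1)) (by simp [hs, InSys, Pos2]) (by decide) (by rw [hs]; root_comb) (by decide)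
  obtain ⟨Cn, hn1, hCn⟩ := s.conj_form N sb (1, 1) (0, -1) (hin _ (by decide)) (hneg _ (by decide))
    (by decide) (by decide) [(1, 0), (1, 1), (2, 1)]
    (fun m => if m = (1, 1) then (1, 0) else if m = (1, 0) then (1, 1) else (2, 1))
    (by simp [hs, InSys, Pos2]) (by decide) (by rw [hs]; root_comb) (by decide) (by decide)
  obtain ⟨Cm, hm1, hCm⟩ := s.conj_form N sa (1, 1) (-1, 0) (hin _ (by decide)) (hneg _ (by decide))
    (by decide) (by decide) [(0, 1), (1, 1)] (fun m => if m = (1, 1) then (1, 0) else (1, 1))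
    (by simp [hs, InSys, Pos2]) (by decide) (by rw [hs]; root_comb) (by decide) (by decide)
  obtain ⟨Cl, hl1, hCl⟩ := s.conj_form N sa (2, 1) (-1, 0) (hin _ (by decide)) (hneg _ (by decide))
    (by decide) (by decide) [(0, 1), (1, 1), (2, 1)]
    (fun m => if m = (2, 1) then (1, 0) else if m = (1, 1) then (1, 1) else (1, 2))
    (by simp [hs, InSys, Pos2]) (by decide) (by rw [hs]; root_comb) (by decide) (by decide)
  simp only [Sys2.prodV, List.map_cons, List.map_nil, List.prod_cons, List.prod_nil, mul_one, if_true, if_false,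
    Prod.mk.injEq, show (2 : ℤ) ≠ 1 by decide, show (0 : ℤ) ≠ 1 by decide, show (1 : ℤ) ≠ 2 by decide,
    show (0 : ℤ) ≠ 2 by decide, show (1 : ℤ) ≠ 0 by decide, false_and, and_false, and_self, hn1, hm1, hl1,
    pow_one, pow_zero, one_mul] at hCba hCma hCn hCm hCl
  have wa : weylElt (fr.V X (1, 0)) (fr.V X (-1, 0)) = W D X fr.ca := fr.weyl_a X
  have wb : weylElt (fr.V X (0, 1)) (fr.V X (0, -1)) = W D X fr.cb := fr.weyl_b X
  have DB : B2.Data (fr.V X (1, 0)) (fr.V X (-1, 0)) (fr.V X (0, 1)) (fr.V X (0, -1)) (fr.mSub X) (fr.lSub X)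
      (K' * glob X (Cba (1, 1))) (L' * σ * glob X (Cba (2, 1))) (L' * σ * glob X (Cma (2, 1)) * K)
      (glob X (Cn (1, 0)) * K) (L' * σ * glob X (Cn (2, 1)) * K ^ 2) (glob X (Cm (0, 1)) * K)
      (K' * σ * glob X (Cl (1, 1)) * L) (σ * glob X (Cl (0, 1)) * L) (K' * glob X km * K) := by
    refine
      { ha := fr.V_oneParam X _
        hna := fr.V_oneParam X _
        hb := fr.V_oneParam X _
        hnb := fr.V_oneParam X _
        hm := ?_, hl := ?_, m_def := ?_, l_def := ?_, wa_m := ?_, b_m := ?_, b_l := ?_, a_l := ?_, m_l := ?_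
        l_nb := ?_, a_nb := ?_, b_na := ?_, b_a := ?_, m_a := ?_, nb_m := ?_, na_m := ?_, na_l := ?_
        inj := ?_, inj' := ?_ }
    · intro x y; simp only [hm, mul_add]; exact s.V_oneParam X _ _ _
    · intro x y; simp only [hl, mul_add]; exact s.V_oneParam X _ _ _
    · intro x; rw [wb]; rfl
    · intro x; rw [wa]; rfl
    · intro x
      rw [wa, hm, hkm, hm']
      congr 1
      ring
    · intro x y; simp only [hm, hV]; exact cbm _ _
    · intro x y; simp only [hl, hV]; exact cbl _ _
    · intro x y; simp only [hl, hV]; exact cal _ _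
    · intro x y; simp only [hl, hm]; exact cml _ _
    · intro x y; simp only [hl, hV]; exact cln _ _
    · intro x y; simp only [hV]; exact can _ _
    · intro x y; simp only [hV]; exact cbn _ _
    · intro x y
      simp only [hV]
      rw [hCba, hm', hl', ← mul_assoc]
      congr 2
      · congr 1
        linear_combination K' * glob X (Cba (1, 1)) * x * y * hσ
      · linear_combination L' * glob X (Cba (2, 1)) * x ^ 2 * y * σ * hσ
    · intro x y
      simp only [hV, hm]
      rw [hCma, hl']
      congr 2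
      ring
    · intro z
      simp only [hV, mul_one, hm]
      rw [hCn, hl', ← mul_assoc]
      congr 2
      · congr 1
        ring
      · ring
    · intro z
      simp only [hV, mul_one, hm]
      rw [hCm]
      congr 2
      ring
    · intro z
      simp only [hV, mul_one, hl]
      rw [hCl, hm' (glob X (Cl (1, 1)) * _ * _), hm (K' * σ * _ * _ * _), hm, ← mul_assoc (s.V X (0, 1) _)]
      congr 3
      · ring
      · ring
    · intro x y z x' y' z' h
      simp only [hV, hm, hl] at h
      have := s.inj N si [(1, 0), (1, 1), (2, 1)] (by simp [hs, InSys, Pos2]) (by decide) X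
        (fun m => if m = (1, 0) then σ * x else if m = (1, 1) then K * y else L * z)
        (fun m => if m = (1, 0) then σ * x' else if m = (1, 1) then K * y' else L * z')
        (by simpa [Sys2.prodV, mul_assoc] using h)
      exact ⟨(fr.isUnit_σ X).mul_left_cancel (by simpa using this (1, 0) (by simp)),
        hKu.mul_left_cancel (by simpa using this (1, 1) (by simp)),
        hLu.mul_left_cancel (by simpa using this (2, 1) (by simp))⟩
    · intro x y z x' y' z' h
      simp only [hV, hm, hl] at h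
      have := s.inj N si [(0, 1), (1, 1), (2, 1)] (by simp [hs, InSys, Pos2]) (by decide) X
        (fun m => if m = (0, 1) then σ * x else if m = (1, 1) then K * y else L * z)
        (fun m => if m = (0, 1) then σ * x' else if m = (1, 1) then K * y' else L * z')
        (by simpa [Sys2.prodV, mul_assoc] using h)
      exact ⟨(fr.isUnit_σ X).mul_left_cancel (by simpa using this (0, 1) (by simp)),
        hKu.mul_left_cancel (by simpa using this (1, 1) (by simp)),
        hLu.mul_left_cancel (by simpa using this (2, 1) (by simp))⟩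
  refine ⟨DB.commutator, DB.commutator₂, fun x => ?_, fun x => ?_⟩
  · have h := DB.wa_m x
    rwa [wa, DB.wa_m_sign, neg_one_mul] at h
  · have h1 := DB.b_l 1 x
    have h2 := DB.l_nb x 1
    rw [← wb, weylElt]
    calc fr.V X (0, 1) 1 * (fr.V X (0, -1) 1)⁻¹ * fr.V X (0, 1) 1 * fr.lSub X x
        = fr.V X (0, 1) 1 * (fr.V X (0, -1) 1)⁻¹ * (fr.lSub X x * fr.V X (0, 1) 1) := by rw [← h1]; group
      _ = fr.V X (0, 1) 1 * ((fr.V X (0, -1) 1)⁻¹ * (fr.lSub X x * fr.V X (0, -1) 1)) *
            (fr.V X (0, -1) 1)⁻¹ * fr.V X (0, 1) 1 := by group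
      _ = fr.V X (0, 1) 1 * fr.lSub X x * (fr.V X (0, -1) 1)⁻¹ * fr.V X (0, 1) 1 := by rw [h2]; group
      _ = _ := by rw [h1]; group

end Frame

end Groth.Agent.Rank2Red38
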