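import Groth.Agent.Rank2Red38.PinnedA2
import Groth.Agent.Rank2Red38.SysB2

/-! The relations of type B2 between two simple roots of a pinned group. -/

set_option autoImplicit false

universe u

open CategoryTheory CategoryTheory.Limits AlgebraicGeometry MonoidalCategory CartesianMonoidalCategory
open scoped MonObj

noncomputable section

namespace Groth.Agent.Rank2Red38

open GrpSchLib

variable {S : Scheme.{u}} {G : Over S} [GrpObj G] {D : Red.Pinning G} {a b : D.idx} (ha : a ∈ D.base.support)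
  (hb : b ∈ D.base.support) (hne : a ≠ b)

/-- The system of type B2, `a` short. -/
def pinnedB2 (hba : D.P.pairing b a = -2) (hab : D.P.pairing a b = -1) : Sys2 D.toSplitRed :=
  pinnedSys ha hb hne posB2
    (by
      have h : IsComb D.P a b 1 1 := by simpa [hab] using (isComb_gen (D := D) (a := a) (b := b)).1.reflect_right
      have h' : IsComb D.P a b 2 1 := by simpa [hba] using (isComb_gen (D := D) (a := a) (b := b)).2.reflect_left
      simp only [List.forall_mem_cons, List.not_mem_nil, IsEmpty.forall_iff, implies_true, and_true]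
      exact ⟨isComb_gen.1, isComb_gen.2, h, h'⟩)
    (fun i j hi hj h => by
      obtain ⟨rfl, rfl | rfl⟩ := comb_B2 D.base ha hb hne hi hj h hba hab <;> decide)
    (by decide) (by decide)

namespace B2Pinned

variable (N : HasNormalForm D.toSplitRed) (hba : D.P.pairing b a = -2) (hab : D.P.pairing a b = -1)
  (hda : IsDual D.toSplitRed a) (hdb : IsDual D.toSplitRed b) (X : Over S)

local notation "u" => U D.toSplitRed X
local notation "n" => W D.toSplitRed X

include N ha hb hne hba hab hda hdb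

theorem relations :
    (∀ x y, u b y * u a x =
      u a x * u b y * (n b * u a (x * y) * (n b)⁻¹) * (n a * u b (x ^ 2 * y) * (n a)⁻¹)) ∧
    (∀ x y, n b * u a y * (n b)⁻¹ * u a x =
      u a x * (n b * u a y * (n b)⁻¹) * (n a * u b (2 * x * y) * (n a)⁻¹)) ∧
    (∀ x, n a * (n b * u a x * (n b)⁻¹) * (n a)⁻¹ = n b * u a (-x) * (n b)⁻¹) ∧
    (∀ x, n a * (n b * u (neg' D.toSplitRed a) x * (n b)⁻¹) * (n a)⁻¹ =
      n b * u (neg' D.toSplitRed a) (-x) * (n b)⁻¹) ∧
    ∀ x, n b * (n a * u b x * (n a)⁻¹) * (n b)⁻¹ = n a * u b x * (n a)⁻¹ := by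
  set s := pinnedB2 ha hb hne hba hab with hs
  have h1 : InSys s.pos (1, 0) := Or.inl (show (1, 0) ∈ posB2 by decide)
  have h2 : InSys s.pos (0, 1) := Or.inl (show (0, 1) ∈ posB2 by decide)
  obtain ⟨r1, r2, -, -⟩ := s.r_gen h1 h2
  obtain ⟨q1, -, -, -⟩ := s.negSys.r_gen h1 h2
  obtain ⟨p1, p2, p3, p4⟩ := Frame.B2_relations (s := s) (s.frame h1 h2 hda hdb) X N rfl hba hab
  have np : ∀ c d (v : ℤ), D.P.pairing c d = v →
      D.P.pairing (neg' D.toSplitRed c) (neg' D.toSplitRed d) = v := fun c d v h => by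
    show D.P.pairing (D.P.reflectionPerm c c) (D.P.reflectionPerm d d) = v
    rw [RootPairing.pairing_reflectionPerm_self_left, RootPairing.pairing_reflectionPerm_self_right, neg_neg, h]
  obtain ⟨-, -, q3, -⟩ := Frame.B2_relations (s := s.negSys) (s.negFrame h1 h2 hda hdb) X N rfl
    (np _ _ _ hba) (np _ _ _ hab)
  have e1 : ∀ x, s.V X (1, 0) x = u a x := fun x => by rw [Sys2.V, r1]; rfl
  have e2 : ∀ x, s.V X (0, 1) x = u b x := fun x => by rw [Sys2.V, r2]; rfl
  have f1 : ∀ x, s.negSys.V X (1, 0) x = u (neg' D.toSplitRed a) x := fun x => by rw [Sys2.V, q1]; rfl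
  simp only [Frame.V, Frame.mSub, Frame.lSub, Sys2.frame, Int.cast_one, one_mul, e1, e2] at p1 p2 p3 p4
  simp only [Frame.V, Frame.mSub, Sys2.negFrame, Int.cast_neg, Int.cast_one, neg_one_mul, neg_neg, f1] at q3
  refine ⟨p1, p2, p3, fun x => ?_, fun x => ?_⟩
  · have h := q3 (-x)
    simp only [neg_neg] at h
    exact h
  · exact mul_inv_eq_iff_eq_mul.mpr (p4 x)

theorem coxeter : (n a * n b) ^ 4 = I D.toSplitRed X (av D.toSplitRed X a (-1)) ∧
    (n b * n a) ^ 4 = I D.toSplitRed X (av D.toSplitRed X a (-1)) := by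
  obtain ⟨-, -, p3, p4, -⟩ := relations ha hb hne N hba hab hda hdb X
  refine coxeter_B2 (W_sq D.toSplitRed hda) (W_sq D.toSplitRed hdb) (av_neg_one_mul_self _ a) (av_neg_one_mul_self _ b)
    (I_comm _ _ _) ?_ ?_ ?_
  · rw [W_conj_torus D.toSplitRed hda, rootVal_av, hab, map_mul, map_inv]
    simp [inv_eq_of_mul_eq_one_left (av_neg_one_mul_self D.toSplitRed (X := X) a)]
  · refine mul_inv_eq_iff_eq_mul.mp ?_
    rw [W_conj_torus D.toSplitRed hdb, rootVal_av, hba, map_mul, map_inv]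
    simp
  · have h1 : n a * weylElt (fun x => n b * u a x * (n b)⁻¹) (fun x => n b * u (neg' D.toSplitRed a) x * (n b)⁻¹) *
        (n a)⁻¹ = weylElt (fun x => n b * u a (-x) * (n b)⁻¹) (fun x => n b * u (neg' D.toSplitRed a) (-x) * (n b)⁻¹) :=
      weylElt_conj_eq _ p3 p4
    have e : n b * n a * (n b)⁻¹ =
        weylElt (fun x => n b * u a x * (n b)⁻¹) (fun x => n b * u (neg' D.toSplitRed a) x * (n b)⁻¹) :=
      weylElt_conj_eq _ (fun _ => rfl) (fun _ => rfl)
    have e' : n b * weylElt (fun x => u a (-x)) (fun x => u (neg' D.toSplitRed a) (-x)) * (n b)⁻¹ =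
        weylElt (fun x => n b * u a (-x) * (n b)⁻¹) (fun x => n b * u (neg' D.toSplitRed a) (-x) * (n b)⁻¹) :=
      weylElt_conj_eq _ (fun _ => rfl) (fun _ => rfl)
    conv_lhs => rw [e, h1, ← e', weylElt_neg (U_oneParam _ a) (U_oneParam _ _)]
    simp only [W, mul_inv_rev, inv_inv, mul_assoc]

theorem weyl_conj (x : Γ(X.left, ⊤)) :
    n a * (n a * u b x * (n a)⁻¹) * (n a)⁻¹ = u b x ∧
    n b * (n b * u a x * (n b)⁻¹) * (n b)⁻¹ = u a (-x) := by
  refine ⟨?_, ?_⟩
  · rw [show n a * (n a * u b x * (n a)⁻¹) * (n a)⁻¹ = n a ^ 2 * u b x * (n a ^ 2)⁻¹ by rw [pow_two]; group,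
      W_sq_conj _ hda, hba]
    simp
  · rw [show n b * (n b * u a x * (n b)⁻¹) * (n b)⁻¹ = n b ^ 2 * u a x * (n b ^ 2)⁻¹ by rw [pow_two]; group,
      W_sq_conj _ hdb, hab]
    simp

end B2Pinned

end Groth.Agent.Rank2Red38
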