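import Groth.Agent.Rank2Red38.R1LawCell

/-! The coordinates of `p(x) m(y)` under a change of the base ring. -/

set_option autoImplicit false
set_option linter.style.haveILetI false

universe u

open CategoryTheory CategoryTheory.Limits AlgebraicGeometry MonoidalCategory CartesianMonoidalCategory
open scoped MonObj

noncomputable section

namespace Groth.Agent.Rank2Red38.R1

open GrpSchLib RankOne Polynomial

variable {S : Scheme.{u}} {G T : Over S} [GrpObj G] [GrpObj T]

/-- The hypotheses of the commutation rule, apart from non-commutation. -/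
structure Sys (i : T ⟶ G) (α : T ⟶ Red.Gm S) (pp pm : Red.Ga S ⟶ G) : Prop where
  hΩ : IsOpenImmersion (cellMap i pp pm).left
  hT : Red.IsTorus T
  hα : ∀ s : S, (Over.pullback (Red.geomPt s)).map α ≠ 1
  hpp : ∀ (X : Over S) (t : X ⟶ T) (x : X ⟶ Red.Ga S), ∃ x' : X ⟶ Red.Ga S,
    x' ≫ pp = (t ≫ i) * (x ≫ pp) * (t ≫ i)⁻¹ ∧ Red.gaFn x' = Red.gmFn (t ≫ α) * Red.gaFn x
  hpm : ∀ (X : Over S) (t : X ⟶ T) (y : X ⟶ Red.Ga S), ∃ y' : X ⟶ Red.Ga S,
    y' ≫ pm = (t ≫ i) * (y ≫ pm) * (t ≫ i)⁻¹ ∧ Red.gaFn y' * Red.gmFn (t ≫ α) = Red.gaFn y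

variable {i : T ⟶ G} [IsMonHom i] {α : T ⟶ Red.Gm S} [IsMonHom α] {pp pm : Red.Ga S ⟶ G} [IsMonHom pp]
  [IsMonHom pm] (H : Sys i α pp pm)

/-- The law of a system over an affine test object. -/
def Sys.L {A : Type u} [CommRing A] (b : Spec (CommRingCat.of A) ⟶ S) : Law A :=
  law b H.hΩ H.hT H.hα H.hpp H.hpm

/-- The constant of a system over an affine test object. -/
def Sys.d {A : Type u} [CommRing A] (b : Spec (CommRingCat.of A) ⟶ S) : A := (H.L b).g 1

section Change

variable {A A' : Type u} [CommRing A] [CommRing A'] {b : Spec (CommRingCat.of A) ⟶ S}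
  {b' : Spec (CommRingCat.of A') ⟶ S} {φ : A →+* A'} (h : Spec.map (CommRingCat.ofHom φ) ≫ b = b')
  {R R' : Type u} [CommRing R] [Algebra A R] [CommRing R'] [Algebra A' R'] (σ : R →+* R')
  (hσ : σ.comp (algebraMap A R) = (algebraMap A' R').comp φ)

include h hσ in
theorem ccompat : Spec.map (CommRingCat.ofHom σ) ≫ tb b R = tb b' R' := by
  rw [tb, tb, ← h, ← Category.assoc, ← Category.assoc, ← Spec.map_comp, ← Spec.map_comp,
    ← CommRingCat.ofHom_comp, ← CommRingCat.ofHom_comp, hσ]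

/-- The morphism of test objects of a map of algebras over different rings. -/
def cmor : tobj b' R' ⟶ tobj b R :=
  specHom (A := CommRingCat.of R) (B := CommRingCat.of R') σ (ccompat h σ hσ)

theorem cmor_ga (a : R) : cmor h σ hσ ≫ ga b R a = ga b' R' (σ a) :=
  specHom_ptOfFn (A := CommRingCat.of R) (B := CommRingCat.of R') σ _ a

omit [IsMonHom i] [IsMonHom pp] [IsMonHom pm] in
theorem IsCoord.cmap {x y : R} {c : R × (tobj b R ⟶ T) × R}
    (hc : IsCoord (i := i) (pp := pp) (pm := pm) b x y c) :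
    IsCoord (i := i) (pp := pp) (pm := pm) b' (σ x) (σ y) (σ c.1, cmor h σ hσ ≫ c.2.1, σ c.2.2) := by
  have e := congrArg (cmor h σ hσ ≫ ·) hc
  simp only [MonObj.comp_mul, P, M, ← Category.assoc, cmor_ga] at e
  exact e

omit [IsMonHom i] [IsMonHom pp] [IsMonHom pm] in
theorem cmor_chr (t : tobj b R ⟶ T) :
    (chr α b' R' (cmor h σ hσ ≫ t) : R') = σ (chr α b R t : R) := by
  show (gmu b' R' ((cmor h σ hσ ≫ t) ≫ α) : R') = σ (gmu b R (t ≫ α) : R)
  rw [Category.assoc, gmu_coe, gmu_coe, GmPts.gmFn_comp]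
  exact sval_specHom (A := CommRingCat.of R) (B := CommRingCat.of R') σ (ccompat h σ hσ) _

end Change

theorem Sys.d_natural {A A' : Type u} [CommRing A] [CommRing A'] {b : Spec (CommRingCat.of A) ⟶ S}
    {b' : Spec (CommRingCat.of A') ⟶ S} {φ : A →+* A'} (h : Spec.map (CommRingCat.ofHom φ) ≫ b = b') :
    H.d b' = φ (H.d b) := by
  let σ : Trunc A 3 →+* Trunc A' 3 := Ideal.Quotient.lift _ ((trunc A' 3).comp (mapRingHom φ)) (fun p hp => by
    obtain ⟨c, rfl⟩ := Ideal.mem_span_singleton.mp hp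
    rw [RingHom.comp_apply, map_mul, map_mul, map_pow, map_pow, coe_mapRingHom, map_X, trunc_X_pow, zero_mul])
  have hC : ∀ a, σ (trunc A 3 (C a)) = trunc A' 3 (C (φ a)) := fun a => by
    rw [Ideal.Quotient.lift_mk, RingHom.comp_apply, coe_mapRingHom, map_C]
  have hX : σ (trunc A 3 X) = trunc A' 3 X := by
    rw [Ideal.Quotient.lift_mk, RingHom.comp_apply, coe_mapRingHom, map_X]
  have hσ : σ.comp (algebraMap A (Trunc A 3)) = (algebraMap A' (Trunc A' 3)).comp φ := RingHom.ext fun a => hC a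
  have hc := coord_spec (i := i) (pp := pp) (pm := pm) b H.hΩ
    (isNilpotent_mul_right (1 : Trunc A 3) (trunc_X_pow 3))
  have e := coord_eq b' H.hΩ (hc.cmap h σ hσ)
  rw [map_one, hX] at e
  have e1 : (H.L b').G.toFun (Trunc A' 3) 1 (trunc A' 3 X) = σ ((H.L b).G.toFun (Trunc A 3) 1 (trunc A 3 X)) :=
    congrArg Prod.fst e
  rw [(H.L b).G.apply_one _ (trunc_X_pow 3), (H.L b').G.apply_one _ (trunc_X_pow 3), map_sum] at e1
  refine coeff_ext (N := 3) (f := (H.L b').G.coeff) (g := fun n => φ ((H.L b).G.coeff n))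
    (e1.trans (Finset.sum_congr rfl fun n _ => ?_)) (by omega : 2 < 3)
  rw [map_mul, map_pow, hX]
  exact congrArg (· * _) (hC _)

/-- The solved form of the laws over a ring where they are known. -/
def Sys.Form {A : Type u} [CommRing A] (b : Spec (CommRingCat.of A) ⟶ S) : Prop :=
  ∀ (R : Type u) [CommRing R] [Algebra A R] (N : ℕ) (x y : R), y ^ N = 0 →
    (H.L b).F.toFun R x y * (1 - algebraMap A R (H.d b) * x * y) = x ∧
    (H.L b).G.toFun R x y * (1 - algebraMap A R (H.d b) * x * y) = y ∧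
    (H.L b).bi.toFun R x y * (1 - algebraMap A R (H.d b) * x * y) ^ 2 = 1

theorem Sys.form_of_isUnit {A : Type u} [CommRing A] (b : Spec (CommRingCat.of A) ⟶ S) (hu : IsUnit (H.d b)) :
    H.Form b := fun _ _ _ _ x y hy =>
  ⟨(H.L b).F_formula x y hy hu, (H.L b).G_formula x y hy hu, (H.L b).bi_formula x y hy hu⟩

theorem Sys.form_field {K : Type u} [Field K] (b : Spec (CommRingCat.of K) ⟶ S) : H.Form b := by
  intro R _ _ N x y hy
  rcases eq_or_ne (H.d b) 0 with h | h
  · obtain ⟨h1, h2, h3⟩ := (H.L b).zero_formula x y hy h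
    simp [h, h1, h2, h3]
  · exact H.form_of_isUnit b (isUnit_iff_ne_zero.2 h) R N x y hy

variable {A : Type u} [CommRing A] {b : Spec (CommRingCat.of A) ⟶ S} {R : Type u} [CommRing R] [Algebra A R]

omit [IsMonHom α] in
/-- Coordinates of a sum in the second variable. -/
theorem IsCoord.add_right (H : Sys i α pp pm) {x y₁ y₂ : R} {c c' : R × (tobj b R ⟶ T) × R}
    (h : IsCoord (i := i) (pp := pp) (pm := pm) b x y₁ c)
    (h' : IsCoord (i := i) (pp := pp) (pm := pm) b c.2.2 y₂ c') :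
    ∃ g, IsCoord (i := i) (pp := pp) (pm := pm) b x (y₁ + y₂) (g, c.2.1 * c'.2.1, c'.2.2) := by
  obtain ⟨y', h1, -⟩ := H.hpm _ c.2.1 (ga b R c'.1)
  obtain ⟨g, rfl⟩ := exists_ga b R y'
  refine ⟨c.1 + g, ?_⟩
  unfold IsCoord at h h' ⊢
  rw [M_add, ← _root_.mul_assoc, h, _root_.mul_assoc, h', M_add, MonObj.mul_comp, show M pm b R g = _ from h1]
  group

end Groth.Agent.Rank2Red38.R1
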