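import Groth.Agent.GrpSchLib.RankOneTorusPts
import Groth.Agent.GrpSchLib.RankOneCell
import Groth.Agent.GrpSchLib.RankOneTransfer

/-! In a rank-one system, a product `p(x) m(y)` lies in the big cell only if `1 + x y` is invertible. -/

set_option autoImplicit false
set_option linter.style.haveILetI false

universe u

open CategoryTheory CategoryTheory.Limits AlgebraicGeometry MonoidalCategory CartesianMonoidalCategory
open scoped MonObj

noncomputable section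

namespace Groth.Agent.GrpSchLib.RankOne

namespace Sys

variable {R G T : Type*} [CommRing R] [Group G] [Group T] (Φ : Sys R G T)

theorem a_sq_of_w_mem (hinj : ∀ (a a' : R) (t t' : T) (d d' : R),
    Φ.m a * Φ.I t * Φ.p d = Φ.m a' * Φ.I t' * Φ.p d' → a = a' ∧ t = t' ∧ d = d')
    (hcomm : ∀ t t' : T, t * t' = t' * t) (x : Rˣ) (a d : R) (t : T) (h : Φ.w x = Φ.m a * Φ.I t * Φ.p d) (s : T) :
    Φ.a s ^ 2 = 1 := by
  have hw : Φ.w x * Φ.I s = Φ.I ((Φ.av (Φ.a s))⁻¹ * s) * Φ.w x := by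
    rw [map_mul, map_inv, ← Φ.w_conj x s]; group
  rw [h, mul_assoc (Φ.m a * Φ.I t), Φ.p_mul_I, ← mul_assoc, mul_assoc (Φ.m a), ← map_mul, ← mul_assoc, ← mul_assoc,
    Φ.I_mul_m, mul_assoc (Φ.m _) (Φ.I _) (Φ.I t), ← map_mul] at hw
  have e := (hinj _ _ _ _ _ _ hw).2.1
  rw [mul_assoc, hcomm t s] at e
  rw [← Φ.a_av, show Φ.av (Φ.a s) = 1 by simpa using e, map_one]

end Sys

variable {S : Scheme.{u}} {G T : Over S} [GrpObj G] [GrpObj T] {i : T ⟶ G} [IsMonHom i]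
  {α : T ⟶ Red.Gm S} [IsMonHom α] {pp pm : Red.Ga S ⟶ G} [IsMonHom pp] [IsMonHom pm]
  {av : Red.Gm S ⟶ T} [IsMonHom av]

/-- Pullback of the values of a root homomorphism. -/
theorem comp_ptOfFn {X Y : Over S} (j : Y ⟶ X) (v : Γ(X.left, ⊤)) (p : Red.Ga S ⟶ G) :
    j ≫ GaPts.ptOfFn v ≫ p = GaPts.ptOfFn (j.left.appTop v) ≫ p := by
  rw [← Category.assoc]
  exact congrArg (· ≫ p) (GaPts.gaFn_injective (by dsimp only; rw [GaPts.gaFn_comp, GaPts.gaFn_ptOfFn, GaPts.gaFn_ptOfFn]))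

/-- A function which is invertible at every point with values in a field is invertible. -/
theorem isUnit_of_fields {X : Over S} (f : Γ(X.left, ⊤))
    (h : ∀ (K : Type u) [Field K] (b : Spec (CommRingCat.of K) ⟶ S) (j : Over.mk b ⟶ X),
      sval b (j.left.appTop f) ≠ 0) : IsUnit f := by
  have htop : X.left.basicOpen f = ⊤ := by
    refine top_le_iff.mp fun x _ => ?_
    let q := X.left.fromSpecResidueField x
    have h0 := h (X.left.residueField x) (q ≫ X.hom) (Over.homMk q rfl)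
    have hu : IsUnit (q.appTop f) := by
      have := (isUnit_iff_ne_zero.mpr h0).map (sval (q ≫ X.hom)).symm
      rwa [RingEquiv.symm_apply_apply] at this
    let pt : Spec (X.left.residueField x) := IsLocalRing.closedPoint _
    have hm : pt ∈ q ⁻¹ᵁ X.left.basicOpen f := by
      rw [Scheme.preimage_basicOpen_top, Scheme.basicOpen_of_isUnit _ hu]
      trivial
    have hx : q pt = x := Scheme.fromSpecResidueField_apply x pt
    exact hx ▸ hm
  exact RingedSpace.isUnit_of_isUnit_germ X.left.toLocallyRingedSpace.toRingedSpace ⊤ f fun x _ =>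
    (Scheme.mem_basicOpen_top X.left f x).mp (by rw [htop]; trivial)

variable (hT : Red.IsTorus T) (hα : ∀ s : S, (Over.pullback (Red.geomPt s)).map α ≠ 1)
  (hpp : ∀ (X : Over S) (t : X ⟶ T) (x : X ⟶ Red.Ga S), ∃ x' : X ⟶ Red.Ga S,
    x' ≫ pp = (t ≫ i) * (x ≫ pp) * (t ≫ i)⁻¹ ∧ Red.gaFn x' = Red.gmFn (t ≫ α) * Red.gaFn x)
  (hpm : ∀ (X : Over S) (t : X ⟶ T) (y : X ⟶ Red.Ga S), ∃ y' : X ⟶ Red.Ga S,
    y' ≫ pm = (t ≫ i) * (y ≫ pm) * (t ≫ i)⁻¹ ∧ Red.gaFn y' * Red.gmFn (t ≫ α) = Red.gaFn y)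
  (hΩ : IsOpenImmersion (cellMap i pp pm).left) (h2 : av ≫ α = (𝟙 (Red.Gm S)) ^ 2)
  (hF : ∀ (X : Over S) (x y : X ⟶ Red.Ga S), IsUnit (1 + Red.gaFn x * Red.gaFn y) →
    ∃ (x' y' : X ⟶ Red.Ga S) (z : X ⟶ Red.Gm S), Red.gmFn z = 1 + Red.gaFn x * Red.gaFn y ∧
      Red.gaFn x' * Red.gmFn z = Red.gaFn x ∧ Red.gaFn y' * Red.gmFn z = Red.gaFn y ∧
      (x ≫ pp) * (y ≫ pm) = (y' ≫ pm) * (z ≫ av ≫ i) * (x' ≫ pp))

include hT hα hpp hpm hΩ h2 hF in
set_option maxHeartbeats 600000 in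
theorem isUnit_of_mem_cell {X : Over S} (x y : Γ(X.left, ⊤)) (a : X ⟶ Red.Ga S) (t : X ⟶ T) (d : X ⟶ Red.Ga S)
    (h : (GaPts.ptOfFn x ≫ pp) * (GaPts.ptOfFn y ≫ pm) = (a ≫ pm) * (t ≫ i) * (d ≫ pp)) :
    IsUnit (1 + x * y) := by
  classical
  refine isUnit_of_fields _ fun K _ b j hj => ?_
  obtain ⟨L, _, θ, b', hL, hb, hex⟩ := exists_notMem hT α hα b
  obtain ⟨s, hs⟩ := hex {1, -1}
  let j' : Over.mk b' ⟶ X := specHom (A := CommRingCat.of K) (B := CommRingCat.of L) (b := b) (b' := b') θ hb ≫ j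
  have e : sval b' (j'.left.appTop (1 + x * y)) = 0 := by
    show sval b' ((specHom (A := CommRingCat.of K) (B := CommRingCat.of L) (b := b) (b' := b') θ hb).left.appTop (j.left.appTop (1 + x * y))) = 0
    rw [sval_specHom, hj, map_zero]
  rw [map_add, map_add, map_one, map_one, map_mul, map_mul] at e
  set x₀ := j'.left.appTop x
  set y₀ := j'.left.appTop y
  let k := sval b'
  have hxy : k x₀ * k y₀ = -1 := by linear_combination e
  have hxy' : x₀ * -y₀ = 1 := k.injective (by rw [map_mul, map_neg, map_one]; linear_combination -hxy)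
  let u : (Γ((Over.mk b').left, ⊤))ˣ := Units.mkOfMulEqOne _ _ hxy'
  let Φ := sys i α pp pm hpp hpm av h2 hF (Over.mk b')
  have e' := congrArg (j' ≫ ·) h
  simp only [MonObj.comp_mul, comp_ptOfFn] at e'
  rw [← Category.assoc j' a, ← Category.assoc j' t, ← Category.assoc j' d] at e'
  have hw : Φ.w u = Φ.m (Red.gaFn (j' ≫ a)) * Φ.I (j' ≫ t) * Φ.p (Red.gaFn (j' ≫ d) + x₀) := by
    rw [Φ.p_add, ← mul_assoc]
    show Φ.p x₀ * Φ.m (-(((u⁻¹ : _ˣ)) : Γ((Over.mk b').left, ⊤))) * Φ.p x₀ = _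
    rw [show -(((u⁻¹ : _ˣ)) : Γ((Over.mk b').left, ⊤)) = y₀ from neg_neg y₀]
    refine congrArg (· * Φ.p x₀) (e'.trans ?_)
    show _ = (GaPts.ptOfFn (Red.gaFn (j' ≫ a)) ≫ pm) * ((j' ≫ t) ≫ i) * (GaPts.ptOfFn (Red.gaFn (j' ≫ d)) ≫ pp)
    rw [← ga_eq_ptOfFn, ← ga_eq_ptOfFn]
  have key := Φ.a_sq_of_w_mem (fun a a' t t' d d' hh => ?_) (torus_mul_comm hT _) u _ _ _ hw s
  · have k2 : k ((GmPts.unitOfPt (s ≫ α) : _ˣ) : Γ((Over.mk b').left, ⊤)) ^ 2 = 1 := by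
      rw [← map_pow, ← Units.val_pow_eq_pow_val]
      exact (congrArg (fun z : _ˣ => k z.val) key).trans (map_one k)
    rw [Finset.mem_insert, Finset.mem_singleton] at hs
    exact hs (sq_eq_one_iff.mp k2)
  · haveI := hΩ
    obtain ⟨h1, h2', h3⟩ := cell_ext hΩ hh
    exact ⟨by simpa [GaPts.gaFn_ptOfFn] using congrArg Red.gaFn h1, h2', by simpa [GaPts.gaFn_ptOfFn] using congrArg Red.gaFn h3⟩

end Groth.Agent.GrpSchLib.RankOne
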