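import Mathlib.LinearAlgebra.Vandermonde
import Mathlib.LinearAlgebra.Matrix.NonsingularInverse
import Mathlib.RingTheory.Flat.FaithfullyFlat.Algebra
import Mathlib.RingTheory.Polynomial.Basic
import Mathlib.LinearAlgebra.TensorProduct.RightExactness

/-! A subalgebra of a polynomial ring stable under scalings of the variable contains the variable. -/

set_option autoImplicit false

universe u

open TensorProduct Polynomial

namespace Groth.Agent.R1Closed

variable {R A R' : Type u} [CommRing R] [CommRing A] [CommRing R'] [Algebra R A] [Algebra R R']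

/-- Substitution of `s ⊗ X` for the variable. -/
noncomputable def subst {R'' : Type u} [CommRing R''] [Algebra R R''] (s : R'') : R'[X] →+* R'' ⊗[R] R'[X] :=
  eval₂RingHom ((Algebra.TensorProduct.includeRight : R'[X] →ₐ[R] R'' ⊗[R] R'[X]).toRingHom.comp C)
    (s ⊗ₜ[R] (X : R'[X]))

theorem subst_eq {R'' : Type u} [CommRing R''] [Algebra R R''] (s : R'') (P : R'[X]) (m : ℕ) (hm : P.natDegree < m) :
    subst s P = ∑ n ∈ Finset.range m, (s ^ n) ⊗ₜ[R] monomial n (P.coeff n) := by
  conv_lhs => rw [as_sum_range' P m hm]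
  rw [map_sum]
  refine Finset.sum_congr rfl fun n _ => ?_
  rw [subst, coe_eval₂RingHom, eval₂_monomial, Algebra.TensorProduct.tmul_pow]
  simp [Algebra.TensorProduct.tmul_mul_tmul, C_mul_X_pow_eq_monomial]

variable (ψ : A →ₐ[R] R'[X])

/-- Homogeneous components of an element of the image lie in the image. -/
theorem monomial_mem
    (hgr : ∀ N : ℕ, ∃ (R'' : Type u) (_ : CommRing R'') (_ : Algebra R R''), Module.FaithfullyFlat R R'' ∧
      ∃ s : R''ˣ, (∀ k : ℕ, 0 < k → k ≤ N → IsUnit ((s : R'') ^ k - 1)) ∧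
        ∀ (j : ℕ) (F : A), ∃ H : R'' ⊗[R] A, ψ.toLinearMap.lTensor R'' H = subst ((s : R'') ^ j) (ψ F))
    (F : A) (n : ℕ) : monomial n ((ψ F).coeff n) ∈ ψ.toLinearMap.range := by
  classical
  set P := ψ F
  set N := max P.natDegree n
  obtain ⟨R'', _, _, hff, s, hs, hH⟩ := hgr N
  let π := (ψ.toLinearMap.range).mkQ
  let q : Fin (N + 1) → R'' ⊗[R] (R'[X] ⧸ ψ.toLinearMap.range) := fun k =>
    (1 : R'') ⊗ₜ[R] π (monomial (k : ℕ) (P.coeff k))
  let V := Matrix.vandermonde fun j : Fin (N + 1) => (s : R'') ^ (j : ℕ)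
  have hV : ∀ j : Fin (N + 1), ∑ k, V j k • q k = 0 := by
    intro j
    obtain ⟨H, hH⟩ := hH j F
    have h := congrArg (π.lTensor R'') hH
    rw [← LinearMap.lTensor_comp_apply, show π.comp ψ.toLinearMap = 0 from
      LinearMap.range_le_ker_iff.1 (by rw [Submodule.ker_mkQ]), LinearMap.lTensor_zero, LinearMap.zero_apply,
      subst_eq _ _ (N + 1) (Nat.lt_succ_of_le (le_max_left _ _)), map_sum, ← Fin.sum_univ_eq_sum_range] at h
    refine Eq.trans (Finset.sum_congr rfl fun k _ => ?_) h.symm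
    simp [V, q, Matrix.vandermonde_apply, TensorProduct.smul_tmul']
  have hdet : IsUnit V.det := by
    rw [Matrix.det_vandermonde]
    refine IsUnit.prod_univ_iff.2 fun i => IsUnit.prod_iff.2 fun k hk => ?_
    have hik : (i : ℕ) < k := by simpa using hk
    have e : (s : R'') ^ (k : ℕ) - (s : R'') ^ (i : ℕ) = (s : R'') ^ (i : ℕ) * ((s : R'') ^ ((k : ℕ) - i) - 1) := by
      rw [mul_sub, mul_one, ← pow_add, Nat.add_sub_cancel' hik.le]
    rw [e]
    exact (s.isUnit.pow _).mul (hs _ (Nat.sub_pos_of_lt hik) (by omega))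
  have hq : ∀ k, q k = 0 := by
    intro k
    have h := congrArg (fun v : Fin (N + 1) → _ => ∑ j, V⁻¹ k j • v j) (funext hV)
    simp only [Pi.zero_apply, smul_zero, Finset.sum_const_zero, Finset.smul_sum, smul_smul] at h
    rw [Finset.sum_comm] at h
    simp only [← Finset.sum_smul, ← Matrix.mul_apply, Matrix.nonsing_inv_mul V hdet, Matrix.one_apply, ite_smul,
      one_smul, zero_smul, Finset.sum_ite_eq, Finset.mem_univ, if_true] at h
    exact h
  have := Module.FaithfullyFlat.tensorProduct_mk_injective (A := R) (B := R'') (R'[X] ⧸ ψ.toLinearMap.range)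
    ((hq ⟨n, Nat.lt_succ_of_le (le_max_right _ _)⟩).trans (TensorProduct.tmul_zero _ _).symm :
      (1 : R'') ⊗ₜ[R] π (monomial n (P.coeff n)) = (1 : R'') ⊗ₜ[R] 0)
  exact (Submodule.Quotient.mk_eq_zero _).1 this

/-- The image is everything. -/
theorem surjective
    (hgr : ∀ N : ℕ, ∃ (R'' : Type u) (_ : CommRing R'') (_ : Algebra R R''), Module.FaithfullyFlat R R'' ∧
      ∃ s : R''ˣ, (∀ k : ℕ, 0 < k → k ≤ N → IsUnit ((s : R'') ^ k - 1)) ∧
        ∀ (j : ℕ) (F : A), ∃ H : R'' ⊗[R] A, ψ.toLinearMap.lTensor R'' H = subst ((s : R'') ^ j) (ψ F))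
    (h0 : ∀ r : R', ∃ F, (ψ F).coeff 0 = r) (h1 : ∀ q : Ideal R', q.IsMaximal → ∃ F, (ψ F).coeff 1 ∉ q) :
    Function.Surjective ψ := by
  have hC : ∀ r : R', C r ∈ ψ.range := fun r => by
    obtain ⟨F, hF⟩ := h0 r
    have h := monomial_mem ψ hgr F 0
    rw [hF, monomial_zero_left] at h
    exact h
  let J : Ideal R' :=
    { carrier := {r | C r * X ∈ ψ.range}
      zero_mem' := ⟨0, by simp⟩
      add_mem' := fun {a b} ha hb => by
        show C (a + b) * X ∈ ψ.range
        rw [map_add, add_mul]; exact add_mem ha hb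
      smul_mem' := fun c a ha => by
        show C (c * a) * X ∈ ψ.range
        rw [map_mul, mul_assoc]; exact mul_mem (hC c) ha }
  have hJ : (1 : R') ∈ J := by
    by_contra h
    obtain ⟨q, hq, hle⟩ := Ideal.exists_le_maximal J (mt (Ideal.eq_top_iff_one J).1 h)
    obtain ⟨F, hF⟩ := h1 q hq
    refine hF (hle ?_)
    have h' := monomial_mem ψ hgr F 1
    rw [← C_mul_X_pow_eq_monomial, pow_one] at h'
    exact h'
  have hX : (X : R'[X]) ∈ ψ.range := by simpa using (show C (1 : R') * X ∈ ψ.range from hJ)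
  intro P
  change P ∈ ψ.range
  induction P using Polynomial.induction_on' with
  | add p q hp hq => exact add_mem hp hq
  | monomial n r =>
    rw [← C_mul_X_pow_eq_monomial]
    exact mul_mem (hC r) (pow_mem hX n)

end Groth.Agent.R1Closed
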