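import Groth.Agent.Rank2Red38.R1ClosedPts
import Groth.Agent.Rank2Red38.R1ClosedAlg
import Groth.Agent.GrpSchLib.RankOneTorusPts
import Groth.Agent.GrpSchLib.RankOneNonComm
import Groth.Agent.RedSub30.TorusClosed
import Groth.Agent.FpqcDescLib.Closed
import Mathlib.Algebra.DualNumber

/-! A root group, with its torus, is a closed subgroup. -/

set_option autoImplicit false
set_option linter.style.haveILetI false

universe u

open CategoryTheory CategoryTheory.Limits AlgebraicGeometry MonoidalCategory CartesianMonoidalCategory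
open scoped MonObj TensorProduct Polynomial

noncomputable section

namespace Groth.Agent.R1Closed

open GrpSchLib RankOne

variable {S : Scheme.{u}} {G T : Over S} [GrpObj G] [GrpObj T] [IsAffineHom G.hom] [IsAffineHom T.hom]
  (i : T ⟶ G) [IsMonHom i] (α : T ⟶ Red.Gm S) [IsMonHom α] (pp : Red.Ga S ⟶ G) [IsMonHom pp]

/-- A diagonalisable group is flat. -/
theorem flat_DS (Y : Scheme.{u}) (M : Type) [AddCommGroup M] : Flat (Red.DS Y M).hom := by
  haveI : Flat (Red.diag (ULift.{u} ℤ) M).hom := Flat.SpecMap_iff.2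
    (RingHom.flat_algebraMap_iff.2
      (inferInstance : Module.Flat (ULift.{u} ℤ) (MonoidAlgebra (ULift.{u} ℤ) (Multiplicative M))))
  exact inferInstanceAs (Flat (pullback.snd (Red.diag (ULift.{u} ℤ) M).hom _))

omit [GrpObj G] [IsAffineHom G.hom] [IsAffineHom T.hom] in
/-- A torus is flat. -/
theorem flat_torus (hT : Red.IsTorus T) : Flat T.hom := by
  obtain ⟨S', f, hflat, hsurj, hqc, hloc⟩ := hT
  choose O hO r hiso using hloc
  have hcov : FpqcDescLib.Covers f :=
    FpqcDescLib.covers_of_hcov f ⟨S', f, 𝟙 _, Category.id_comp _, hsurj, hflat, hqc⟩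
  haveI : IsZariskiLocalAtTarget @Flat.{u} := HasRingHomProperty.instIsZariskiLocalAtTarget @Flat.{u}
  refine hcov.descends @Flat.{u} T.hom (pullback.snd T.hom f) (pullback.fst T.hom f)
    (IsPullback.of_hasPullback T.hom f).flip ?_
  refine IsZariskiLocalAtTarget.of_forall_exists_morphismRestrict fun s' => ⟨O s', hO s', ?_⟩
  obtain ⟨e⟩ := hiso s'
  haveI := flat_DS (O s' : Scheme.{u}) (Fin (r s') → ℤ)
  have H1 : IsPullback ((pullback.snd T.hom f ⁻¹ᵁ O s').ι ≫ pullback.fst T.hom f)
      (pullback.snd T.hom f ∣_ O s') T.hom ((O s').ι ≫ f) :=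
    (isPullback_morphismRestrict _ _).flip.paste_horiz (IsPullback.of_hasPullback T.hom f)
  rw [← H1.isoPullback_hom_snd]
  haveI : IsIso e.hom.hom.hom.left :=
    ⟨e.inv.hom.hom.left, congrArg (fun h => h.hom.hom.left) e.hom_inv_id,
      congrArg (fun h => h.hom.hom.left) e.inv_hom_id⟩
  haveI : Flat (pullback.snd T.hom ((O s').ι ≫ f)) := by
    have hw : e.hom.hom.hom.left ≫ (Red.DS (O s' : Scheme.{u}) (Fin (r s') → ℤ)).hom =
        pullback.snd T.hom ((O s').ι ≫ f) := Over.w e.hom.hom.hom
    rw [← hw]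
    infer_instance
  infer_instance

/-- The product map. -/
abbrev prodMor : T ⊗ Red.Ga S ⟶ G := (i ⊗ₘ pp) ≫ μ[G]

omit [GrpObj T] [IsAffineHom G.hom] [IsAffineHom T.hom] [IsMonHom i] [IsMonHom pp] in
theorem lift_prodMor {X : Over S} (t : X ⟶ T) (x : X ⟶ Red.Ga S) :
    lift t x ≫ prodMor i pp = (t ≫ i) * (x ≫ pp) := by
  rw [Hom.mul_def, ← Category.assoc, lift_map]

instance isAffineHom_ga : IsAffineHom (Red.Ga S).hom := by
  haveI : IsAffine Red.GaZ.{u}.left :=
    inferInstanceAs (IsAffine (Spec (CommRingCat.of (SymmetricAlgebra (ULift.{u} ℤ) (ULift.{u} ℤ)))))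
  haveI : IsAffineHom Red.GaZ.{u}.hom := isAffineHom_of_isAffine _
  exact MorphismProperty.of_isPullback (P := @IsAffineHom.{u}) (IsPullback.of_hasPullback Red.GaZ.{u}.hom
    (IsTerminal.from specULiftZIsTerminal S)) inferInstance

instance isAffineHom_prod : IsAffineHom (T ⊗ Red.Ga S).hom := by
  rw [Over.tensorObj_hom]
  haveI : IsAffineHom (pullback.fst T.hom (Red.Ga S).hom) :=
    MorphismProperty.of_isPullback (P := @IsAffineHom.{u}) (IsPullback.of_hasPullback T.hom (Red.Ga S).hom).flip
      inferInstance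
  infer_instance

/-- Reduction to a dual number. -/
theorem dual_eval {R' L : Type u} [CommRing R'] [CommRing L] (π : R' →+* L) (P : R'[X]) :
    Polynomial.eval₂RingHom ((TrivSqZeroExt.inlHom L L).comp π) (DualNumber.eps : DualNumber L) P =
      TrivSqZeroExt.inl (π (P.coeff 0)) + TrivSqZeroExt.inr (π (P.coeff 1)) := by
  induction P using Polynomial.induction_on' with
  | add p q hp hq =>
    rw [map_add, hp, hq, Polynomial.coeff_add, Polynomial.coeff_add, map_add, map_add, TrivSqZeroExt.inl_add,
      TrivSqZeroExt.inr_add]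
    abel
  | monomial n a =>
    rw [Polynomial.coe_eval₂RingHom, Polynomial.eval₂_monomial, Polynomial.coeff_monomial, Polynomial.coeff_monomial]
    match n with
    | 0 => simp
    | 1 =>
      rw [pow_one, if_neg (by decide), if_pos rfl, map_zero, TrivSqZeroExt.inl_zero, zero_add]
      apply TrivSqZeroExt.ext
      · simp only [RingHom.comp_apply, TrivSqZeroExt.fst_mul, DualNumber.eps, TrivSqZeroExt.fst_inr, mul_zero]
      · simp only [RingHom.comp_apply, TrivSqZeroExt.snd_mul, DualNumber.eps, TrivSqZeroExt.fst_inr, TrivSqZeroExt.snd_inr]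
        simp [TrivSqZeroExt.inlHom]
    | n + 2 =>
      rw [pow_add, pow_two, DualNumber.eps_mul_eps, mul_zero, mul_zero]
      simp

variable [IsClosedImmersion i.left] (hT : Red.IsTorus T)
  (hα : ∀ s : S, (Over.pullback (Red.geomPt s)).map α ≠ 1) [Mono pp]
  (hpp : ∀ (X : Over S) (t : X ⟶ T) (x : X ⟶ Red.Ga S), ∃ x' : X ⟶ Red.Ga S,
    x' ≫ pp = (t ≫ i) * (x ≫ pp) * (t ≫ i)⁻¹ ∧ Red.gaFn x' = Red.gmFn (t ≫ α) * Red.gaFn x)

section Open

variable {U : S.Opens} (hU : IsAffineOpen U)

/-- The structure map of the line over the torus. -/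
abbrev lineStr : Γ(S, U) →+* (ring (U := U) T)[X] := (Polynomial.C).comp (str (U := U) T)

/-- The universal point of the line over the torus. -/
abbrev linePair : obj hU (lineStr (T := T) (U := U)) ⟶ T ⊗ Red.Ga S :=
  lift (mor hU Polynomial.C rfl ≫ gen hU T) (ptFn hU _ Polynomial.X)

omit [GrpObj T] [IsMonHom α] [IsAffineHom G.hom] [IsMonHom pp] [IsClosedImmersion i.left] [IsMonHom i] [Mono pp]
  [IsAffineHom T.hom] in
theorem mor_conj_val {A : Type u} [CommRing A] {χ : Γ(S, U) →+* A}
    (hpp : ∀ (X : Over S) (t : X ⟶ T) (x : X ⟶ Red.Ga S), ∃ x' : X ⟶ Red.Ga S,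
      x' ≫ pp = (t ≫ i) * (x ≫ pp) * (t ≫ i)⁻¹ ∧ Red.gaFn x' = Red.gmFn (t ≫ α) * Red.gaFn x)
    (t : obj hU χ ⟶ T) (a : A) :
    (t ≫ i) * (ptFn hU χ a ≫ pp) * (t ≫ i)⁻¹ = ptFn hU χ ((gmVal hU χ (t ≫ α) : A) * a) ≫ pp := by
  obtain ⟨x', h1, h2⟩ := hpp _ t (ptFn hU χ a)
  rw [← h1]
  refine congrArg (· ≫ pp) ?_
  conv_lhs => rw [← ptFn_fnVal hU χ x']
  congr 1
  rw [fnVal, h2, map_mul, gmVal_coe]
  congr 1
  rw [ptFn, GaPts.gaFn_ptOfFn, RingEquiv.apply_symm_apply]

include hT hα hpp hU in
set_option maxHeartbeats 1600000 in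
theorem surjective_app : Function.Surjective ((prodMor i pp).left.app (G.hom ⁻¹ᵁ U)) := by
  classical
  let R' := ring (U := U) T
  let C' := ring (U := U) G
  letI : Algebra Γ(S, U) R' := (str (U := U) T).toAlgebra
  letI : Algebra Γ(S, U) C' := (str (U := U) G).toAlgebra
  let χX : Γ(S, U) →+* R'[X] := lineStr (T := T) (U := U)
  let k := linePair (T := T) hU
  obtain ⟨ψ, hψ, eψ⟩ := exists_ringHom hU G (k ≫ prodMor i pp)
  let ψA : C' →ₐ[Γ(S, U)] R'[X] := { ψ with commutes' := fun r => RingHom.congr_fun hψ r }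
  -- surjectivity of the ring map of the universal point
  have hsurj : Function.Surjective ψ := by
    refine R1Closed.surjective ψA ?_ ?_ ?_
    · -- stability under the torus
      intro N
      let uT : R' := (gmVal hU (str (U := U) T) (gen hU T ≫ α) : R')
      let h : R' := ∏ k ∈ Finset.Icc 1 N, (uT ^ k - 1)
      let R'' := Localization.Away h
      refine ⟨R'', inferInstance, inferInstance, ?_, ?_⟩
      · haveI : Module.Flat Γ(S, U) R' := by
          haveI : Flat T.hom := flat_torus hT
          have := HasRingHomProperty.appLE @Flat T.hom inferInstance ⟨U, hU⟩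
            ⟨T.hom ⁻¹ᵁ U, hU.preimage T.hom⟩ le_rfl
          rw [Scheme.Hom.appLE_eq_app] at this
          exact RingHom.flat_algebraMap_iff.1 this
        haveI : Module.Flat R' R'' := IsLocalization.flat R'' (Submonoid.powers h)
        haveI : Module.Flat Γ(S, U) R'' := Module.Flat.trans Γ(S, U) R' R''
        rw [← RingHom.faithfullyFlat_algebraMap_iff, RingHom.FaithfullyFlat.iff_flat_and_comap_surjective]
        refine ⟨RingHom.flat_algebraMap_iff.2 ‹_›, fun p => ?_⟩
        let K := p.asIdeal.ResidueField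
        obtain ⟨L, _, θ, b', hL, hb, hex⟩ := exists_notMem hT α hα (base hU (algebraMap Γ(S, U) K))
        obtain ⟨s, hs⟩ := hex ((Finset.Icc 1 N).biUnion fun k => (Polynomial.nthRoots k (1 : L)).toFinset)
        let χL : Γ(S, U) →+* L := θ.comp (algebraMap Γ(S, U) K)
        have hb' : base hU χL = b' := (compat hU θ rfl).symm.trans hb
        subst hb'
        obtain ⟨φ, hφ, eφ⟩ := exists_ringHom hU T s
        have hu : φ uT = (gmVal hU χL (s ≫ α) : L) := by
          rw [eφ, Category.assoc]
          exact (mor_gmVal hU φ hφ _).symm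
        have hh : φ h ≠ 0 := by
          simp only [h, map_prod, map_sub, map_pow, map_one, Finset.prod_ne_zero_iff]
          intro k hk h0
          refine hs (Finset.mem_biUnion.2 ⟨k, hk, ?_⟩)
          rw [Multiset.mem_toFinset, Polynomial.mem_nthRoots (by simp only [Finset.mem_Icc] at hk; omega)]
          have := sub_eq_zero.1 h0
          rw [hu] at this
          exact this
        let φ' : R'' →+* L := IsLocalization.Away.lift h (isUnit_iff_ne_zero.2 hh)
        refine ⟨⟨RingHom.ker φ', RingHom.ker_isPrime φ'⟩, PrimeSpectrum.ext ?_⟩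
        show Ideal.comap (algebraMap Γ(S, U) R'') (RingHom.ker φ') = p.asIdeal
        rw [RingHom.comap_ker, IsScalarTower.algebraMap_eq Γ(S, U) R' R'', ← RingHom.comp_assoc,
          show φ'.comp (algebraMap R' R'') = φ from IsLocalization.Away.lift_comp h _,
          show φ.comp (algebraMap Γ(S, U) R') = χL from hφ, ← RingHom.comap_ker,
          (RingHom.injective_iff_ker_eq_bot θ).1 θ.injective, ← RingHom.ker_eq_comap_bot,
          Ideal.ker_algebraMap_residueField]
      · have hunit : ∀ k, 0 < k → k ≤ N → IsUnit ((algebraMap R' R'' uT) ^ k - 1) := fun k h0 hk => by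
          rw [← map_pow, ← map_one (algebraMap R' R''), ← map_sub]
          exact isUnit_of_dvd_unit (map_dvd _ (Finset.dvd_prod_of_mem (fun k => uT ^ k - 1) (Finset.mem_Icc.2 ⟨h0, hk⟩)))
            (IsLocalization.Away.algebraMap_isUnit h)
        let χ'' : Γ(S, U) →+* R'' := algebraMap Γ(S, U) R''
        let t : obj hU χ'' ⟶ T :=
          mor hU (algebraMap R' R'') (IsScalarTower.algebraMap_eq Γ(S, U) R' R'').symm ≫ gen hU T
        refine ⟨gmVal hU χ'' (t ≫ α), fun k h0 hk => ?_, fun j F => ?_⟩
        · rw [Category.assoc, mor_gmVal]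
          exact hunit k h0 hk
        let L := R'' ⊗[Γ(S, U)] R'[X]
        let M := R'' ⊗[Γ(S, U)] C'
        let χL : Γ(S, U) →+* L := algebraMap Γ(S, U) L
        let χM : Γ(S, U) →+* M := algebraMap Γ(S, U) M
        let iL : R'' →ₐ[Γ(S, U)] L := Algebra.TensorProduct.includeLeft
        let iR : R'[X] →ₐ[Γ(S, U)] L := Algebra.TensorProduct.includeRight
        let jL : R'' →ₐ[Γ(S, U)] M := Algebra.TensorProduct.includeLeft
        let jR : C' →ₐ[Γ(S, U)] M := Algebra.TensorProduct.includeRight
        let ε : M →ₐ[Γ(S, U)] L := Algebra.TensorProduct.map (AlgHom.id Γ(S, U) R'') ψA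
        let tM : obj hU χM ⟶ T := mor hU (jL : _ →+* _) jL.comp_algebraMap ≫ t ^ j
        let gM : obj hU χM ⟶ G := mor hU (jR : _ →+* _) jR.comp_algebraMap ≫ gen hU G
        obtain ⟨c, hc, ec⟩ := exists_ringHom hU G ((tM ≫ i) * gM * (tM ≫ i)⁻¹)
        refine ⟨c F, ?_⟩
        let tL : obj hU χL ⟶ T := mor hU (iL : _ →+* _) iL.comp_algebraMap ≫ t ^ j
        let s : R'' := (gmVal hU χ'' (t ≫ α) : R'') ^ j
        have hpC : (iR : R'[X] →+* L).comp ((Polynomial.C).comp (str (U := U) T)) = χL := iR.comp_algebraMap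
        have hsub : (subst (R := Γ(S, U)) (R' := R') s).comp χX = χL := by
          rw [← hpC, ← RingHom.comp_assoc, ← RingHom.comp_assoc]
          congr 1
          exact RingHom.ext fun r => Polynomial.eval₂_C _ _
        have hval : (gmVal hU χL (tL ≫ α) : L) = iL s := by
          have hp : (t ^ j) ≫ α = (t ≫ α) ^ j := MonObj.pow_comp t j α
          rw [Category.assoc, mor_gmVal, hp, map_pow, Units.val_pow_eq_pow_val]
          rfl
        have e1 : mor hU (ε : _ →+* _) ε.comp_algebraMap ≫ ((tM ≫ i) * gM * (tM ≫ i)⁻¹) =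
            mor hU (subst (R := Γ(S, U)) (R' := R') s) hsub ≫ k ≫ prodMor i pp := by
          have hεL : mor hU (ε : _ →+* _) ε.comp_algebraMap ≫ tM = tL := by
            rw [← Category.assoc, mor_comp]
            congr 2
            exact RingHom.ext fun r => (Algebra.TensorProduct.map_tmul _ _ _ _).trans (by simp; rfl)
          have hεR : mor hU (ε : _ →+* _) ε.comp_algebraMap ≫ gM =
              mor hU (iR : R'[X] →+* L) hpC ≫ k ≫ prodMor i pp := by
            rw [eψ, ← Category.assoc, ← Category.assoc, mor_comp, mor_comp]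
            congr 2
          simp only [MonObj.comp_mul, GrpObj.comp_inv, ← Category.assoc, hεL] at hεR ⊢
          rw [hεR]
          simp only [k, linePair, Category.assoc, lift_prodMor, MonObj.comp_mul]
          simp only [← Category.assoc]
          rw [mor_comp, mor_comp, mor_ptFn, mor_ptFn]
          rw [show (subst (R := Γ(S, U)) (R' := R') s) Polynomial.X = s ⊗ₜ[Γ(S, U)] (Polynomial.X : R'[X]) from
            Polynomial.eval₂_X _ _]
          have hX : s ⊗ₜ[Γ(S, U)] (Polynomial.X : R'[X]) = (gmVal hU χL (tL ≫ α) : L) * iR Polynomial.X := by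
            rw [hval]
            show _ = (s ⊗ₜ[Γ(S, U)] (1 : R'[X])) * ((1 : R'') ⊗ₜ[Γ(S, U)] Polynomial.X)
            rw [Algebra.TensorProduct.tmul_mul_tmul, _root_.mul_one, _root_.one_mul]
          rw [hX, ← mor_conj_val i α pp hU hpp tL]
          have hsC : ((subst (R := Γ(S, U)) (R' := R') s).comp Polynomial.C).comp (str (U := U) T) = χL :=
            (RingHom.comp_assoc _ _ _).trans hsub
          have hiC : ((iR : R'[X] →+* L).comp Polynomial.C).comp (str (U := U) T) = χL :=
            (RingHom.comp_assoc _ _ _).trans hpC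
          have hC : mor hU (χ := str (U := U) T) (χ' := χL)
              ((subst (R := Γ(S, U)) (R' := R') s).comp Polynomial.C) hsC =
              mor hU (χ := str (U := U) T) (χ' := χL) ((iR : R'[X] →+* L).comp Polynomial.C) hiC := by
            congr 1
            exact RingHom.ext fun r => Polynomial.eval₂_C _ _
          rw [hC]
          set t₀ := mor hU (χ := str (U := U) T) (χ' := χL) ((iR : R'[X] →+* L).comp Polynomial.C) hiC ≫ gen hU T
          have hcom : (tL ≫ i) * (t₀ ≫ i) = (t₀ ≫ i) * (tL ≫ i) := by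
            rw [← MonObj.mul_comp, ← MonObj.mul_comp, torus_mul_comm hT]
          calc (tL ≫ i) * ((t₀ ≫ i) * _) * (tL ≫ i)⁻¹
              = ((tL ≫ i) * (t₀ ≫ i)) * _ * (tL ≫ i)⁻¹ := by rw [_root_.mul_assoc (tL ≫ i) (t₀ ≫ i)]
            _ = _ := by rw [hcom]; simp only [_root_.mul_assoc]; rfl
        rw [ec, eψ, ← Category.assoc, ← Category.assoc, mor_comp, mor_comp] at e1
        exact RingHom.congr_fun (ringHom_ext hU G e1) F
    · -- constants
      intro r
      obtain ⟨φi, hφi, eφi⟩ := exists_ringHom hU G (gen hU T ≫ i)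
      have hφ := gen_comp hU i eφi
      have hsur : Function.Surjective φi := by
        rw [hφ]
        exact (appLE_surjective_iff i).2 (i.left.app_surjective _ (hU.preimage G.hom))
      obtain ⟨F, hF⟩ := hsur r
      have hev : (Polynomial.evalRingHom (0 : R')).comp χX = str (U := U) T :=
        RingHom.ext fun x => Polynomial.eval_C
      have e : mor hU (Polynomial.evalRingHom (0 : R')) hev ≫ k ≫ prodMor i pp = gen hU T ≫ i := by
        simp only [k, linePair, lift_prodMor, MonObj.comp_mul]
        simp only [← Category.assoc]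
        rw [mor_comp, mor_ptFn]
        have h1 : (Polynomial.evalRingHom (0 : R')).comp Polynomial.C = RingHom.id R' :=
          RingHom.ext fun x => Polynomial.eval_C
        have h0 : ptFn hU (str (U := U) T) ((Polynomial.evalRingHom (0 : R')) Polynomial.X) = 1 :=
          GaPts.gaFn_injective (by simp [ptFn, GaPts.gaFn_ptOfFn, GaPts.gaFn_one])
        simp only [h1, h0]
        rw [MonObj.one_comp, _root_.mul_one, mor_id, Category.id_comp]
      rw [eψ, ← Category.assoc, mor_comp, eφi] at e
      refine ⟨F, ?_⟩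
      rw [Polynomial.coeff_zero_eq_eval_zero, ← hF, ← ringHom_ext hU G e]
      rfl
    · -- the linear coefficient
      intro q hq
      by_contra hall
      push_neg at hall
      letI := Ideal.Quotient.field q
      let L := R' ⧸ q
      let π : R' →+* L := Ideal.Quotient.mk q
      let D := DualNumber L
      let σ : R'[X] →+* D := Polynomial.eval₂RingHom ((TrivSqZeroExt.inlHom L L).comp π) DualNumber.eps
      let σ₀ : R'[X] →+* D := Polynomial.eval₂RingHom ((TrivSqZeroExt.inlHom L L).comp π) 0
      let χD : Γ(S, U) →+* D := ((TrivSqZeroExt.inlHom L L).comp π).comp (str (U := U) T)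
      have hσ : σ.comp χX = χD := RingHom.ext fun x => Polynomial.eval₂_C _ _
      have hσ₀ : σ₀.comp χX = χD := RingHom.ext fun x => Polynomial.eval₂_C _ _
      have hcomp : σ.comp ψ = σ₀.comp ψ := RingHom.ext fun F => by
        show σ (ψ F) = σ₀ (ψ F)
        rw [dual_eval]
        have h1 : π ((ψ F).coeff 1) = 0 := Ideal.Quotient.eq_zero_iff_mem.2 (hall F)
        rw [h1, TrivSqZeroExt.inr_zero, add_zero]
        simp only [σ₀, Polynomial.coe_eval₂RingHom]
        rw [Polynomial.eval₂_at_zero]
        rfl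
      have e : mor hU σ hσ ≫ k ≫ prodMor i pp = mor hU σ₀ hσ₀ ≫ k ≫ prodMor i pp := by
        rw [eψ, ← Category.assoc, ← Category.assoc, mor_comp, mor_comp]
        congr 2
      simp only [k, linePair] at e
      rw [lift_prodMor, MonObj.comp_mul, MonObj.comp_mul] at e
      simp only [← Category.assoc] at e
      rw [mor_comp, mor_comp, mor_ptFn, mor_ptFn] at e
      have hC : σ.comp Polynomial.C = σ₀.comp Polynomial.C :=
        RingHom.ext fun x => (Polynomial.eval₂_C _ _).trans (Polynomial.eval₂_C _ _).symm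
      simp only [hC, mul_right_inj, cancel_mono] at e
      have e' := ptFn_injective hU _ e
      simp only [σ, σ₀, Polynomial.coe_eval₂RingHom, Polynomial.eval₂_X] at e'
      exact one_ne_zero (α := L) (congrArg TrivSqZeroExt.snd e')
  -- comparison with the functions on the product
  let χW := str (U := U) (T ⊗ Red.Ga S)
  obtain ⟨φ₁, hφ₁, eφ₁⟩ := exists_ringHom hU T (gen hU (T ⊗ Red.Ga S) ≫ fst _ _)
  let θ : R'[X] →+* ring (U := U) (T ⊗ Red.Ga S) :=
    Polynomial.eval₂RingHom φ₁ (fnVal hU χW (gen hU (T ⊗ Red.Ga S) ≫ snd _ _))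
  have hθ : θ.comp χX = χW := by
    exact (RingHom.ext fun x => Polynomial.eval₂_C _ _).trans hφ₁
  have eθ : mor hU θ hθ ≫ k = gen hU (T ⊗ Red.Ga S) := by
    apply CartesianMonoidalCategory.hom_ext
    · simp only [k, linePair, Category.assoc, lift_fst]
      rw [← Category.assoc, mor_comp, eφ₁]
      congr 2
      exact RingHom.ext fun x => Polynomial.eval₂_C _ _
    · simp only [k, linePair, Category.assoc, lift_snd]
      rw [mor_ptFn]
      refine Eq.trans (congrArg (ptFn hU χW) (Polynomial.eval₂_X _ _)) (ptFn_fnVal hU χW _)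
  obtain ⟨ζ, hζ, eζ⟩ := exists_ringHom hU (T ⊗ Red.Ga S) k
  have hθζ : θ.comp ζ = RingHom.id _ := by
    refine ringHom_ext hU (T ⊗ Red.Ga S) (h := by rw [RingHom.comp_assoc, hζ, hθ]) (h' := RingHom.id_comp _) ?_
    rw [mor_id, Category.id_comp, ← mor_comp hU ζ hζ θ hθ, Category.assoc, ← eζ, eθ]
  have hθs : Function.Surjective θ := fun x => ⟨ζ x, RingHom.congr_fun hθζ x⟩
  have e : gen hU (T ⊗ Red.Ga S) ≫ prodMor i pp =
      mor hU (θ.comp ψ) (by rw [RingHom.comp_assoc, hψ, hθ]) ≫ gen hU G := by
    rw [← eθ, Category.assoc, eψ, ← Category.assoc, mor_comp]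
  refine (appLE_surjective_iff _).1 ?_
  have hg := gen_comp hU _ e
  intro x
  obtain ⟨y, hy⟩ := (hθs.comp hsurj) x
  exact ⟨y, (RingHom.congr_fun hg y).symm.trans hy⟩

end Open

include hT hα hpp in
theorem isClosedImmersion_prodMor : IsClosedImmersion (prodMor i pp).left := by
  refine isClosedImmersion_iff_isAffineHom.2 ⟨?_, ?_⟩
  · exact MorphismProperty.of_postcomp (W' := @IsSeparated) @IsAffineHom _ G.hom inferInstance
      (by rw [Over.w]; infer_instance)
  · intro V hV
    haveI : IsAffineHom (prodMor i pp).left := MorphismProperty.of_postcomp (W' := @IsSeparated) @IsAffineHom _ G.hom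
      inferInstance (by rw [Over.w]; infer_instance)
    have key : IsClosedImmersion (prodMor i pp).left := by
      refine IsZariskiLocalAtTarget.of_iSup_eq_top (P := @IsClosedImmersion)
        (fun U : S.affineOpens => G.hom ⁻¹ᵁ (U : S.Opens)) ?_ fun U => ?_
      · rw [← Scheme.Hom.preimage_iSup, iSup_affineOpens_eq_top, Scheme.Hom.preimage_top]
      · have hVU := U.2.preimage G.hom
        haveI : IsAffine (G.hom ⁻¹ᵁ (U : S.Opens) : G.left.Opens).toScheme := hVU
        haveI : IsAffine ((prodMor i pp).left ⁻¹ᵁ (G.hom ⁻¹ᵁ (U : S.Opens)) : (T ⊗ Red.Ga S).left.Opens).toScheme :=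
          hVU.preimage _
        refine IsClosedImmersion.of_surjective_of_isAffine _ ?_
        rw [morphismRestrict_appTop]
        have := surjective_app i α pp hT hα hpp U.2
        have e : ((G.hom ⁻¹ᵁ (U : S.Opens)).ι ''ᵁ ⊤) = G.hom ⁻¹ᵁ (U : S.Opens) := by simp
        refine (Function.Surjective.of_comp_iff'
          (ConcreteCategory.bijective_of_isIso ((T ⊗ Red.Ga S).left.presheaf.map (eqToHom _).op)) _).2 ?_
        exact (show ∀ V' : G.left.Opens, V' = G.hom ⁻¹ᵁ (U : S.Opens) →
          Function.Surjective ((prodMor i pp).left.app V') from fun V' h => by subst h; exact this) _ e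
    exact (isClosedImmersion_iff_isAffineHom.1 key).2 V hV

end Groth.Agent.R1Closed
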