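import Groth.Agent.GrpSchLib.RankOneBase

/-! Points with values in algebras over an affine open of the base. -/

set_option autoImplicit false
set_option linter.style.haveILetI false

universe u

open CategoryTheory CategoryTheory.Limits AlgebraicGeometry MonoidalCategory CartesianMonoidalCategory
open scoped MonObj

noncomputable section

namespace Groth.Agent.R1Closed

open GrpSchLib RankOne

variable {S : Scheme.{u}} {U : S.Opens} (hU : IsAffineOpen U)

/-- The base point of an algebra over the open. -/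
abbrev base {A : Type u} [CommRing A] (χ : Γ(S, U) →+* A) : Spec (CommRingCat.of A) ⟶ S :=
  Spec.map (CommRingCat.ofHom χ) ≫ hU.fromSpec

/-- The test object of an algebra over the open. -/
abbrev obj {A : Type u} [CommRing A] (χ : Γ(S, U) →+* A) : Over S := Over.mk (base hU χ)

theorem compat {A B : Type u} [CommRing A] [CommRing B] {χ : Γ(S, U) →+* A} {χ' : Γ(S, U) →+* B} (σ : A →+* B)
    (h : σ.comp χ = χ') : Spec.map (CommRingCat.ofHom σ) ≫ base hU χ = base hU χ' := by
  subst h
  rw [base, ← Category.assoc, ← Spec.map_comp]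
  rfl

/-- The morphism of test objects of a ring map. -/
def mor {A B : Type u} [CommRing A] [CommRing B] {χ : Γ(S, U) →+* A} {χ' : Γ(S, U) →+* B} (σ : A →+* B)
    (h : σ.comp χ = χ') : obj hU χ' ⟶ obj hU χ :=
  specHom (A := CommRingCat.of A) (B := CommRingCat.of B) σ (compat hU σ h)

theorem mor_comp {A B C : Type u} [CommRing A] [CommRing B] [CommRing C] {χ : Γ(S, U) →+* A}
    {χ' : Γ(S, U) →+* B} {χ'' : Γ(S, U) →+* C} (σ : A →+* B) (h : σ.comp χ = χ') (τ : B →+* C)
    (h' : τ.comp χ' = χ'') :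
    mor hU τ h' ≫ mor hU σ h = mor hU (τ.comp σ) (by rw [RingHom.comp_assoc, h, h']) := by
  ext1
  exact (Spec.map_comp _ _).symm

theorem mor_id {A : Type u} [CommRing A] {χ : Γ(S, U) →+* A} :
    mor hU (RingHom.id A) (RingHom.id_comp χ) = 𝟙 _ := by
  ext1
  exact Spec.map_id _

/-- A point of the line with given value. -/
def ptFn {A : Type u} [CommRing A] (χ : Γ(S, U) →+* A) (a : A) : obj hU χ ⟶ Red.Ga S :=
  GaPts.ptOfFn ((sval (A := CommRingCat.of A) (base hU χ)).symm a)

/-- The value of a point of the line. -/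
def fnVal {A : Type u} [CommRing A] (χ : Γ(S, U) →+* A) (x : obj hU χ ⟶ Red.Ga S) : A :=
  sval (A := CommRingCat.of A) (base hU χ) (Red.gaFn x)

theorem ptFn_fnVal {A : Type u} [CommRing A] (χ : Γ(S, U) →+* A) (x : obj hU χ ⟶ Red.Ga S) :
    ptFn hU χ (fnVal hU χ x) = x := by
  rw [ptFn, fnVal, RingEquiv.symm_apply_apply]
  exact GaPts.gaFn_injective (GaPts.gaFn_ptOfFn _)

theorem ptFn_injective {A : Type u} [CommRing A] (χ : Γ(S, U) →+* A) : Function.Injective (ptFn hU χ) :=
  fun a b h => by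
    have := congrArg (fnVal hU χ) h
    simpa [ptFn, fnVal, GaPts.gaFn_ptOfFn] using this

theorem mor_ptFn {A B : Type u} [CommRing A] [CommRing B] {χ : Γ(S, U) →+* A} {χ' : Γ(S, U) →+* B} (σ : A →+* B)
    (h : σ.comp χ = χ') (a : A) : mor hU σ h ≫ ptFn hU χ a = ptFn hU χ' (σ a) :=
  specHom_ptOfFn (A := CommRingCat.of A) (B := CommRingCat.of B) σ _ a

/-- The value of a point of the multiplicative group. -/
def gmVal {A : Type u} [CommRing A] (χ : Γ(S, U) →+* A) : (obj hU χ ⟶ Red.Gm S) →* Aˣ :=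
  (Units.map (sval (A := CommRingCat.of A) (base hU χ)).toRingHom.toMonoidHom).comp (GmPts.equiv _).toMonoidHom

theorem gmVal_coe {A : Type u} [CommRing A] (χ : Γ(S, U) →+* A) (x : obj hU χ ⟶ Red.Gm S) :
    (gmVal hU χ x : A) = sval (A := CommRingCat.of A) (base hU χ) (Red.gmFn x) := rfl

theorem mor_gmVal {A B : Type u} [CommRing A] [CommRing B] {χ : Γ(S, U) →+* A} {χ' : Γ(S, U) →+* B} (σ : A →+* B)
    (h : σ.comp χ = χ') (x : obj hU χ ⟶ Red.Gm S) :
    (gmVal hU χ' (mor hU σ h ≫ x) : B) = σ (gmVal hU χ x : A) := by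
  rw [gmVal_coe, gmVal_coe, GmPts.gmFn_comp]
  exact sval_specHom (A := CommRingCat.of A) (B := CommRingCat.of B) σ (compat hU σ h) _

section Scheme

variable (X : Over S)

/-- Functions on the part of `X` over the open. -/
abbrev ring : CommRingCat.{u} := Γ(X.left, X.hom ⁻¹ᵁ U)

/-- The structure map. -/
abbrev str : Γ(S, U) →+* ring (U := U) X := (X.hom.app U).hom

variable [IsAffineHom X.hom]

/-- The universal point over the open. -/
def gen : obj hU (str (U := U) X) ⟶ X :=
  Over.homMk (hU.preimage X.hom).fromSpec (by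
    show _ = Spec.map (X.hom.app U) ≫ hU.fromSpec
    rw [← Scheme.Hom.appLE_eq_app]
    exact (IsAffineOpen.SpecMap_appLE_fromSpec X.hom hU (hU.preimage X.hom) le_rfl).symm)

theorem exists_ringHom {A : Type u} [CommRing A] {χ : Γ(S, U) →+* A} (x : obj hU χ ⟶ X) :
    ∃ (φ : ring (U := U) X →+* A) (h : φ.comp (str (U := U) X) = χ), x = mor hU φ h ≫ gen hU X := by
  haveI : IsAffineHom X.hom := inferInstance
  have hV := hU.preimage X.hom
  have hr : Set.range x.left ⊆ Set.range hV.fromSpec := by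
    rintro _ ⟨p, rfl⟩
    rw [IsAffineOpen.range_fromSpec]
    show X.hom (x.left p) ∈ (U : Set S)
    rw [← Scheme.Hom.comp_apply, Over.w x, ← hU.range_fromSpec]
    exact ⟨_, (Scheme.Hom.comp_apply _ _ p).symm⟩
  let l := IsOpenImmersion.lift hV.fromSpec x.left hr
  let φ := (Spec.preimage l).hom
  have hl : Spec.map (CommRingCat.ofHom φ) ≫ hV.fromSpec = x.left := by
    rw [CommRingCat.ofHom_hom, Spec.map_preimage]
    exact IsOpenImmersion.lift_fac _ _ _
  have h : φ.comp (str (U := U) X) = χ := by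
    have e : Spec.map (CommRingCat.ofHom (φ.comp (str (U := U) X))) ≫ hU.fromSpec =
        Spec.map (CommRingCat.ofHom χ) ≫ hU.fromSpec := by
      rw [CommRingCat.ofHom_comp, Spec.map_comp, Category.assoc]
      refine Eq.trans (congrArg (Spec.map (CommRingCat.ofHom φ) ≫ ·) (Over.w (gen hU X)).symm) ?_
      show Spec.map (CommRingCat.ofHom φ) ≫ hV.fromSpec ≫ X.hom = _
      rw [← Category.assoc, hl, Over.w x]
      rfl
    exact congrArg CommRingCat.Hom.hom (Spec.map_injective ((cancel_mono hU.fromSpec).1 e))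
  exact ⟨φ, h, Over.OverMorphism.ext hl.symm⟩

theorem ringHom_ext {A : Type u} [CommRing A] {χ : Γ(S, U) →+* A} {φ φ' : ring (U := U) X →+* A}
    {h : φ.comp (str (U := U) X) = χ} {h' : φ'.comp (str (U := U) X) = χ}
    (e : mor hU φ h ≫ gen hU X = mor hU φ' h' ≫ gen hU X) : φ = φ' := by
  have e' := congrArg CommaMorphism.left e
  exact congrArg CommRingCat.Hom.hom (Spec.map_injective ((cancel_mono (hU.preimage X.hom).fromSpec).1 e'))

end Scheme

theorem le_preimage {X Y : Over S} (m : X ⟶ Y) : X.hom ⁻¹ᵁ U ≤ m.left ⁻¹ᵁ (Y.hom ⁻¹ᵁ U) :=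
  le_of_eq (by rw [← Scheme.Hom.comp_preimage, Over.w m])

/-- The universal point composed with a morphism is given by the map on functions. -/
theorem gen_comp {X Y : Over S} [IsAffineHom X.hom] [IsAffineHom Y.hom] (m : X ⟶ Y)
    {φ : ring (U := U) Y →+* ring (U := U) X} {h : φ.comp (str (U := U) Y) = str (U := U) X}
    (e : gen hU X ≫ m = mor hU φ h ≫ gen hU Y) :
    φ = (m.left.appLE (Y.hom ⁻¹ᵁ U) (X.hom ⁻¹ᵁ U) (le_preimage m)).hom := by
  have e' : (hU.preimage X.hom).fromSpec ≫ m.left = Spec.map (CommRingCat.ofHom φ) ≫ (hU.preimage Y.hom).fromSpec :=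
    congrArg CommaMorphism.left e
  rw [← IsAffineOpen.SpecMap_appLE_fromSpec m.left (hU.preimage Y.hom) (hU.preimage X.hom) (le_preimage m)] at e'
  exact congrArg CommRingCat.Hom.hom
    (Spec.map_injective ((cancel_mono (hU.preimage Y.hom).fromSpec).1 e')).symm

/-- The map on functions over the open is surjective iff the restriction is a closed immersion. -/
theorem appLE_surjective_iff {X Y : Over S} (m : X ⟶ Y) :
    Function.Surjective (m.left.appLE (Y.hom ⁻¹ᵁ U) (X.hom ⁻¹ᵁ U) (le_preimage m)) ↔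
      Function.Surjective (m.left.app (Y.hom ⁻¹ᵁ U)) := by
  have e : X.hom ⁻¹ᵁ U = m.left ⁻¹ᵁ (Y.hom ⁻¹ᵁ U) := by rw [← Scheme.Hom.comp_preimage, Over.w m]
  haveI : IsIso (X.left.presheaf.map (homOfLE (le_preimage (U := U) m)).op) := by
    haveI : IsIso (homOfLE (le_preimage (U := U) m)) := ⟨homOfLE e.ge, Subsingleton.elim _ _, Subsingleton.elim _ _⟩
    infer_instance
  rw [Scheme.Hom.appLE]
  exact (Function.Surjective.of_comp_iff' (ConcreteCategory.bijective_of_isIso (X.left.presheaf.map (homOfLE (le_preimage (U := U) m)).op)) _)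

end Groth.Agent.R1Closed
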