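import Groth.Agent.Rank2Red38.R1Laws

/-! Closed formulas for the coordinates of `p(x) m(y)` with `y` nilpotent. -/

set_option autoImplicit false

universe u

namespace Groth.Agent.Rank2Red38.R1

theorem sum_succ_mul {R : Type*} [CommRing R] (w : R) (N : ℕ) :
    (∑ n ∈ Finset.range N, ((n : R) + 1) * w ^ n) * (1 - w) ^ 2 = 1 - ((N : R) + 1) * w ^ N + (N : R) * w ^ (N + 1) := by
  induction N with
  | zero => simp
  | succ N ih =>
    rw [Finset.sum_range_succ, add_mul, ih]
    push_cast
    ring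

variable {A : Type u} [CommRing A] (L : Law A) {R : Type u} [CommRing R] [Algebra A R] {N : ℕ} (x y : R)
  (hy : y ^ N = 0)

include hy

/-- The positive coordinate. -/
theorem Law.F_formula (hu : IsUnit (L.g 1)) :
    L.F.toFun R x y * (1 - algebraMap A R (L.g 1) * x * y) = x := by
  set w := algebraMap A R (L.g 1) * x * y with hw
  have hwN : w ^ N = 0 := by rw [hw, mul_pow, hy, mul_zero]
  rw [L.F.apply_eq L.wtF x y hy, show (∑ n ∈ Finset.range N,
    if 0 ≤ n + 1 then algebraMap A R (L.F.coeff n) * x ^ (n + 1 - 0) * y ^ n else 0) = x * ∑ n ∈ Finset.range N, w ^ n by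
    rw [Finset.mul_sum]
    refine Finset.sum_congr rfl fun n _ => ?_
    rw [if_pos (Nat.zero_le _), Nat.sub_zero, show L.F.coeff n = L.g 1 ^ n from (L.unit_case hu n).1, map_pow, hw]
    ring, mul_assoc, geom_sum_mul_neg, hwN, sub_zero, mul_one]

/-- The negative coordinate. -/
theorem Law.G_formula (hu : IsUnit (L.g 1)) :
    L.G.toFun R x y * (1 - algebraMap A R (L.g 1) * x * y) = y := by
  set w := algebraMap A R (L.g 1) * x * y with hw
  have hwN : w ^ N = 0 := by rw [hw, mul_pow, hy, mul_zero]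
  rw [L.G.apply_eq L.wtG x y (pow_eq_zero_of_le (Nat.le_succ N) hy), show (∑ n ∈ Finset.range (N + 1),
    if 1 ≤ n + 0 then algebraMap A R (L.G.coeff n) * x ^ (n + 0 - 1) * y ^ n else 0) = y * ∑ n ∈ Finset.range N, w ^ n by
    rw [Finset.sum_range_succ', Finset.mul_sum, if_neg (by omega), add_zero]
    refine Finset.sum_congr rfl fun n _ => ?_
    rw [if_pos (by omega), Nat.add_zero, Nat.add_sub_cancel,
      show L.G.coeff (n + 1) = L.g 1 ^ n from (L.unit_case hu n).2.1, map_pow, hw]
    ring, mul_assoc, geom_sum_mul_neg, hwN, sub_zero, mul_one]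

/-- The inverse torus coordinate. -/
theorem Law.bi_formula (hu : IsUnit (L.g 1)) :
    L.bi.toFun R x y * (1 - algebraMap A R (L.g 1) * x * y) ^ 2 = 1 := by
  set w := algebraMap A R (L.g 1) * x * y with hw
  have hwN : w ^ N = 0 := by rw [hw, mul_pow, hy, mul_zero]
  rw [L.bi.apply_eq L.wtB x y hy, show (∑ n ∈ Finset.range N,
    if 0 ≤ n + 0 then algebraMap A R (L.bi.coeff n) * x ^ (n + 0 - 0) * y ^ n else 0) =
      ∑ n ∈ Finset.range N, ((n : R) + 1) * w ^ n by
    refine Finset.sum_congr rfl fun n _ => ?_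
    rw [if_pos (Nat.zero_le _), Nat.sub_zero, Nat.add_zero,
      show L.bi.coeff n = ((n : A) + 1) * L.g 1 ^ n from (L.unit_case hu n).2.2, map_mul, map_pow, map_add,
      map_natCast, map_one, hw]
    ring, sum_succ_mul, hwN, pow_succ, hwN]
  ring

omit hy in
/-- The coordinates over a field with vanishing linear coefficient. -/
theorem Law.zero_formula {K : Type u} [Field K] (L : Law K) {R : Type u} [CommRing R] [Algebra K R] {N : ℕ}
    (x y : R) (hy : y ^ N = 0) (hg : L.g 1 = 0) :
    L.F.toFun R x y = x ∧ L.G.toFun R x y = y ∧ L.bi.toFun R x y = 1 := by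
  have hy' := pow_eq_zero_of_le (show N ≤ N + 2 by omega) hy
  refine ⟨?_, ?_, ?_⟩
  · rw [L.F.apply_eq L.wtF x y hy', Finset.sum_range_succ', Finset.sum_eq_zero fun n _ => ?_, zero_add]
    · simp [show L.F.coeff 0 = 1 from L.f_zero]
    · rw [if_pos (Nat.zero_le _), show L.F.coeff (n + 1) = 0 from (L.zero_case hg n).1, map_zero, zero_mul, zero_mul]
  · rw [L.G.apply_eq L.wtG x y hy', Finset.sum_range_succ', Finset.sum_range_succ',
      Finset.sum_eq_zero fun n _ => ?_]
    · simp [show L.G.coeff 1 = 1 from L.g_zero]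
    · rw [if_pos (by omega), show L.G.coeff (n + 1 + 1) = 0 from (L.zero_case hg n).2, map_zero, zero_mul, zero_mul]
  · rw [L.bi.apply_eq L.wtB x y hy', Finset.sum_range_succ', Finset.sum_eq_zero fun n _ => ?_, zero_add]
    · simp [show L.bi.coeff 0 = 1 from L.b_zero]
    · rw [if_pos (Nat.zero_le _), show L.bi.coeff (n + 1) = 0 by
        show L.b (n + 1) = 0
        rw [L.rec_deriv, (L.zero_case hg n).2, mul_zero], map_zero, zero_mul, zero_mul]

end Groth.Agent.Rank2Red38.R1
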