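import Groth.Agent.Rank2Red38.R1Cell
import Groth.Agent.GrpSchLib.RankOneBig
import Groth.Agent.CellExt29.Extend

/-! Homomorphisms out of a rank-one group are constructed on its big cell. -/

set_option autoImplicit false
set_option linter.style.haveILetI false

universe u

open CategoryTheory CategoryTheory.Limits AlgebraicGeometry MonoidalCategory CartesianMonoidalCategory
open scoped MonObj

noncomputable section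

namespace Groth.Agent.GrpSchLib.RankOne

namespace Sys

variable {R G T G' T' : Type*} [CommRing R] [Group G] [Group T] [Group G'] [Group T'] (Φ : Sys R G T)
  (Φ' : Sys R G' T') (fT : T →* T') {q : ℕ} (c : Rˣ)

/-- The image of a cell point. -/
def img (a : R) (t : T) (d : R) : G' :=
  Φ'.m (((c⁻¹ : Rˣ) : R) * a ^ q) * Φ'.I (fT t) * Φ'.p (c * d ^ q)

/-- The proposed map of a rank-one system is multiplicative on the cell. -/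
theorem img_mul (hadd : ∀ a b : R, (a + b) ^ q = a ^ q + b ^ q) (hq1 : ∀ a : R, (1 + a) ^ q = 1 + a ^ q)
    (hα : ∀ t, Φ'.a (fT t) = Φ.a t ^ q) (hav : ∀ v, fT (Φ.av v) = Φ'.av (v ^ q))
    (hinj : ∀ (a a' : R) (t t' : T) (d d' : R),
      Φ.m a * Φ.I t * Φ.p d = Φ.m a' * Φ.I t' * Φ.p d' → a = a' ∧ t = t' ∧ d = d')
    (hunit : ∀ (x y a : R) (t : T) (d : R), Φ.p x * Φ.m y = Φ.m a * Φ.I t * Φ.p d → IsUnit (1 + x * y))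
    {a a₁ a₂ d d₁ d₂ : R} {t t₁ t₂ : T}
    (h : Φ.m a * Φ.I t * Φ.p d = (Φ.m a₁ * Φ.I t₁ * Φ.p d₁) * (Φ.m a₂ * Φ.I t₂ * Φ.p d₂)) :
    Φ'.img fT (q := q) c a t d = Φ'.img fT (q := q) c a₁ t₁ d₁ * Φ'.img fT (q := q) c a₂ t₂ d₂ := by
  have h' : Φ.p d₁ * Φ.m a₂ = Φ.m (((Φ.a t₁⁻¹)⁻¹ : Rˣ) * (-a₁ + a)) * Φ.I (t₁⁻¹ * t * t₂⁻¹) *
      Φ.p (((Φ.a t₂⁻¹)⁻¹ : Rˣ) * (d + -d₂)) := by
    rw [map_mul, map_mul, ← mul_assoc, ← mul_assoc, ← Φ.I_mul_m, mul_assoc _ (Φ.I t₂⁻¹), ← Φ.p_mul_I, Φ.m_add,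
      Φ.p_add, Φ.m_neg, Φ.p_neg, map_inv, map_inv]
    calc Φ.p d₁ * Φ.m a₂ = (Φ.I t₁)⁻¹ * (Φ.m a₁)⁻¹ * ((Φ.m a₁ * Φ.I t₁ * Φ.p d₁) * (Φ.m a₂ * Φ.I t₂ * Φ.p d₂)) *
          (Φ.p d₂)⁻¹ * (Φ.I t₂)⁻¹ := by group
      _ = _ := by rw [← h]; group
  obtain ⟨v, hv⟩ := hunit _ _ _ _ _ h'
  obtain ⟨rfl, rfl, rfl⟩ := hinj _ _ _ _ _ _ (h.trans (Φ.bigCell_mul d₁ a₁ d₂ a₂ t₁ t₂ v hv))
  simp only [img]
  rw [Φ'.bigCell_mul (↑c * d₁ ^ q) (((c⁻¹ : Rˣ) : R) * a₁ ^ q) (↑c * d₂ ^ q) (((c⁻¹ : Rˣ) : R) * a₂ ^ q)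
    (fT t₁) (fT t₂) (v ^ q) ?_]
  · simp only [hadd, map_mul, hav, hα, mul_pow, ← inv_pow, Units.val_pow_eq_pow_val]
    congr 2
    · congr 1; ring
    · ring
  · rw [Units.val_pow_eq_pow_val, hv, hq1, mul_pow]
    rw [mul_mul_mul_comm, Units.mul_inv, one_mul]

end Sys

variable {S : Scheme.{u}} {G T G' T' : Over S} [GrpObj G] [GrpObj T] [GrpObj G'] [GrpObj T']
  {i : T ⟶ G} [IsMonHom i] {α : T ⟶ Red.Gm S} [IsMonHom α] {pp pm : Red.Ga S ⟶ G} [IsMonHom pp] [IsMonHom pm]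
  {av : Red.Gm S ⟶ T} [IsMonHom av]
  {i' : T' ⟶ G'} [IsMonHom i'] {α' : T' ⟶ Red.Gm S} [IsMonHom α'] {pp' pm' : Red.Ga S ⟶ G'} [IsMonHom pp']
  [IsMonHom pm'] {av' : Red.Gm S ⟶ T'} [IsMonHom av']
  (hpp : ∀ (X : Over S) (t : X ⟶ T) (x : X ⟶ Red.Ga S), ∃ x' : X ⟶ Red.Ga S,
    x' ≫ pp = (t ≫ i) * (x ≫ pp) * (t ≫ i)⁻¹ ∧ Red.gaFn x' = Red.gmFn (t ≫ α) * Red.gaFn x)
  (hpm : ∀ (X : Over S) (t : X ⟶ T) (y : X ⟶ Red.Ga S), ∃ y' : X ⟶ Red.Ga S,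
    y' ≫ pm = (t ≫ i) * (y ≫ pm) * (t ≫ i)⁻¹ ∧ Red.gaFn y' * Red.gmFn (t ≫ α) = Red.gaFn y)
  (hT : Red.IsTorus T) (hα : ∀ s : S, (Over.pullback (Red.geomPt s)).map α ≠ 1) (hG : Red.IsReductive G)
  (hΩ : IsOpenImmersion (cellMap i pp pm).left) (h2 : av ≫ α = (𝟙 (Red.Gm S)) ^ 2)
  (hF : ∀ (X : Over S) (x y : X ⟶ Red.Ga S), IsUnit (1 + Red.gaFn x * Red.gaFn y) →
    ∃ (x' y' : X ⟶ Red.Ga S) (z : X ⟶ Red.Gm S), Red.gmFn z = 1 + Red.gaFn x * Red.gaFn y ∧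
      Red.gaFn x' * Red.gmFn z = Red.gaFn x ∧ Red.gaFn y' * Red.gmFn z = Red.gaFn y ∧
      (x ≫ pp) * (y ≫ pm) = (y' ≫ pm) * (z ≫ av ≫ i) * (x' ≫ pp))
  (hpp' : ∀ (X : Over S) (t : X ⟶ T') (x : X ⟶ Red.Ga S), ∃ x' : X ⟶ Red.Ga S,
    x' ≫ pp' = (t ≫ i') * (x ≫ pp') * (t ≫ i')⁻¹ ∧ Red.gaFn x' = Red.gmFn (t ≫ α') * Red.gaFn x)
  (hpm' : ∀ (X : Over S) (t : X ⟶ T') (y : X ⟶ Red.Ga S), ∃ y' : X ⟶ Red.Ga S,
    y' ≫ pm' = (t ≫ i') * (y ≫ pm') * (t ≫ i')⁻¹ ∧ Red.gaFn y' * Red.gmFn (t ≫ α') = Red.gaFn y)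
  (h2' : av' ≫ α' = (𝟙 (Red.Gm S)) ^ 2)
  (hF' : ∀ (X : Over S) (x y : X ⟶ Red.Ga S), IsUnit (1 + Red.gaFn x * Red.gaFn y) →
    ∃ (x' y' : X ⟶ Red.Ga S) (z : X ⟶ Red.Gm S), Red.gmFn z = 1 + Red.gaFn x * Red.gaFn y ∧
      Red.gaFn x' * Red.gmFn z = Red.gaFn x ∧ Red.gaFn y' * Red.gmFn z = Red.gaFn y ∧
      (x ≫ pp') * (y ≫ pm') = (y' ≫ pm') * (z ≫ av' ≫ i') * (x' ≫ pp'))
  (q : ℕ) (hq0 : 0 < q) (hq : ∀ (X : Over S) (a b : Γ(X.left, ⊤)), (a + b) ^ q = a ^ q + b ^ q)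
  (c : 𝟙_ (Over S) ⟶ Red.Gm S) (fT : T ⟶ T') [IsMonHom fT] (hfTα : fT ≫ α' = α ^ q) (hfTav : av ≫ fT = av' ^ q)

include hpp hpm hT hα hG hΩ h2 hF hpp' hpm' h2' hF' hq0 hq hfTα hfTav in
/-- The homomorphism, with its values on both root groups. -/
theorem exists_hom_of_data_full : ∃ f : G ⟶ G', IsMonHom f ∧ i ≫ f = fT ≫ i' ∧
    (∀ (X : Over S) (x y : X ⟶ Red.Ga S), Red.gaFn y = Red.gmFn (toUnit X ≫ c) * Red.gaFn x ^ q →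
      (x ≫ pp) ≫ f = y ≫ pp') ∧
    ∀ (X : Over S) (x y : X ⟶ Red.Ga S), Red.gmFn (toUnit X ≫ c) * Red.gaFn y = Red.gaFn x ^ q →
      (x ≫ pm) ≫ f = y ≫ pm' := by
  let cU := fun X : Over S => GmPts.unitOfPt (toUnit X ≫ c)
  let Φ := fun X => sys i α pp pm hpp hpm av h2 hF X
  let Φ' := fun X => sys i' α' pp' pm' hpp' hpm' av' h2' hF' X
  let W : Over S := (Red.Ga S ⊗ T) ⊗ Red.Ga S
  let F : W ⟶ G' := (Φ' W).img (postHom fT W) (q := q) (cU W) (Red.gaFn (fst _ _ ≫ fst _ _))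
    (fst _ _ ≫ snd _ _) (Red.gaFn (snd _ _))
  have hcU : ∀ {X Y : Over S} (j : Y ⟶ X), j.left.appTop (cU X : Γ(X.left, ⊤)) = (cU Y : Γ(Y.left, ⊤)) := fun j => by
    show j.left.appTop (Red.gmFn (toUnit _ ≫ c)) = Red.gmFn (toUnit _ ≫ c)
    rw [← GmPts.gmFn_comp, ← Category.assoc, toUnit_unique (j ≫ toUnit _) (toUnit _)]
  have hcU' : ∀ {X Y : Over S} (j : Y ⟶ X),
      j.left.appTop ((cU X)⁻¹ : (Γ(X.left, ⊤))ˣ).val = (((cU Y)⁻¹ : _ˣ) : Γ(Y.left, ⊤)) := fun j => by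
    refine ((Units.eq_inv_of_mul_eq_one_left (u := cU _) ?_))
    rw [← hcU j, ← map_mul, Units.mul_inv, map_one]
  have nat : ∀ {X : Over S} (w : X ⟶ W), w ≫ F = (Φ' X).img (postHom fT X) (q := q) (cU X)
      (Red.gaFn (w ≫ fst _ _ ≫ fst _ _)) (w ≫ fst _ _ ≫ snd _ _) (Red.gaFn (w ≫ snd _ _)) := by
    intro X w
    show w ≫ ((GaPts.ptOfFn _ ≫ pm') * (((fst _ _ ≫ snd _ _) ≫ fT) ≫ i') * (GaPts.ptOfFn _ ≫ pp')) =
      (GaPts.ptOfFn _ ≫ pm') * (((w ≫ fst _ _ ≫ snd _ _) ≫ fT) ≫ i') * (GaPts.ptOfFn _ ≫ pp')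
    simp only [MonObj.comp_mul, comp_ptOfFn, map_mul, map_pow, hcU, hcU', GaPts.gaFn_comp, Category.assoc,
      ← GaPts.gaFn_comp]
  have hinj : ∀ (X : Over S) (a a' : Γ(X.left, ⊤)) (t t' : X ⟶ T) (d d' : Γ(X.left, ⊤)),
      (Φ X).m a * (Φ X).I t * (Φ X).p d = (Φ X).m a' * (Φ X).I t' * (Φ X).p d' → a = a' ∧ t = t' ∧ d = d' :=
    fun X a a' t t' d d' hh => by
      obtain ⟨h1, h2', h3⟩ := cell_ext hΩ hh
      exact ⟨by simpa [GaPts.gaFn_ptOfFn] using congrArg Red.gaFn h1, h2',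
        by simpa [GaPts.gaFn_ptOfFn] using congrArg Red.gaFn h3⟩
  have hunit : ∀ (X : Over S) (x y a : Γ(X.left, ⊤)) (t : X ⟶ T) (d : Γ(X.left, ⊤)),
      (Φ X).p x * (Φ X).m y = (Φ X).m a * (Φ X).I t * (Φ X).p d → IsUnit (1 + x * y) :=
    fun X x y a t d hh => isUnit_of_mem_cell hT hα hpp hpm hΩ h2 hF x y _ _ _ hh
  have coord : ∀ {X : Over S} (w : X ⟶ W), w ≫ cellMap i pp pm = (Φ X).m (Red.gaFn (w ≫ fst _ _ ≫ fst _ _)) *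
      (Φ X).I (w ≫ fst _ _ ≫ snd _ _) * (Φ X).p (Red.gaFn (w ≫ snd _ _)) := by
    intro X w
    show _ = (GaPts.ptOfFn _ ≫ pm) * ((w ≫ fst _ _ ≫ snd _ _) ≫ i) * (GaPts.ptOfFn _ ≫ pp)
    rw [← ga_eq_ptOfFn, ← ga_eq_ptOfFn, ← cell_comp]
    congr 1
    ext <;> simp
  have hav : ∀ (X : Over S) (v : (Γ(X.left, ⊤))ˣ), postHom fT X ((Φ X).av v) = (Φ' X).av (v ^ q) := fun X v => by
    show (GmPts.ptOfUnit v ≫ av) ≫ fT = GmPts.ptOfUnit (v ^ q) ≫ av'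
    rw [Category.assoc, hfTav, MonObj.comp_pow, ← ptOfUnit_comp_pow, MonObj.comp_pow, Category.comp_id,
      MonObj.pow_comp]
  have hα' : ∀ (X : Over S) (t : X ⟶ T), (Φ' X).a (postHom fT X t) = (Φ X).a t ^ q := fun X t => by
    show GmPts.unitOfPt ((t ≫ fT) ≫ α') = GmPts.unitOfPt (t ≫ α) ^ q
    rw [Category.assoc, hfTα, MonObj.comp_pow, ← GmPts.equiv_apply, map_pow, GmPts.equiv_apply]
  haveI := hΩ
  let e : 𝟙_ (Over S) ⟶ W := lift (lift 1 1) 1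
  have hone : ∃ e : 𝟙_ (Over S) ⟶ W, e ≫ cellMap i pp pm = 1 :=
    ⟨e, by rw [cell_comp, MonObj.one_comp pm, MonObj.one_comp i, MonObj.one_comp pp, mul_one, mul_one]⟩
  obtain ⟨f, hf, hfc⟩ := CellExt29.exists_extend (cellMap i pp pm) hG hone F fun X x y z hz => by
    rw [nat, nat, nat]
    refine (Φ X).img_mul (Φ' X) _ (cU X) (hq X) (fun a => by rw [hq, one_pow]) (hα' X) (hav X) (hinj X) (hunit X) ?_
    rw [← coord, ← coord, ← coord]; exact hz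
  have hqz : ∀ X : Over S, (0 : Γ(X.left, ⊤)) ^ q = 0 := fun X => zero_pow hq0.ne'
  refine ⟨f, hf, ?_, fun X x y hy => ?_, fun X x y hy => ?_⟩
  · have h1 : i = lift (lift (1 : T ⟶ Red.Ga S) (𝟙 T)) 1 ≫ cellMap i pp pm := by
      rw [cell_comp, MonObj.one_comp pm, MonObj.one_comp pp, _root_.one_mul, _root_.mul_one, Category.id_comp]
    rw [h1, Category.assoc, hfc, nat]
    simp only [lift_fst_assoc, lift_snd_assoc, lift_fst, lift_snd, Sys.img, GaPts.gaFn_one, hqz, mul_zero,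
      Sys.p_zero, Sys.m_zero, _root_.one_mul, _root_.mul_one]
    exact congrArg (· ≫ i') (Category.id_comp fT)
  · have h1 : x ≫ pp = lift (lift (1 : X ⟶ Red.Ga S) 1) x ≫ cellMap i pp pm := by
      rw [cell_comp, MonObj.one_comp pm, MonObj.one_comp i, _root_.one_mul, _root_.one_mul]
    rw [h1, Category.assoc, hfc, nat]
    simp only [lift_fst_assoc, lift_snd_assoc, lift_fst, lift_snd, Sys.img, GaPts.gaFn_one, hqz, mul_zero,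
      Sys.m_zero, map_one, _root_.one_mul]
    exact congrArg (· ≫ pp') (GaPts.gaFn_injective (by dsimp only; rw [GaPts.gaFn_ptOfFn, hy]; rfl))
  · have h1 : x ≫ pm = lift (lift x 1) (1 : X ⟶ Red.Ga S) ≫ cellMap i pp pm := by
      rw [cell_comp, MonObj.one_comp pp, MonObj.one_comp i, _root_.mul_one, _root_.mul_one]
    rw [h1, Category.assoc, hfc, nat]
    simp only [lift_fst_assoc, lift_snd_assoc, lift_fst, lift_snd, Sys.img, GaPts.gaFn_one, hqz, mul_zero,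
      Sys.p_zero, map_one, _root_.mul_one]
    exact congrArg (· ≫ pm') (GaPts.gaFn_injective (by
      dsimp only
      rw [GaPts.gaFn_ptOfFn, ← hy]
      exact Units.inv_mul_cancel_left (cU X) _))

include hpp hpm hT hα hG hΩ h2 hF hpp' hpm' h2' hF' hq0 hq hfTα hfTav in
theorem exists_hom_of_data : ∃ f : G ⟶ G', IsMonHom f ∧ i ≫ f = fT ≫ i' ∧
    ∀ (X : Over S) (x y : X ⟶ Red.Ga S), Red.gaFn y = Red.gmFn (toUnit X ≫ c) * Red.gaFn x ^ q →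
      (x ≫ pp) ≫ f = y ≫ pp' := by
  obtain ⟨f, hf, hi, hp, -⟩ := exists_hom_of_data_full hpp hpm hT hα hG hΩ h2 hF hpp' hpm' h2' hF' q hq0 hq c fT
    hfTα hfTav
  exact ⟨f, hf, hi, hp⟩

end Groth.Agent.GrpSchLib.RankOne
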