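import Groth.Agent.Rank2Red38.R1Base
import Groth.Agent.GrpSchLib.RankOneDense
import Mathlib.RingTheory.Localization.FractionRing
import Mathlib.Algebra.Polynomial.Roots

/-! Membership of `p(x) m(y)` in the cell at a point with values in an algebraically closed field. -/

set_option autoImplicit false
set_option linter.style.haveILetI false
set_option linter.unusedSectionVars false

universe u

open CategoryTheory CategoryTheory.Limits AlgebraicGeometry MonoidalCategory CartesianMonoidalCategory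
open scoped MonObj

noncomputable section

namespace Groth.Agent.Rank2Red38.R1

open GrpSchLib RankOne Polynomial

variable {S : Scheme.{u}} {G T : Over S} [GrpObj G] [GrpObj T]
  {i : T ⟶ G} [IsMonHom i] {α : T ⟶ Red.Gm S} [IsMonHom α] {pp pm : Red.Ga S ⟶ G} [IsMonHom pp]
  [IsMonHom pm] (H : Sys i α pp pm)

variable (i pp pm) in
/-- `p(x) m(y)` is a point of the cell. -/
def InCell {A : Type u} [CommRing A] (b : Spec (CommRingCat.of A) ⟶ S) {R : Type u} [CommRing R] [Algebra A R]
    (x y : R) : Prop :=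
  ∃ c, IsCoord (i := i) (pp := pp) (pm := pm) b x y c

theorem inCell_zero {A : Type u} [CommRing A] (b : Spec (CommRingCat.of A) ⟶ S) {R : Type u} [CommRing R]
    [Algebra A R] (x : R) : InCell i pp pm b x 0 :=
  ⟨(0, 1, x), by show _ = _; rw [M_zero, MonObj.one_comp]; simp⟩

include H in
/-- Membership in the cell is open. -/
theorem exists_nbhd {A : Type u} [CommRing A] {b : Spec (CommRingCat.of A) ⟶ S} {R : Type u} [CommRing R]
    [Algebra A R] (f₁ f₂ : R) {K : Type u} [Field K] [Algebra A K] (ev : R →ₐ[A] K)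
    (h : InCell i pp pm b (ev f₁) (ev f₂)) :
    ∃ r : R, ev r ≠ 0 ∧ ∀ (R' : Type u) [CommRing R'] [Algebra A R'] (σ : R →ₐ[A] R'), IsUnit (σ r) →
      InCell i pp pm b (σ f₁) (σ f₂) := by
  haveI := H.hΩ
  let g : tobj b R ⟶ G := P pp b R f₁ * M pm b R f₂
  have hg : ∀ (R' : Type u) [CommRing R'] [Algebra A R'] (σ : R →ₐ[A] R'),
      tmor b σ ≫ g = P pp b R' (σ f₁) * M pm b R' (σ f₂) := fun R' _ _ σ => by
    rw [MonObj.comp_mul, tmor_P, tmor_M]
  obtain ⟨c, hc⟩ := h
  let q : Spec (CommRingCat.of K) := IsLocalRing.closedPoint K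
  let p₀ : Spec (CommRingCat.of R) := Spec.map (CommRingCat.ofHom ev.toRingHom) q
  have hp : p₀ ∈ g.left ⁻¹ᵁ (cellMap i pp pm).left.opensRange := by
    show g.left ((tmor b ev).left q) ∈ Set.range (cellMap i pp pm).left
    refine ⟨(lift (lift (ga b K c.1) c.2.1) (ga b K c.2.2)).left q, ?_⟩
    have e : lift (lift (ga b K c.1) c.2.1) (ga b K c.2.2) ≫ cellMap i pp pm = tmor b ev ≫ g := by
      rw [cell_comp, hg]; exact hc.symm
    exact congrArg (fun k : tobj b K ⟶ G => k.left q) e
  obtain ⟨_, ⟨r, rfl⟩, hr, hsub⟩ :=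
    PrimeSpectrum.isTopologicalBasis_basic_opens.exists_subset_of_mem_open hp (g.left ⁻¹ᵁ _).2
  refine ⟨r, fun h0 => hr ?_, fun R' _ _ σ hu => ?_⟩
  · show ev r ∈ (q : PrimeSpectrum K).asIdeal
    rw [h0]
    exact Ideal.zero_mem _
  · obtain ⟨a, t, e, he⟩ := exists_coords H.hΩ (tmor b σ ≫ g) fun K' hK b' j _ => by
      letI := hK.toField
      refine exists_coords_of_mem H.hΩ (K := K') (j ≫ tmor b σ ≫ g) ?_
      refine hsub (a := (tmor b σ).left (j.left _)) ?_
      intro hmem
      exact (j.left (IsLocalRing.closedPoint K') : PrimeSpectrum R').isPrime.ne_top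
        (Ideal.eq_top_of_isUnit_mem _ hmem hu)
    refine ⟨(tval b R' (Red.gaFn a), t, tval b R' (Red.gaFn e)), ?_⟩
    show _ = (ga b R' (tval b R' (Red.gaFn a)) ≫ pm) * (t ≫ i) * (ga b R' (tval b R' (Red.gaFn e)) ≫ pp)
    rw [ga_tval, ga_tval, ← hg]
    exact he

section Away

variable {A : Type u} [CommRing A] (Q : A[X]) {R : Type u} [CommRing R] [Algebra A R] (f : A[X] →ₐ[A] R)
  (hu : IsUnit (f Q))

/-- The extension of a map of polynomial algebras to a localisation. -/
def awayHom : Localization.Away Q →ₐ[A] R :=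
  { IsLocalization.Away.lift Q (g := f.toRingHom) hu with
    commutes' := fun a => by
      show IsLocalization.Away.lift Q (g := f.toRingHom) hu (algebraMap A _ a) = _
      rw [IsScalarTower.algebraMap_apply A A[X], IsLocalization.Away.lift_eq]
      exact f.commutes a }

theorem awayHom_algebraMap (p : A[X]) : awayHom Q f hu (algebraMap A[X] _ p) = f p :=
  IsLocalization.Away.lift_eq Q hu p

theorem awayHom_injective [IsDomain A] (hQ : Q ≠ 0) (hf : Function.Injective f) :
    Function.Injective (awayHom Q f hu) := by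
  rw [injective_iff_map_eq_zero]
  intro v hv
  obtain ⟨p, ⟨_, k, rfl⟩, rfl⟩ := IsLocalization.exists_mk'_eq (Submonoid.powers Q) v
  have e := congrArg (awayHom Q f hu)
    (IsLocalization.mk'_spec (Localization.Away Q) p (⟨Q ^ k, k, rfl⟩ : Submonoid.powers Q))
  rw [map_mul, hv, zero_mul, awayHom_algebraMap] at e
  rw [(injective_iff_map_eq_zero f).1 hf p e.symm, IsLocalization.mk'_zero]

end Away

variable {A : Type u} [CommRing A] (b : Spec (CommRingCat.of A) ⟶ S)

/-- The denominator of the coordinates on the line. -/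
def lineDen (x : A) : A[X] := 1 - C (H.d b * x) * X

theorem lineDen_coeff (x : A) : (lineDen H b x).coeff 0 = 1 := by simp [lineDen]

theorem lineDen_aeval (x : A) {R : Type u} [CommRing R] [Algebra A R] (y : R) :
    aeval y (lineDen H b x) = 1 - algebraMap A R (H.d b) * algebraMap A R x * y := by
  simp [lineDen]

/-- The coordinates on an open piece of a line through `(x, 0)`. -/
theorem line_identity (hF : H.Form b) (x : A) (Q : A[X]) (hQ : Q.coeff 0 = 1)
    {c : Localization.Away Q × (tobj b (Localization.Away Q) ⟶ T) × Localization.Away Q}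
    (hc : IsCoord (i := i) (pp := pp) (pm := pm) b (algebraMap A[X] _ (C x)) (algebraMap A[X] _ X) c) :
    c.2.2 * algebraMap A[X] _ (lineDen H b x) = algebraMap A[X] _ (C x) ∧
      c.1 * algebraMap A[X] _ (lineDen H b x) = algebraMap A[X] _ X ∧
      ((chr α b _ c.2.1)⁻¹ : (Localization.Away Q)ˣ) * algebraMap A[X] _ (lineDen H b x) ^ 2 =
        (1 : Localization.Away Q) := by
  have key : ∀ v : Localization.Away Q, (∀ (N : ℕ) (σ : Localization.Away Q →ₐ[A] Trunc A N),
      (∀ p, σ (algebraMap A[X] _ p) = trunc A N p) → σ v = 0) → v = 0 := fun v hv =>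
    away_eq_zero hQ (fun N φ hφ => by
      have hc : ∀ a, φ (algebraMap A (Localization.Away Q) a) = algebraMap A (Trunc A N) a := fun a => by
        rw [IsScalarTower.algebraMap_apply A A[X]]
        exact RingHom.congr_fun hφ (C a)
      exact hv N { φ with commutes' := hc } (RingHom.congr_fun hφ))
  have hP : ∀ N, trunc A N (lineDen H b x) =
      1 - algebraMap A (Trunc A N) (H.d b) * trunc A N (C x) * trunc A N X := fun N => by
    show _ = 1 - trunc A N (C (H.d b)) * trunc A N (C x) * trunc A N X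
    rw [lineDen, map_sub, map_one, map_mul, ← map_mul (trunc A N) (C (H.d b)), ← map_mul C]
  have aux : ∀ (N : ℕ) (σ : Localization.Away Q →ₐ[A] Trunc A N), (∀ p, σ (algebraMap A[X] _ p) = trunc A N p) →
      (H.L b).F.toFun (Trunc A N) (trunc A N (C x)) (trunc A N X) = σ c.2.2 ∧
      (H.L b).G.toFun (Trunc A N) (trunc A N (C x)) (trunc A N X) = σ c.1 ∧
      (H.L b).bi.toFun (Trunc A N) (trunc A N (C x)) (trunc A N X) =
        σ ((chr α b _ c.2.1)⁻¹ : (Localization.Away Q)ˣ) := fun N σ hσ => by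
    have e := coord_eq b H.hΩ (hc.map b σ)
    rw [hσ, hσ] at e
    refine ⟨congrArg (fun c => c.2.2) e, congrArg Prod.fst e, ?_⟩
    show (((chr α b (Trunc A N) (coord (i := i) (pp := pp) (pm := pm) b (Trunc A N) _ _).2.1)⁻¹ : (Trunc A N)ˣ) :
      Trunc A N) = _
    rw [congrArg (fun c => c.2.1) e]
    refine Units.inv_eq_of_mul_eq_one_right ?_
    rw [tmor_chr, ← map_mul, Units.mul_inv, map_one]
  refine ⟨sub_eq_zero.1 (key _ fun N σ hσ => ?_), sub_eq_zero.1 (key _ fun N σ hσ => ?_),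
    sub_eq_zero.1 (key _ fun N σ hσ => ?_)⟩
  · rw [map_sub, map_mul, hσ, hσ, ← (aux N σ hσ).1, hP, sub_eq_zero]
    exact (hF (Trunc A N) N _ _ (trunc_X_pow N)).1
  · rw [map_sub, map_mul, hσ, hσ, ← (aux N σ hσ).2.1, hP, sub_eq_zero]
    exact (hF (Trunc A N) N _ _ (trunc_X_pow N)).2.1
  · rw [map_sub, map_mul, map_pow, hσ, map_one, ← (aux N σ hσ).2.2, hP, sub_eq_zero]
    exact (hF (Trunc A N) N _ _ (trunc_X_pow N)).2.2

section Field

variable {K : Type u} [Field K] (b : Spec (CommRingCat.of K) ⟶ S)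

/-- The point `(x, 0)` has a neighbourhood in its line inside the cell. -/
theorem exists_line (x : K) :
    ∃ (Q : K[X]) (c : Localization.Away Q × (tobj b (Localization.Away Q) ⟶ T) × Localization.Away Q),
      Q.coeff 0 = 1 ∧
      IsCoord (i := i) (pp := pp) (pm := pm) b (algebraMap K[X] _ (C x)) (algebraMap K[X] _ X) c ∧
      c.2.2 * algebraMap K[X] _ (lineDen H b x) = algebraMap K[X] _ (C x) ∧
      c.1 * algebraMap K[X] _ (lineDen H b x) = algebraMap K[X] _ X := by
  obtain ⟨Q₀, h0, hQ₀⟩ := exists_nbhd H (C x) X (aeval (0 : K)) (b := b) (by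
    rw [aeval_X]; exact inCell_zero b _)
  have h0' : Q₀.coeff 0 ≠ 0 := by rw [coeff_zero_eq_aeval_zero]; exact h0
  let Q : K[X] := C (Q₀.coeff 0)⁻¹ * Q₀
  have hu : IsUnit (IsScalarTower.toAlgHom K K[X] (Localization.Away Q) Q₀) := by
    rw [show Q₀ = C (Q₀.coeff 0) * Q by simp [Q, ← mul_assoc, ← C_mul, mul_inv_cancel₀ h0'], map_mul]
    exact ((isUnit_C.2 (isUnit_iff_ne_zero.2 h0')).map _).mul (IsLocalization.Away.algebraMap_isUnit Q)
  obtain ⟨c, hc⟩ := hQ₀ _ _ hu
  have hQ : Q.coeff 0 = 1 := by simp [Q, inv_mul_cancel₀ h0']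
  exact ⟨Q, c, hQ, hc, (line_identity H b (H.form_field b) x Q hQ hc).1,
    (line_identity H b (H.form_field b) x Q hQ hc).2.1⟩

/-- The coordinates of a point of the cell. -/
theorem coords_of_inCell {x y : K} {c : K × (tobj b K ⟶ T) × K}
    (hc : IsCoord (i := i) (pp := pp) (pm := pm) b x y c) :
    c.2.2 * (1 - H.d b * x * y) = x ∧ c.1 * (1 - H.d b * x * y) = y := by
  obtain ⟨Q, cQ, hQ, hcQ, h1, h2⟩ := exists_line H b x
  obtain ⟨Q₃, h3, hQ₃⟩ := exists_nbhd H (C x) X (aeval y) (b := b) (by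
    rw [aeval_X, aeval_C]; exact ⟨c, hc⟩)
  have hQne : Q ≠ 0 := fun h => by simp [h] at hQ
  have hQ₃ne : Q₃ ≠ 0 := fun h => h3 (by simp [h])
  let L := FractionRing K[X]
  let f : K[X] →ₐ[K] L := IsScalarTower.toAlgHom K K[X] L
  have hf : Function.Injective f := IsFractionRing.injective K[X] L
  have hne : ∀ p : K[X], p ≠ 0 → IsUnit (f p) := fun p hp =>
    isUnit_iff_ne_zero.2 ((map_ne_zero_iff f hf).2 hp)
  obtain ⟨c₃, hc₃⟩ := hQ₃ (Localization.Away Q₃) (IsScalarTower.toAlgHom K K[X] _)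
    (IsLocalization.Away.algebraMap_isUnit Q₃)
  let σ₁ := awayHom Q f (hne Q hQne)
  let σ₃ := awayHom Q₃ f (hne Q₃ hQ₃ne)
  have hinj : Function.Injective σ₃ := awayHom_injective Q₃ f _ hQ₃ne hf
  have e1 := hcQ.map b σ₁
  have e3 := hc₃.map b σ₃
  simp only [IsScalarTower.coe_toAlgHom', awayHom_algebraMap, σ₁, σ₃] at e1 e3
  have e := isCoord_unique b H.hΩ e1 e3
  have i1 : c₃.2.2 * algebraMap K[X] _ (lineDen H b x) = algebraMap K[X] _ (C x) := hinj (by
    rw [map_mul]
    show awayHom Q₃ f _ _ * awayHom Q₃ f _ _ = awayHom Q₃ f _ _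
    rw [← (show awayHom Q f _ cQ.2.2 = awayHom Q₃ f _ c₃.2.2 from congrArg (fun c => c.2.2) e), awayHom_algebraMap, awayHom_algebraMap,
      ← awayHom_algebraMap Q f (hne Q hQne) (lineDen H b x), ← map_mul, h1, awayHom_algebraMap])
  have i2 : c₃.1 * algebraMap K[X] _ (lineDen H b x) = algebraMap K[X] _ X := hinj (by
    rw [map_mul]
    show awayHom Q₃ f _ _ * awayHom Q₃ f _ _ = awayHom Q₃ f _ _
    rw [← (show awayHom Q f _ cQ.1 = awayHom Q₃ f _ c₃.1 from congrArg Prod.fst e), awayHom_algebraMap, awayHom_algebraMap,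
      ← awayHom_algebraMap Q f (hne Q hQne) (lineDen H b x), ← map_mul, h2, awayHom_algebraMap])
  let ev := awayHom Q₃ (aeval y) (isUnit_iff_ne_zero.2 h3)
  have e4 := hc₃.map b ev
  simp only [IsScalarTower.coe_toAlgHom', ev, awayHom_algebraMap, aeval_C, aeval_X, Algebra.algebraMap_self_apply] at e4
  have e5 := isCoord_unique b H.hΩ hc e4
  have j1 := congrArg ev i1
  have j2 := congrArg ev i2
  simp only [ev, map_mul, awayHom_algebraMap, lineDen_aeval, aeval_C, aeval_X, Algebra.algebraMap_self_apply] at j1 j2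
  rw [e5]
  exact ⟨j1, j2⟩

theorem ne_zero_of_inCell {x y : K} (h : InCell i pp pm b x y) : 1 - H.d b * x * y ≠ 0 := fun h0 => by
  obtain ⟨c, hc⟩ := h
  obtain ⟨h1, -⟩ := coords_of_inCell H b hc
  rw [h0, mul_zero] at h1
  subst h1
  simp at h0

theorem inCell_of_ne_zero [Infinite K] {x y : K} (h : 1 - H.d b * x * y ≠ 0) : InCell i pp pm b x y := by
  obtain ⟨Q, cQ, hQ, hcQ, h1, -⟩ := exists_line H b x
  let P := lineDen H b x
  have hPy : aeval y P = 1 - H.d b * x * y := lineDen_aeval H b x y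
  let io := IsScalarTower.toAlgHom K K[X] (Localization.Away P)
  let w : Localization.Away P := IsLocalization.Away.invSelf P
  have hw : io P * w = 1 := IsLocalization.Away.mul_invSelf P
  let ev := awayHom P (aeval y) (isUnit_iff_ne_zero.2 (hPy ▸ h))
  obtain ⟨r, hr, hr'⟩ := exists_nbhd H (io (C x) * w) (io (C y - X)) ev (b := b) (by
    rw [show ev (io (C y - X)) = 0 from (awayHom_algebraMap _ _ _ _).trans (by simp)]
    exact inCell_zero b _)
  obtain ⟨N, ⟨_, k, rfl⟩, hN⟩ := IsLocalization.exists_mk'_eq (Submonoid.powers P) r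
  have hspec : r * io (P ^ k) = io N := by rw [← hN]; exact IsLocalization.mk'_spec _ N (⟨P ^ k, k, rfl⟩ : Submonoid.powers P)
  have hN0 : N ≠ 0 := fun h0 => hr (by
    have e := congrArg ev hspec
    rw [h0, map_zero, map_zero, map_mul, mul_eq_zero] at e
    refine e.resolve_right ?_
    show ev (algebraMap K[X] _ (P ^ k)) ≠ 0
    rw [awayHom_algebraMap, map_pow, hPy]
    exact pow_ne_zero _ h)
  have hP0 : P ≠ 0 := fun h0 => by simpa [P, h0] using lineDen_coeff H b x
  have hne : Q * P * N ≠ 0 := mul_ne_zero (mul_ne_zero (fun h => by simp [h] at hQ) hP0) hN0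
  obtain ⟨y₁, hy₁⟩ : ∃ y₁ : K, (Q * P * N).eval y₁ ≠ 0 := by
    by_contra hall
    push Not at hall
    exact hne (Polynomial.funext fun v => by rw [hall v, eval_zero])
  simp only [eval_mul, mul_ne_zero_iff, ← Polynomial.coe_aeval_eq_eval] at hy₁
  let evQ := awayHom Q (aeval y₁) (isUnit_iff_ne_zero.2 hy₁.1.1)
  let evP := awayHom P (aeval y₁) (isUnit_iff_ne_zero.2 hy₁.1.2)
  have hu : IsUnit (evP r) := isUnit_iff_ne_zero.2 fun h0 => hy₁.2 (by
    have e := congrArg evP hspec
    rw [map_mul, h0, zero_mul] at e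
    exact (e.trans (awayHom_algebraMap _ _ _ N)).symm)
  obtain ⟨c₂, hc₂⟩ := hr' K evP hu
  have c₁ := hcQ.map b evQ
  simp only [evQ, awayHom_algebraMap, aeval_C, aeval_X, Algebra.algebraMap_self_apply] at c₁
  have hF : evP (io (C x) * w) = evQ cQ.2.2 := by
    have e1 := congrArg evQ h1
    have e2 := congrArg evP hw
    simp only [evQ, evP, io, map_mul, map_one, IsScalarTower.coe_toAlgHom', awayHom_algebraMap, aeval_C,
      Algebra.algebraMap_self_apply] at e1 e2 ⊢
    linear_combination (evP w) * (-e1) + (evQ cQ.2.2) * e2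
  have hY : evP (io (C y - X)) = y - y₁ := (awayHom_algebraMap _ _ _ _).trans (by simp)
  rw [hF, hY] at hc₂
  obtain ⟨g, hg⟩ := c₁.add_right H hc₂
  rw [add_sub_cancel] at hg
  exact ⟨_, hg⟩

end Field

end Groth.Agent.Rank2Red38.R1
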