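import Groth.Agent.Rank2Red38.R1Hom

/-! The commutation rule of a rank-one system. -/

set_option autoImplicit false
set_option linter.style.haveILetI false
set_option linter.unusedSectionVars false

universe u

open CategoryTheory CategoryTheory.Limits AlgebraicGeometry MonoidalCategory CartesianMonoidalCategory
open scoped MonObj

noncomputable section

namespace Groth.Agent.Rank2Red38.R1

open GrpSchLib RankOne Polynomial

variable {S : Scheme.{u}} {G T : Over S} [GrpObj G] [GrpObj T]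
  {i : T ⟶ G} [IsMonHom i] {α : T ⟶ Red.Gm S} [IsMonHom α] {pp pm : Red.Ga S ⟶ G} [IsMonHom pp]
  [IsMonHom pm]

theorem isMonHom_of_mul {A B : Over S} [GrpObj A] [GrpObj B] (f : A ⟶ B)
    (h : ∀ (Z : Over S) (x y : Z ⟶ A), (x * y) ≫ f = (x ≫ f) * (y ≫ f)) : IsMonHom f := by
  have h1 : η[A] ≫ f = η[B] := by
    have e := h (𝟙_ (Over S)) 1 1
    rw [_root_.one_mul] at e
    have e' := left_eq_mul.1 e
    rwa [← MonObj.one_eq_one, ← MonObj.one_eq_one] at e'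
  refine ⟨h1, ?_⟩
  have e := h _ (fst A A) (snd A A)
  rw [show fst A A * snd A A = μ[A] by rw [Hom.mul_def, lift_fst_snd, Category.id_comp]] at e
  rw [e, Hom.mul_def, lift_fst_comp_snd_comp]

variable (H : Sys i α pp pm)
  (hnc : ∀ s : S, ∃ (X : Over (Spec (CommRingCat.of (AlgebraicClosure (S.residueField s)))))
    (x y : X ⟶ Red.bc (Red.geomPt s) (Red.Ga S)),
    (x ≫ (Over.pullback (Red.geomPt s)).map pp) * (y ≫ (Over.pullback (Red.geomPt s)).map pm) ≠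
      (y ≫ (Over.pullback (Red.geomPt s)).map pm) * (x ≫ (Over.pullback (Red.geomPt s)).map pp))

variable (i pp pm) in
/-- The rule for a constant and a cocharacter, at the points of all test objects. -/
def Rule (q : (𝟙_ (Over S) ⟶ Red.Gm S) × (Red.Gm S ⟶ T)) : Prop :=
  ∀ (X : Over S) (x y : X ⟶ Red.Ga S),
    ((∃ w : X ⟶ (Red.Ga S ⊗ T) ⊗ Red.Ga S, w ≫ cellMap i pp pm = (x ≫ pp) * (y ≫ pm)) ↔
      IsUnit (den q.1 (Red.gaFn x) (Red.gaFn y))) ∧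
    (IsUnit (den q.1 (Red.gaFn x) (Red.gaFn y)) →
      ∃ (x' y' : X ⟶ Red.Ga S) (z : X ⟶ Red.Gm S),
        Red.gmFn z = den q.1 (Red.gaFn x) (Red.gaFn y) ∧
        Red.gaFn x' * Red.gmFn z = Red.gaFn x ∧ Red.gaFn y' * Red.gmFn z = Red.gaFn y ∧
        (x ≫ pp) * (y ≫ pm) = (y' ≫ pm) * (z ≫ q.2 ≫ i) * (x' ≫ pp))

include H hnc in
theorem exists_rule : ∃ q : (𝟙_ (Over S) ⟶ Red.Gm S) × (Red.Gm S ⟶ T),
    IsMonHom q.2 ∧ q.2 ≫ α = (𝟙 (Red.Gm S)) ^ 2 ∧ Rule i pp pm q ∧ IsConst H q.1 := by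
  obtain ⟨a, ha⟩ := exists_const H hnc
  have ha' : IsConst H a := ha
  have hu : IsUnit (Red.gmFn (𝟙 (Red.Gm S))) := (GmPts.unitOfPt (𝟙 (Red.Gm S))).isUnit
  let av : Red.Gm S ⟶ T := avPt i pp pm a (Red.gmFn (𝟙 (Red.Gm S)))
  have hav : ∀ {Z : Over S} (z : Z ⟶ Red.Gm S), z ≫ av = avPt i pp pm a (Red.gmFn z) := fun {Z} z => by
    rw [avPt_comp H hnc ha' z hu, ← GmPts.gmFn_comp, Category.comp_id]
  haveI : IsMonHom av := isMonHom_of_mul av fun Z z w => by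
    rw [hav, hav, hav, GmPts.gmFn_mul]
    exact avPt_mul H hnc ha' (GmPts.unitOfPt z) (GmPts.unitOfPt w)
  refine ⟨(a, av), inferInstance, GmPts.gmFn_injective ?_, fun X x y => ⟨⟨?_, fun hz => ?_⟩, fun hz => ?_⟩, ha'⟩
  · show Red.gmFn (av ≫ α) = Red.gmFn ((𝟙 (Red.Gm S)) ^ 2)
    rw [avPt_alpha H hnc ha' hu, pow_two, pow_two, GmPts.gmFn_mul]
  · rintro ⟨w, hw⟩
    refine isUnit_den_of_coords H ha' (a' := w ≫ fst _ _ ≫ fst _ _) (t := w ≫ fst _ _ ≫ snd _ _)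
      (d' := w ≫ snd _ _) ?_
    show Q pp (Red.gaFn x) * Q pm (Red.gaFn y) = _
    rw [Q_gaFn, Q_gaFn, ← hw, ← cell_comp]
    congr 1
    ext <;> simp
  · obtain ⟨a', t, d', h, -⟩ := exists_coords_den H hnc ha' _ _ hz
    refine ⟨lift (lift a' t) d', ?_⟩
    rw [cell_comp, ← Q_gaFn pp x, ← Q_gaFn pm y]
    exact h.symm
  · obtain ⟨a', d', h, h1, h2, -⟩ := tau_spec H hnc ha' hz
    refine ⟨d', a', GmPts.ptOfUnit hz.unit, ?_, ?_, ?_, ?_⟩
    · rw [← GmPts.val_unitOfPt, GmPts.unitOfPt_ptOfUnit, hz.unit_spec]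
    · rw [← GmPts.val_unitOfPt, GmPts.unitOfPt_ptOfUnit, hz.unit_spec, h1]
    · rw [← GmPts.val_unitOfPt, GmPts.unitOfPt_ptOfUnit, hz.unit_spec, h2]
    · rw [← Category.assoc (GmPts.ptOfUnit hz.unit), hav, ← GmPts.val_unitOfPt, GmPts.unitOfPt_ptOfUnit,
        hz.unit_spec, ← tau_eq_avPt H hnc ha' hz, ← Q_gaFn pp x, ← Q_gaFn pm y]
      exact h

include H hnc in
theorem unique_rule {q q' : (𝟙_ (Over S) ⟶ Red.Gm S) × (Red.Gm S ⟶ T)} (hq : Rule i pp pm q)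
    (hc : IsConst H q.1) (hq' : Rule i pp pm q') : q' = q := by
  have key : ∀ (X : Over S) (v : (Γ(X.left, ⊤))ˣ), ∃ z z' : X ⟶ Red.Gm S,
      Red.gmFn z = v ∧ z ≫ q.2 = z' ≫ q'.2 ∧
      Red.gmFn z' = den q'.1 1 ((((aU q.1 X)⁻¹ : (Γ(X.left, ⊤))ˣ) : Γ(X.left, ⊤)) * ((v : Γ(X.left, ⊤)) - 1)) ∧
      (v : Γ(X.left, ⊤)) = den q'.1 1 ((((aU q.1 X)⁻¹ : (Γ(X.left, ⊤))ˣ) : Γ(X.left, ⊤)) * ((v : Γ(X.left, ⊤)) - 1)) := fun X v => by
    let x : X ⟶ Red.Ga S := GaPts.ptOfFn 1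
    let y : X ⟶ Red.Ga S := GaPts.ptOfFn ((((aU q.1 X)⁻¹ : (Γ(X.left, ⊤))ˣ) : Γ(X.left, ⊤)) * ((v : Γ(X.left, ⊤)) - 1))
    have hd : den q.1 (Red.gaFn x) (Red.gaFn y) = v := by
      simp only [x, y, GaPts.gaFn_ptOfFn]
      exact den_avPt (a := q.1) (v : Γ(X.left, ⊤))
    have hz : IsUnit (den q.1 (Red.gaFn x) (Red.gaFn y)) := hd ▸ v.isUnit
    obtain ⟨x₁, y₁, z, hz1, f₁, -, e₁⟩ := (hq X x y).2 hz
    obtain ⟨x₂, y₂, z', hz2, f₂, -, e₂⟩ := (hq' X x y).2 ((hq' X x y).1.1 ((hq X x y).1.2 hz))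
    rw [← Category.assoc] at e₁ e₂
    obtain ⟨-, et, ed⟩ := cell_ext H.hΩ (e₁.symm.trans e₂)
    have hx1 : Red.gaFn x = 1 := GaPts.gaFn_ptOfFn _
    rw [hd] at hz1
    rw [hz1, hx1] at f₁
    rw [← ed, hx1] at f₂
    refine ⟨z, z', hz1, et, by simpa [x, y, GaPts.gaFn_ptOfFn] using hz2, ?_⟩
    rw [hz2] at f₂
    simp only [x, y, GaPts.gaFn_ptOfFn] at f₂
    calc (v : Γ(X.left, ⊤)) = (v : Γ(X.left, ⊤)) * (Red.gaFn x₁ * den q'.1 1 _) := by rw [f₂, _root_.mul_one]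
      _ = _ := by rw [← _root_.mul_assoc, mul_comm (v : Γ(X.left, ⊤)), f₁, _root_.one_mul]
  have h1 : q'.1 = q.1 := by
    refine ext_spec fun A b j => GmPts.gmFn_injective ?_
    dsimp only
    rw [← (toUnit_unique (toUnit (Over.mk b)) j)]
    refine fn_ext fun B _ b' k => ?_
    rw [← GmPts.gmFn_comp, ← GmPts.gmFn_comp, ← Category.assoc, ← Category.assoc, comp_toUnit, hc]
    let π : Spec (CommRingCat.of (Trunc B 2)) ⟶ S := tb b' (Trunc B 2)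
    let X := tobj b' (Trunc B 2)
    let σ : B →ₐ[B] Trunc B 2 := Algebra.ofId B (Trunc B 2)
    have hv : IsUnit (1 + (tval b' (Trunc B 2)).symm (trunc B 2 Polynomial.X) : Γ(X.left, ⊤)) :=
      IsNilpotent.isUnit_one_add (IsNilpotent.map ⟨2, trunc_X_pow 2⟩ _)
    obtain ⟨-, -, -, -, -, e⟩ := key X hv.unit
    have hval : ∀ r : 𝟙_ (Over S) ⟶ Red.Gm S, tval b' (Trunc B 2) (Red.gmFn (toUnit X ≫ r)) =
        algebraMap B (Trunc B 2) (tval b' B (Red.gmFn (toUnit (tobj b' B) ≫ r))) := fun r => by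
      rw [← comp_toUnit (tmor b' σ), Category.assoc, GmPts.gmFn_comp, tval_tmor]
      rfl
    have e' := congrArg (tval b' (Trunc B 2)) e
    rw [hv.unit_spec, den, map_add, map_add, map_one, map_mul, map_mul, map_one, map_mul, map_sub, map_add,
      map_one, RingEquiv.apply_symm_apply, hval] at e'
    have hinv : tval b' (Trunc B 2) (((aU q.1 X)⁻¹ : (Γ(X.left, ⊤))ˣ) : Γ(X.left, ⊤)) *
        algebraMap B (Trunc B 2) (-H.d b') = 1 := by
      rw [← hc B b', ← hval, ← map_mul, ← aU_val, Units.inv_mul, map_one]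
    have e2 : trunc B 2 (C (tval b' B (Red.gmFn (toUnit (tobj b' B) ≫ q'.1))) * Polynomial.X) =
        trunc B 2 (C (-H.d b') * Polynomial.X) := by
      rw [map_mul, map_mul]
      show algebraMap B (Trunc B 2) _ * _ = algebraMap B (Trunc B 2) _ * _
      linear_combination (-algebraMap B (Trunc B 2) (-H.d b')) * e' -
        (algebraMap B (Trunc B 2) (tval b' B (Red.gmFn (toUnit (tobj b' B) ≫ q'.1))) * trunc B 2 Polynomial.X) * hinv
    simpa using trunc_eq_iff.1 e2 1 (by norm_num)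
  refine Prod.ext h1 ?_
  obtain ⟨z, z', hz, he, hz', -⟩ := key (Red.Gm S) (GmPts.unitOfPt (𝟙 _))
  rw [h1, den_avPt (a := q.1)] at hz'
  have e1 : z = 𝟙 _ := GmPts.gmFn_injective hz
  have e2 : z' = 𝟙 _ := GmPts.gmFn_injective hz'
  rw [e1, e2, Category.id_comp, Category.id_comp] at he
  exact he.symm

end Groth.Agent.Rank2Red38.R1
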