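import Groth.Agent.Rank2Red38.R1GenAlg
import Groth.Agent.GrpSchLib.GaPts
import Mathlib.AlgebraicGeometry.Morphisms.FlatDescent
import Mathlib.RingTheory.AdjoinRoot

/-! Covers on which a monic polynomial in global functions has a root. -/

set_option autoImplicit false
set_option linter.style.haveILetI false

universe u

open CategoryTheory CategoryTheory.Limits AlgebraicGeometry MonoidalCategory CartesianMonoidalCategory
open scoped MonObj

namespace Groth.Agent.GrpSchLib.RankOne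

variable {S : Scheme.{u}}

/-- A monic polynomial in global functions has a root after a covering. -/
theorem exists_root_cover (X : Over S) (P : Polynomial Γ(X.left, ⊤)) (hP : P.Monic) (hd : P.natDegree ≠ 0) :
    ∃ (X' : Over S) (f : X' ⟶ X) (a : Γ(X'.left, ⊤)), Epi f ∧ (P.map f.left.appTop.hom).eval a = 0 := by
  let Z := Γ(X.left, ⊤)
  rcases subsingleton_or_nontrivial Z with hZ | hZ
  · exact ⟨X, 𝟙 X, 0, inferInstance, Subsingleton.elim (α := Z) _ _⟩
  let A := AdjoinRoot P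
  haveI : Module.Free Z A := hP.free_adjoinRoot
  haveI : Module.Finite Z A := hP.finite_adjoinRoot
  haveI : Nonempty (Fin P.natDegree) := ⟨⟨0, Nat.pos_of_ne_zero hd⟩⟩
  haveI : Nontrivial A := (AdjoinRoot.powerBasisAux' hP).repr.toEquiv.nontrivial
  let q : Spec (CommRingCat.of A) ⟶ Spec Z := Spec.map (CommRingCat.ofHom (algebraMap Z A))
  haveI : Module.FaithfullyFlat Z A := inferInstance
  haveI : Flat q := (Flat.SpecMap_iff (f := CommRingCat.ofHom (algebraMap Z A))).2
    (RingHom.flat_algebraMap_iff.2 (inferInstanceAs (Module.Flat Z A)))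
  haveI : Surjective q := ⟨(RingHom.FaithfullyFlat.iff_flat_and_comap_surjective.1
    (RingHom.faithfullyFlat_algebraMap_iff.2 ‹Module.FaithfullyFlat Z A›)).2⟩
  haveI : QuasiCompact q := inferInstance
  let g : X.left ⟶ Spec Z := X.left.toSpecΓ
  let X' : Over S := Over.mk (pullback.fst g q ≫ X.hom)
  let f : X' ⟶ X := Over.homMk (pullback.fst g q) rfl
  haveI : Flat f.left := inferInstanceAs (Flat (pullback.fst g q))
  haveI : Surjective f.left := inferInstanceAs (Surjective (pullback.fst g q))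
  haveI : QuasiCompact f.left := inferInstanceAs (QuasiCompact (pullback.fst g q))
  haveI : Epi f.left := Flat.epi_of_flat_of_surjective f.left
  haveI : Epi f := (Over.forget S).epi_of_epi_map (inferInstanceAs (Epi f.left))
  let ρ : A →+* Γ(X'.left, ⊤) := ((Scheme.ΓSpecIso (CommRingCat.of A)).inv ≫ (pullback.snd g q).appTop).hom
  have hρ : ρ.comp (AdjoinRoot.of P) = f.left.appTop.hom := by
    refine RingHom.ext fun v => ?_
    have e : (pullback.fst g q).appTop (g.appTop ((Scheme.ΓSpecIso Z).inv v)) =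
        (pullback.snd g q).appTop (q.appTop ((Scheme.ΓSpecIso Z).inv v)) := by
      rw [← GmPts.appTop_comp_apply, ← GmPts.appTop_comp_apply, pullback.condition]
    have e1 : g.appTop ((Scheme.ΓSpecIso Z).inv v) = v := by
      rw [show g.appTop = (Scheme.ΓSpecIso Z).hom from Scheme.toSpecΓ_appTop X.left]
      exact (Scheme.ΓSpecIso Z).commRingCatIsoToRingEquiv.apply_symm_apply v
    have e2 : q.appTop ((Scheme.ΓSpecIso Z).inv v) = (Scheme.ΓSpecIso (CommRingCat.of A)).inv (algebraMap Z A v) :=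
      (congrArg (fun ψ => (ConcreteCategory.hom ψ) v)
        (Scheme.ΓSpecIso_inv_naturality (CommRingCat.ofHom (algebraMap Z A)))).symm
    rw [e1, e2] at e
    exact e.symm
  refine ⟨X', f, ρ (AdjoinRoot.root P), inferInstance, ?_⟩
  rw [← hρ, Polynomial.eval_map, ← Polynomial.hom_eval₂]
  exact (congrArg ρ (AdjoinRoot.eval₂_root P)).trans (map_zero ρ)

/-- A square root of a unit after a covering. -/
theorem exists_sqrt_cover (X : Over S) (v : (Γ(X.left, ⊤))ˣ) :
    ∃ (X' : Over S) (f : X' ⟶ X) (s : (Γ(X'.left, ⊤))ˣ),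
      Epi f ∧ s ^ 2 = Units.map f.left.appTop.hom.toMonoidHom v := by
  rcases subsingleton_or_nontrivial Γ(X.left, ⊤) with hZ | hZ
  · exact ⟨X, 𝟙 X, 1, inferInstance, Units.ext (Subsingleton.elim _ _)⟩
  obtain ⟨X', f, a, hf, ha⟩ := exists_root_cover X (Polynomial.X ^ 2 - Polynomial.C (v : Γ(X.left, ⊤)))
    (Polynomial.monic_X_pow_sub_C _ two_ne_zero) (by rw [Polynomial.natDegree_X_pow_sub_C]; decide)
  simp only [Polynomial.map_sub, Polynomial.map_pow, Polynomial.map_X, Polynomial.map_C, Polynomial.eval_sub,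
    Polynomial.eval_pow, Polynomial.eval_X, Polynomial.eval_C, sub_eq_zero] at ha
  have hu : IsUnit a := (isUnit_pow_iff two_ne_zero).1 (ha ▸ (Units.map f.left.appTop.hom.toMonoidHom v).isUnit)
  exact ⟨X', f, hu.unit, hf, Units.ext (by rw [Units.val_pow_eq_pow_val, hu.unit_spec, ha]; rfl)⟩

/-- A cover on which `x` is a sum of two units, one of which avoids `-1/y`. -/
theorem exists_avoid_cover (X : Over S) (x y : Γ(X.left, ⊤)) (z : (Γ(X.left, ⊤))ˣ)
    (hz : (z : Γ(X.left, ⊤)) = 1 + x * y) :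
    ∃ (X' : Over S) (f : X' ⟶ X) (a b za : (Γ(X'.left, ⊤))ˣ), Epi f ∧
      (b : Γ(X'.left, ⊤)) = f.left.appTop x - a ∧ (za : Γ(X'.left, ⊤)) = 1 + a * f.left.appTop y := by
  rcases subsingleton_or_nontrivial Γ(X.left, ⊤) with hZ | hZ
  · exact ⟨X, 𝟙 X, 1, 1, 1, inferInstance, Subsingleton.elim (α := Γ(X.left, ⊤)) _ _,
      Subsingleton.elim (α := Γ(X.left, ⊤)) _ _⟩
  let k : Γ(X.left, ⊤) := ((z⁻¹ : _ˣ) : Γ(X.left, ⊤)) * x ^ 2
  obtain ⟨X', f, a, hf, ha⟩ := exists_root_cover X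
    (Polynomial.X ^ 3 + Polynomial.C (-(y * k)) * Polynomial.X ^ 2 + Polynomial.C (y - k) * Polynomial.X +
      Polynomial.C 1) (by monicity!) (by
        refine ne_of_eq_of_ne (show _ = 3 by compute_degree!) (by decide))
  simp only [Polynomial.map_add, Polynomial.map_mul, Polynomial.map_neg, Polynomial.map_sub, Polynomial.map_one,
    Polynomial.eval_neg, Polynomial.eval_sub, Polynomial.eval_one, Polynomial.map_pow, Polynomial.map_X, Polynomial.map_C,
    Polynomial.eval_add, Polynomial.eval_mul, Polynomial.eval_pow, Polynomial.eval_X, Polynomial.eval_C, k,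
    map_neg, map_sub, map_mul, map_pow, map_one] at ha
  let z' := Units.map f.left.appTop.hom.toMonoidHom z
  set x' := f.left.appTop x
  set y' := f.left.appTop y
  have hz' : (z' : Γ(X'.left, ⊤)) = 1 + x' * y' := by
    show f.left.appTop (z : Γ(X.left, ⊤)) = _
    rw [hz, map_add, map_mul, map_one]
  set w : Γ(X'.left, ⊤) := f.left.appTop ((z⁻¹ : _ˣ) : Γ(X.left, ⊤))
  have hw : (z' : Γ(X'.left, ⊤)) * w = 1 := by
    show f.left.appTop (z : Γ(X.left, ⊤)) * f.left.appTop _ = _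
    rw [← map_mul, Units.mul_inv, map_one]
  have h1 : a * -(a ^ 2 - y' * (w * x' ^ 2) * a + (y' - w * x' ^ 2)) = 1 := by linear_combination -ha
  let au : (Γ(X'.left, ⊤))ˣ := Units.mkOfMulEqOne _ _ h1
  have h2 : (1 + a * y') * (-(1 - w * x' ^ 2 * a) * ((au⁻¹ : _ˣ) : Γ(X'.left, ⊤)) ^ 3) = 1 := by
    have e : a * ((au⁻¹ : _ˣ) : Γ(X'.left, ⊤)) = 1 := au.mul_inv
    linear_combination (-((au⁻¹ : _ˣ) : Γ(X'.left, ⊤)) ^ 3) * ha +
      (a ^ 2 * ((au⁻¹ : _ˣ) : Γ(X'.left, ⊤)) ^ 2 + a * ((au⁻¹ : _ˣ) : Γ(X'.left, ⊤)) + 1) * e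
  have h3 : (x' - a) * ((x' ^ 2 + x' * a + a ^ 2 - y' * (w * x' ^ 2) * (x' + a) + (y' - w * x' ^ 2)) * w) = 1 := by
    linear_combination (x' ^ 2 * (-w) * x' + 1) * hw + (-w) * ha + (w ^ 2 * x' ^ 3 - w) * hz'
  exact ⟨X', f, au, Units.mkOfMulEqOne _ _ h3, Units.mkOfMulEqOne _ _ h2, hf, rfl, rfl⟩

end Groth.Agent.GrpSchLib.RankOne
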