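import Groth.Agent.Rank2Red38.R1Ext
import Groth.Agent.Rank2Red38.R1GenCover
import Groth.Agent.GrpSchLib.RankOneNonComm

/-! Generators and relations of a rank-one group. -/

set_option autoImplicit false
set_option linter.style.haveILetI false

universe u

open CategoryTheory CategoryTheory.Limits AlgebraicGeometry MonoidalCategory CartesianMonoidalCategory
open scoped MonObj

noncomputable section

namespace Groth.Agent.GrpSchLib.RankOne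

variable {S : Scheme.{u}} {T H : Over S} [GrpObj T] [GrpObj H] {α : T ⟶ Red.Gm S} [IsMonHom α]
  {av : Red.Gm S ⟶ T} [IsMonHom av] {fT : T ⟶ H} [IsMonHom fT] {fα : Red.Ga S ⟶ H} [IsMonHom fα]
  {hw : 𝟙_ (Over S) ⟶ H} {e₁ : 𝟙_ (Over S) ⟶ Red.Ga S} {m : 𝟙_ (Over S) ⟶ Red.Gm S}

section Rel

variable (hT : Red.IsTorus T) (h2 : av ≫ α = (𝟙 (Red.Gm S)) ^ 2) (he₁ : Red.gaFn e₁ = 1) (hm : Red.gmFn m = -1)
  (r1 : ∀ (X : Over S) (t : X ⟶ T) (x x' : X ⟶ Red.Ga S), Red.gaFn x' = Red.gmFn (t ≫ α) * Red.gaFn x →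
    (t ≫ fT) * (x ≫ fα) * (t ≫ fT)⁻¹ = x' ≫ fα)
  (r2 : ∀ (X : Over S) (t : X ⟶ T),
    (toUnit X ≫ hw) * (t ≫ fT) * (toUnit X ≫ hw)⁻¹ = (t * (t ≫ α ≫ av)⁻¹) ≫ fT)
  (r3 : hw ^ 2 = m ≫ av ≫ fT) (r4 : (hw * (e₁ ≫ fα)) ^ 3 = 1)

/-- The points of a torus form a commutative group. -/
abbrev torusCommGroup (hT : Red.IsTorus T) (X : Over S) : CommGroup (X ⟶ T) :=
  { (inferInstance : Group (X ⟶ T)) with mul_comm := torus_mul_comm hT X }

theorem toUnit_gaFn_one (he₁ : Red.gaFn e₁ = 1) (X : Over S) :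
    toUnit X ≫ e₁ = GaPts.ptOfFn 1 :=
  GaPts.gaFn_injective (by simp only [GaPts.gaFn_comp, GaPts.gaFn_ptOfFn, he₁, map_one])

theorem toUnit_gmFn_neg_one (hm : Red.gmFn m = -1) (X : Over S) :
    toUnit X ≫ m = GmPts.ptOfUnit (-1) :=
  GmPts.gmFn_injective (by
    show Red.gmFn (toUnit X ≫ m) = Red.gmFn (GmPts.ptOfUnit (-1))
    rw [GmPts.gmFn_comp, hm, GmPts.gmFn_ptOfUnit, map_neg, map_one, Units.val_neg, Units.val_one])

include hT h2 he₁ hm r1 r2 r3 r4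

/-- The relations, at the points with values in `X`. -/
def genData (X : Over S) :
    letI := torusCommGroup hT X
    Gen Γ(X.left, ⊤) (X ⟶ H) (X ⟶ T) :=
  letI := torusCommGroup hT X
  { u := fun v => GaPts.ptOfFn v ≫ fα
    F := postHom fT X
    a := MonoidHom.mk' (fun t => GmPts.unitOfPt (t ≫ α)) fun t t' => by
      rw [show (t * t') ≫ α = (t ≫ α) * (t' ≫ α) from MonObj.mul_comp t t' α, GmPts.unitOfPt_mul]
    av := MonoidHom.mk' (fun v => GmPts.ptOfUnit v ≫ av) fun v w => by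
      rw [GmPts.ptOfUnit_mul]; exact MonObj.mul_comp _ _ _
    h := toUnit X ≫ hw
    u_add := fun x y => by
      rw [← MonObj.mul_comp _ _ fα]
      exact congrArg (· ≫ fα) (GaPts.gaFn_injective (by simp only [GaPts.gaFn_mul, GaPts.gaFn_ptOfFn]))
    a_av := fun v => by
      show GmPts.unitOfPt ((GmPts.ptOfUnit v ≫ av) ≫ α) = v ^ 2
      rw [Category.assoc, h2, MonObj.comp_pow, Category.comp_id, pow_two, GmPts.unitOfPt_mul,
        GmPts.unitOfPt_ptOfUnit, pow_two]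
    conj := fun t x => r1 X t _ _ (by
      simp only [GaPts.gaFn_ptOfFn]
      rfl)
    conjh := fun t => (r2 X t).trans (by
      show _ = (t * (GmPts.ptOfUnit (GmPts.unitOfPt (t ≫ α)) ≫ av)⁻¹) ≫ fT
      rw [GmPts.ptOfUnit_unitOfPt, Category.assoc])
    hsq := by
      show (toUnit X ≫ hw) * (toUnit X ≫ hw) = (GmPts.ptOfUnit (-1) ≫ av) ≫ fT
      rw [← MonObj.comp_mul, ← pow_two, r3, ← toUnit_gmFn_neg_one hm X]
      simp only [Category.assoc]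
    braid := by
      have h := congrArg (toUnit X ≫ ·) r4
      simp only [MonObj.comp_one, MonObj.comp_pow, MonObj.comp_mul, ← Category.assoc, toUnit_gaFn_one he₁] at h
      rw [← pow_three'] at *
      exact h }

/-- The Bruhat relation at every unit. -/
theorem genData_rel (X : Over S) (v : (Γ(X.left, ⊤))ˣ) :
    letI := torusCommGroup hT X
    let Γ' := genData hT h2 he₁ hm r1 r2 r3 r4 X
    Γ'.h * Γ'.u v * Γ'.h = Γ'.u (-((v⁻¹ : _ˣ) : Γ(X.left, ⊤))) * Γ'.h * Γ'.F (Γ'.av (-v)) *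
      Γ'.u (-((v⁻¹ : _ˣ) : Γ(X.left, ⊤))) := by
  obtain ⟨X', f, s, hf, hs⟩ := exists_sqrt_cover X v
  letI := torusCommGroup hT X'
  have h := (genData hT h2 he₁ hm r1 r2 r3 r4 X').rel (Units.map f.left.appTop.hom.toMonoidHom v) s hs
  rw [← cancel_epi f]
  simp only [genData, postHom, MonoidHom.coe_mk, OneHom.coe_mk, MonoidHom.mk'_apply] at h ⊢
  simp only [MonObj.comp_mul, ← Category.assoc, map_gaFn_ptOfFn, toUnit_unique (f ≫ toUnit X) (toUnit X'),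
    GmPts.ptOfUnit_comp] at h ⊢
  simpa [map_neg] using h

/-- The commutation rule of the generated system. -/
theorem genData_key (X : Over S) (x y : Γ(X.left, ⊤)) (z : (Γ(X.left, ⊤))ˣ)
    (hz : (z : Γ(X.left, ⊤)) = 1 + x * y) :
    letI := torusCommGroup hT X
    let Γ' := genData hT h2 he₁ hm r1 r2 r3 r4 X
    Γ'.u x * Γ'.m y = Γ'.m (((z⁻¹ : _ˣ) : Γ(X.left, ⊤)) * y) * Γ'.F (Γ'.av z) *
      Γ'.u (((z⁻¹ : _ˣ) : Γ(X.left, ⊤)) * x) := by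
  obtain ⟨X', f, a, b, za, hf, hb, hza⟩ := exists_avoid_cover X x y z hz
  letI := torusCommGroup hT X'
  have h := (genData hT h2 he₁ hm r1 r2 r3 r4 X').key (genData_rel hT h2 he₁ hm r1 r2 r3 r4 X')
    (f.left.appTop x) (f.left.appTop y) (Units.map f.left.appTop.hom.toMonoidHom z)
    (by show f.left.appTop (z : Γ(X.left, ⊤)) = _; rw [hz, map_add, map_mul, map_one]) a b za hb hza
  rw [← cancel_epi f]
  simp only [genData, Gen.m, postHom, MonoidHom.coe_mk, OneHom.coe_mk, MonoidHom.mk'_apply] at h ⊢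
  simp only [MonObj.comp_mul, GrpObj.comp_inv, ← Category.assoc, map_gaFn_ptOfFn,
    toUnit_unique (f ≫ toUnit X) (toUnit X'), GmPts.ptOfUnit_comp] at h ⊢
  simpa [map_neg, map_mul] using h

end Rel

variable {G : Over S} [GrpObj G] {i : T ⟶ G} [IsMonHom i] {pp pm : Red.Ga S ⟶ G} [IsMonHom pp] [IsMonHom pm]
  {em : 𝟙_ (Over S) ⟶ Red.Ga S}
  (hpp : ∀ (X : Over S) (t : X ⟶ T) (x : X ⟶ Red.Ga S), ∃ x' : X ⟶ Red.Ga S,
    x' ≫ pp = (t ≫ i) * (x ≫ pp) * (t ≫ i)⁻¹ ∧ Red.gaFn x' = Red.gmFn (t ≫ α) * Red.gaFn x)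
  (hpm : ∀ (X : Over S) (t : X ⟶ T) (y : X ⟶ Red.Ga S), ∃ y' : X ⟶ Red.Ga S,
    y' ≫ pm = (t ≫ i) * (y ≫ pm) * (t ≫ i)⁻¹ ∧ Red.gaFn y' * Red.gmFn (t ≫ α) = Red.gaFn y)
  (h2 : av ≫ α = (𝟙 (Red.Gm S)) ^ 2)
  (hF : ∀ (X : Over S) (x y : X ⟶ Red.Ga S), IsUnit (1 + Red.gaFn x * Red.gaFn y) →
    ∃ (x' y' : X ⟶ Red.Ga S) (z : X ⟶ Red.Gm S), Red.gmFn z = 1 + Red.gaFn x * Red.gaFn y ∧
      Red.gaFn x' * Red.gmFn z = Red.gaFn x ∧ Red.gaFn y' * Red.gmFn z = Red.gaFn y ∧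
      (x ≫ pp) * (y ≫ pm) = (y' ≫ pm) * (z ≫ av ≫ i) * (x' ≫ pp))
  (he₁ : Red.gaFn e₁ = 1) (hem : Red.gaFn em = -1) (hm : Red.gmFn m = -1)

local notation "W₀" => ((e₁ ≫ pp) * (em ≫ pm) * (e₁ ≫ pp))

include hpp hpm h2 hF he₁ hem

theorem w_one_eq (X : Over S) : toUnit X ≫ W₀ = (sys i α pp pm hpp hpm av h2 hF X).w 1 := by
  show _ = (GaPts.ptOfFn _ ≫ pp) * (GaPts.ptOfFn _ ≫ pm) * (GaPts.ptOfFn _ ≫ pp)
  simp only [MonObj.comp_mul, ← Category.assoc, inv_one, Units.val_one, toUnit_gaFn_one he₁]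
  rw [show toUnit X ≫ em = GaPts.ptOfFn (-1) from
    GaPts.gaFn_injective (by simp only [GaPts.gaFn_comp, GaPts.gaFn_ptOfFn, hem, map_neg, map_one])]

/-- The opposite root group is the conjugate of the positive one by the Weyl element. -/
theorem pm_eq_conj (X : Over S) (y : X ⟶ Red.Ga S) :
    y ≫ pm = (toUnit X ≫ W₀) * (y⁻¹ ≫ pp) * (toUnit X ≫ W₀)⁻¹ := by
  rcases subsingleton_or_nontrivial Γ(X.left, ⊤) with hZ | hZ
  · have hy : y = 1 := GaPts.gaFn_injective (Subsingleton.elim (α := Γ(X.left, ⊤)) _ _)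
    rw [hy, inv_one, MonObj.one_comp, MonObj.one_comp, _root_.mul_one, mul_inv_cancel]
  set v := Red.gaFn y
  obtain ⟨X', f, a, hf, ha⟩ := exists_root_cover X (Polynomial.X ^ 2 - Polynomial.C v * Polynomial.X + 1)
    (by monicity!) (ne_of_eq_of_ne (show _ = 2 by compute_degree!) (by decide))
  simp only [Polynomial.map_add, Polynomial.map_sub, Polynomial.map_mul, Polynomial.map_pow, Polynomial.map_X,
    Polynomial.map_C, Polynomial.map_one, Polynomial.eval_add, Polynomial.eval_sub, Polynomial.eval_mul,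
    Polynomial.eval_pow, Polynomial.eval_X, Polynomial.eval_C, Polynomial.eval_one] at ha
  have h1 : a * (f.left.appTop v - a) = 1 := by linear_combination -ha
  let au : (Γ(X'.left, ⊤))ˣ := Units.mkOfMulEqOne _ _ h1
  let bu : (Γ(X'.left, ⊤))ˣ := Units.mkOfMulEqOne _ _ ((mul_comm _ _).trans h1)
  let Φ := sys i α pp pm hpp hpm av h2 hF X'
  have hb := braid i α pp pm hpp hpm av h2 hF X'
  have key : Φ.m (a + (f.left.appTop v - a)) = Φ.w 1 * Φ.p (-(a + (f.left.appTop v - a))) * (Φ.w 1)⁻¹ := by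
    rw [Φ.m_add, show Φ.m a = _ from (Φ.w_one_conj_unit hb au).symm,
      show Φ.m (f.left.appTop v - a) = _ from (Φ.w_one_conj_unit hb bu).symm, neg_add, Φ.p_add]
    show _ * Φ.p (-a) * _ * (_ * Φ.p (-(f.left.appTop v - a)) * _) = _
    group
  rw [add_sub_cancel] at key
  rw [← cancel_epi f]
  have e1 : f ≫ y = GaPts.ptOfFn (f.left.appTop v) :=
    GaPts.gaFn_injective (by simp only [GaPts.gaFn_comp, GaPts.gaFn_ptOfFn, v])
  have e2 : f ≫ y⁻¹ = GaPts.ptOfFn (-f.left.appTop v) := by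
    rw [GrpObj.comp_inv, e1, inv_eq_iff_mul_eq_one]
    exact GaPts.gaFn_injective (by simp only [GaPts.gaFn_mul, GaPts.gaFn_ptOfFn, GaPts.gaFn_one, add_neg_cancel])
  rw [MonObj.comp_mul, MonObj.comp_mul, GrpObj.comp_inv, ← Category.assoc f (toUnit X),
    toUnit_unique (f ≫ toUnit X) (toUnit X'), w_one_eq hpp hpm h2 hF he₁ hem, ← Category.assoc f y,
    ← Category.assoc f y⁻¹, e1, e2]
  exact key

variable (hG : Red.IsReductive G) (hT : Red.IsTorus T) (hα : ∀ s : S, (Over.pullback (Red.geomPt s)).map α ≠ 1)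
  (hΩ : IsOpenImmersion (cellMap i pp pm).left)

include hG hT hα hΩ in
/-- Two homomorphisms with the same values on the generators are equal. -/
theorem gen_hom_ext (f g : G ⟶ H) [IsMonHom f] [IsMonHom g] (h1 : i ≫ f = i ≫ g) (h2' : pp ≫ f = pp ≫ g)
    (h3 : W₀ ≫ f = W₀ ≫ g) : f = g := by
  haveI := hΩ
  have hone : ∃ e : 𝟙_ (Over S) ⟶ (Red.Ga S ⊗ T) ⊗ Red.Ga S, e ≫ cellMap i pp pm = 1 :=
    ⟨lift (lift 1 1) 1, by
      rw [cell_comp, MonObj.one_comp pm, MonObj.one_comp i, MonObj.one_comp pp, _root_.mul_one, _root_.mul_one]⟩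
  refine CellExt29.hom_ext (cellMap i pp pm) hG hone f g ?_
  have e : cellMap i pp pm = ((fst (Red.Ga S ⊗ T) (Red.Ga S) ≫ fst _ _) ≫ pm) *
      ((fst (Red.Ga S ⊗ T) (Red.Ga S) ≫ snd _ _) ≫ i) * (snd (Red.Ga S ⊗ T) (Red.Ga S) ≫ pp) := by
    rw [← cell_comp]
    conv_lhs => rw [← Category.id_comp (cellMap i pp pm)]
    congr 1
    ext <;> simp
  rw [e, pm_eq_conj hpp hpm h2 hF he₁ hem]
  simp only [MonObj.mul_comp, GrpObj.inv_comp, Category.assoc, h1, h2', h3]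

include hm in
/-- The generators satisfy the relations. -/
theorem relations (hT : Red.IsTorus T) (f : G ⟶ H) [IsMonHom f] (h1 : i ≫ f = fT) (h2' : pp ≫ f = fα)
    (h3 : W₀ ≫ f = hw) :
    (∀ (X : Over S) (t : X ⟶ T) (x x' : X ⟶ Red.Ga S), Red.gaFn x' = Red.gmFn (t ≫ α) * Red.gaFn x →
      (t ≫ fT) * (x ≫ fα) * (t ≫ fT)⁻¹ = x' ≫ fα) ∧
    (∀ (X : Over S) (t : X ⟶ T),
      (toUnit X ≫ hw) * (t ≫ fT) * (toUnit X ≫ hw)⁻¹ = (t * (t ≫ α ≫ av)⁻¹) ≫ fT) ∧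
    hw ^ 2 = m ≫ av ≫ fT ∧ (hw * (e₁ ≫ fα)) ^ 3 = 1 := by
  subst h1 h2' h3
  refine ⟨fun X t x x' hx => ?_, fun X t => ?_, ?_, ?_⟩
  · obtain ⟨x'', h, h'⟩ := hpp X t x
    obtain rfl : x'' = x' := GaPts.gaFn_injective (h'.trans hx.symm)
    rw [← Category.assoc x'', h, MonObj.mul_comp, MonObj.mul_comp, GrpObj.inv_comp]
    simp only [Category.assoc]
  · let Φ := sys i α pp pm hpp hpm av h2 hF X
    have h := Φ.w_conj 1 t
    have hc : (Φ.I (Φ.av (Φ.a t)))⁻¹ * Φ.I t = (t * (t ≫ α ≫ av)⁻¹) ≫ i := by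
      rw [torus_mul_comm hT X]
      show ((GmPts.ptOfUnit (GmPts.unitOfPt (t ≫ α)) ≫ av) ≫ i)⁻¹ * (t ≫ i) = _
      rw [GmPts.ptOfUnit_unitOfPt, MonObj.mul_comp, GrpObj.inv_comp]
      simp only [Category.assoc]
    rw [hc, ← w_one_eq hpp hpm h2 hF he₁ hem] at h
    have h' := congrArg (· ≫ f) h
    simp only [Φ, sys, MonoidHom.coe_mk, OneHom.coe_mk, MonObj.mul_comp, GrpObj.inv_comp, Category.assoc] at h'
    simp only [MonObj.mul_comp, GrpObj.inv_comp, Category.assoc]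
    exact h'
  · let Φ := sys i α pp pm hpp hpm av h2 hF (𝟙_ (Over S))
    have h := Φ.w_sq 1
    rw [← w_one_eq hpp hpm h2 hF he₁ hem, toUnit_unique (toUnit (𝟙_ (Over S))) (𝟙 _), Category.id_comp] at h
    have h' := congrArg (· ≫ f) h
    simp only [MonObj.pow_comp] at h'
    rw [h']
    show ((GmPts.ptOfUnit (-1) ≫ av) ≫ i) ≫ f = _
    rw [← toUnit_gmFn_neg_one hm, toUnit_unique (toUnit (𝟙_ (Over S))) (𝟙 _), Category.id_comp]
    simp only [Category.assoc]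
  · let Φ := sys i α pp pm hpp hpm av h2 hF (𝟙_ (Over S))
    have h := Φ.w_one_mul_p_pow (braid i α pp pm hpp hpm av h2 hF _)
    rw [← w_one_eq hpp hpm h2 hF he₁ hem, show Φ.p 1 = (GaPts.ptOfFn 1 : _ ⟶ Red.Ga S) ≫ pp from rfl,
      ← toUnit_gaFn_one he₁, toUnit_unique (toUnit (𝟙_ (Over S))) (𝟙 _), Category.id_comp, Category.id_comp] at h
    have h' := congrArg (· ≫ f) h
    simpa only [MonObj.pow_comp, MonObj.mul_comp, MonObj.one_comp, Category.assoc] using h'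

include hG hT hα hΩ hm in
/-- The relations suffice. -/
theorem exists_gen_hom
    (r1 : ∀ (X : Over S) (t : X ⟶ T) (x x' : X ⟶ Red.Ga S), Red.gaFn x' = Red.gmFn (t ≫ α) * Red.gaFn x →
      (t ≫ fT) * (x ≫ fα) * (t ≫ fT)⁻¹ = x' ≫ fα)
    (r2 : ∀ (X : Over S) (t : X ⟶ T),
      (toUnit X ≫ hw) * (t ≫ fT) * (toUnit X ≫ hw)⁻¹ = (t * (t ≫ α ≫ av)⁻¹) ≫ fT)
    (r3 : hw ^ 2 = m ≫ av ≫ fT) (r4 : (hw * (e₁ ≫ fα)) ^ 3 = 1) :
    ∃ f : G ⟶ H, IsMonHom f ∧ i ≫ f = fT ∧ pp ≫ f = fα ∧ W₀ ≫ f = hw := by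
  let fm : Red.Ga S ⟶ H := (toUnit _ ≫ hw) * ((𝟙 (Red.Ga S))⁻¹ ≫ fα) * (toUnit _ ≫ hw)⁻¹
  have hfm : ∀ {X : Over S} (v : Γ(X.left, ⊤)), GaPts.ptOfFn v ≫ fm =
      (toUnit X ≫ hw) * (GaPts.ptOfFn (-v) ≫ fα) * (toUnit X ≫ hw)⁻¹ := fun {X} v => by
    simp only [fm, MonObj.comp_mul, GrpObj.comp_inv, ← Category.assoc, Category.comp_id,
      toUnit_unique (GaPts.ptOfFn v ≫ toUnit _) (toUnit X)]
    congr 3
    rw [inv_eq_iff_mul_eq_one]
    exact GaPts.gaFn_injective (by simp only [GaPts.gaFn_mul, GaPts.gaFn_ptOfFn, GaPts.gaFn_one, add_neg_cancel])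
  let Γ := fun X => genData hT h2 he₁ hm r1 r2 r3 r4 X
  have hm' : ∀ {X : Over S} (x : X ⟶ Red.Ga S), letI := torusCommGroup hT X
      x ≫ fm = (Γ X).m (Red.gaFn x) := fun {X} x => by
    conv_lhs => rw [ga_eq_ptOfFn x]
    exact hfm _
  haveI : IsMonHom fm := isMonHom_of_comp fm fun X a b => by
    letI := torusCommGroup hT X
    rw [hm', hm', hm', GaPts.gaFn_mul]
    exact (Γ X).m_add _ _
  obtain ⟨f, hf, hfi, hfp, hfm⟩ := exists_hom_of_data_full (G' := H) (T' := T) (i' := fT) (α' := α) (pp' := fα) (pm' := fm)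
    (av' := av) hpp hpm hT hα hG hΩ h2 hF
    (fun X t x => ⟨GaPts.ptOfFn (Red.gmFn (t ≫ α) * Red.gaFn x), (r1 X t x _ (GaPts.gaFn_ptOfFn _)).symm,
      GaPts.gaFn_ptOfFn _⟩)
    (fun X t y => ⟨GaPts.ptOfFn ((((GmPts.unitOfPt (t ≫ α))⁻¹ : _ˣ) : Γ(X.left, ⊤)) * Red.gaFn y), by
        letI := torusCommGroup hT X
        rw [hm', hm', GaPts.gaFn_ptOfFn]
        exact ((Γ X).conj_m t _).symm, by
        rw [GaPts.gaFn_ptOfFn, mul_comm _ (Red.gaFn y), mul_assoc, ← GmPts.val_unitOfPt, Units.inv_mul,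
          _root_.mul_one]⟩)
    h2
    (fun X x y hu => by
      letI := torusCommGroup hT X
      obtain ⟨z, hz⟩ := hu
      refine ⟨GaPts.ptOfFn (((z⁻¹ : _ˣ) : Γ(X.left, ⊤)) * Red.gaFn x),
        GaPts.ptOfFn (((z⁻¹ : _ˣ) : Γ(X.left, ⊤)) * Red.gaFn y), GmPts.ptOfUnit z, ?_, ?_, ?_, ?_⟩
      · rw [GmPts.gmFn_ptOfUnit, hz]
      · rw [GmPts.gmFn_ptOfUnit, GaPts.gaFn_ptOfFn, mul_comm, Units.mul_inv_cancel_left]
      · rw [GmPts.gmFn_ptOfUnit, GaPts.gaFn_ptOfFn, mul_comm, Units.mul_inv_cancel_left]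
      · have h := genData_key hT h2 he₁ hm r1 r2 r3 r4 X (Red.gaFn x) (Red.gaFn y) z hz
        rw [hm', hm', GaPts.gaFn_ptOfFn]
        conv_lhs => rw [ga_eq_ptOfFn x]
        refine h.trans ?_
        show (_ : X ⟶ H) * ((GmPts.ptOfUnit z ≫ av) ≫ fT) * _ = _
        simp only [Category.assoc]
        rfl)
    1 one_pos (fun X a b => by simp) 1 (𝟙 T) (by rw [Category.id_comp, pow_one])
    (by rw [Category.comp_id, pow_one])
  have hp : pp ≫ f = fα := by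
    have h := hfp (Red.Ga S) (𝟙 _) (𝟙 _) (by
      rw [MonObj.comp_one, GmPts.gmFn_one, pow_one, _root_.one_mul])
    simpa using h
  have hi : i ≫ f = fT := by simpa using hfi
  refine ⟨f, hf, hi, hp, ?_⟩
  haveI := hf
  letI := torusCommGroup hT (𝟙_ (Over S))
  let Δ := Γ (𝟙_ (Over S))
  have he : em = GaPts.ptOfFn (-1) := GaPts.gaFn_injective (by simp only [GaPts.gaFn_ptOfFn, hem, map_neg, map_one])
  have he' : e₁ = GaPts.ptOfFn 1 := GaPts.gaFn_injective (by simp only [GaPts.gaFn_ptOfFn, he₁])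
  have hmf : (em ≫ pm) ≫ f = Δ.m (-1) := by
    rw [hfm _ em em (by rw [MonObj.comp_one, GmPts.gmFn_one, pow_one, _root_.one_mul]), hm', hem]
  have hpf : (e₁ ≫ pp) ≫ f = Δ.u 1 := by rw [Category.assoc, hp, he']; rfl
  rw [MonObj.mul_comp, MonObj.mul_comp, hmf, hpf]
  have hu : Δ.h = hw := by
    show toUnit (𝟙_ (Over S)) ≫ hw = hw
    rw [toUnit_unique (toUnit (𝟙_ (Over S))) (𝟙 _), Category.id_comp]
  rw [← hu]
  have hb := Δ.braid
  simp only [Gen.m, neg_neg]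
  calc Δ.u 1 * (Δ.h * Δ.u 1 * Δ.h⁻¹) * Δ.u 1
      = Δ.u 1 * Δ.h * Δ.u 1 * (Δ.F (Δ.av (-1)) * Δ.h) * Δ.u 1 := by rw [← Gen.h_inv]; group
    _ = Δ.F (Δ.av (-1)) * (Δ.h⁻¹ * (Δ.h * Δ.u 1 * (Δ.h * Δ.u 1) * (Δ.h * Δ.u 1))) := by
        rw [show Δ.u 1 * Δ.h * Δ.u 1 * (Δ.F (Δ.av (-1)) * Δ.h) * Δ.u 1 =
          Δ.u 1 * Δ.h * (Δ.u 1 * Δ.F (Δ.av (-1))) * Δ.h * Δ.u 1 by group, ← Gen.neg_one_comm,
          show Δ.u 1 * Δ.h * (Δ.F (Δ.av (-1)) * Δ.u 1) * Δ.h * Δ.u 1 =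
          Δ.u 1 * (Δ.h * Δ.F (Δ.av (-1))) * Δ.u 1 * Δ.h * Δ.u 1 by group, Gen.h_mul_F, inv_neg, inv_one,
          ← mul_assoc (Δ.u 1), ← Gen.neg_one_comm]
        group
    _ = Δ.h := by
        rw [hb, _root_.mul_one, Gen.h_inv, ← mul_assoc, ← map_mul, Gen.av_sq_neg_one, map_one, _root_.one_mul]

end Groth.Agent.GrpSchLib.RankOne
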