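import Groth.Agent.GrpSchLib.RankOneBraid

/-! Generators and relations of a rank-one group: computations in groups. -/

set_option autoImplicit false

universe u

namespace Groth.Agent.GrpSchLib.RankOne

namespace Sys

variable {R G T : Type*} [CommRing R] [Group G] [Group T] (Φ : Sys R G T)

theorem w_conj_p_unit (hb : ∀ x : Rˣ, Φ.m ((x⁻¹ : Rˣ) : R) * Φ.p (-(x : R)) * Φ.m ((x⁻¹ : Rˣ) : R) = Φ.w (-x))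
    (x : Rˣ) : Φ.w x * Φ.p x * (Φ.w x)⁻¹ = Φ.m (-((x⁻¹ : Rˣ) : R)) := by
  have h2 : Φ.w x = Φ.m (-((x⁻¹ : Rˣ) : R)) * Φ.p x * Φ.m (-((x⁻¹ : Rˣ) : R)) := by
    simpa [inv_neg] using (hb (-x)).symm
  rw [mul_inv_eq_iff_eq_mul]
  conv_lhs => rw [h2]
  simp only [w, mul_assoc]

theorem w_one_conj_unit (hb : ∀ x : Rˣ, Φ.m ((x⁻¹ : Rˣ) : R) * Φ.p (-(x : R)) * Φ.m ((x⁻¹ : Rˣ) : R) = Φ.w (-x))
    (y : Rˣ) : Φ.w 1 * Φ.p (-(y : R)) * (Φ.w 1)⁻¹ = Φ.m y := by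
  have h := Φ.w_conj_p_unit hb (-y⁻¹)
  have hw : Φ.w (-y⁻¹) = Φ.w 1 * (Φ.I (Φ.av (-y⁻¹)))⁻¹ := by rw [← w_mul_right, mul_one]
  have hp : (Φ.I (Φ.av (-y⁻¹)))⁻¹ * Φ.p ((-y⁻¹ : Rˣ) : R) * Φ.I (Φ.av (-y⁻¹)) = Φ.p (-(y : R)) := by
    rw [mul_assoc, Φ.p_mul_I, inv_mul_cancel_left]
    congr 1
    rw [Φ.a_av, ← inv_pow, inv_neg, inv_inv, neg_sq, Units.val_pow_eq_pow_val, Units.val_neg, pow_two, mul_neg,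
      Units.mul_inv_cancel_right]
  rw [hw, mul_inv_rev, inv_inv] at h
  calc Φ.w 1 * Φ.p (-(y : R)) * (Φ.w 1)⁻¹
      = Φ.w 1 * (Φ.I (Φ.av (-y⁻¹)))⁻¹ * Φ.p ((-y⁻¹ : Rˣ) : R) * (Φ.I (Φ.av (-y⁻¹)) * (Φ.w 1)⁻¹) := by
        rw [← hp]; group
    _ = Φ.m y := by rw [h]; simp [inv_neg]

theorem w_one_mul_p_pow (hb : ∀ x : Rˣ, Φ.m ((x⁻¹ : Rˣ) : R) * Φ.p (-(x : R)) * Φ.m ((x⁻¹ : Rˣ) : R) = Φ.w (-x)) :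
    (Φ.w 1 * Φ.p 1) ^ 3 = 1 := by
  have h1 : Φ.w 1 = Φ.m (-1) * Φ.p 1 * Φ.m (-1) := by simpa [inv_neg] using (hb (-1)).symm
  have h2 : Φ.w 1 * Φ.p 1 = Φ.m (-1) * Φ.w 1 := by
    conv_lhs => rw [h1]
    simp only [w, inv_one, Units.val_one, mul_assoc]
  have h3 : Φ.m (-1) * Φ.p 1 = Φ.w 1 * Φ.m 1 := by
    rw [h1, mul_assoc _ (Φ.m (-1)) (Φ.m 1), ← Φ.m_add, neg_add_cancel, m_zero, mul_one]
  have h4 : Φ.m 1 * Φ.w 1 * Φ.p 1 = Φ.w 1 := by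
    rw [mul_assoc, h2, ← mul_assoc, ← Φ.m_add, add_neg_cancel, m_zero, one_mul]
  have hc : Φ.m (-1) * (Φ.w 1 * Φ.w 1) = (Φ.w 1 * Φ.w 1) * Φ.m (-1) := by
    rw [← pow_two, w_sq, I_mul_m, Φ.a_av]
    simp
  have hone : Φ.w 1 * Φ.w 1 * (Φ.w 1 * Φ.w 1) = 1 := by
    rw [← pow_two (Φ.w 1), w_sq, ← map_mul, ← map_mul]
    simp
  calc (Φ.w 1 * Φ.p 1) ^ 3 = (Φ.w 1 * Φ.p 1) * (Φ.w 1 * Φ.p 1) * (Φ.w 1 * Φ.p 1) := by rw [pow_three]; group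
    _ = Φ.m (-1) * Φ.w 1 * (Φ.w 1 * Φ.p 1) * (Φ.w 1 * Φ.p 1) := by
        conv_lhs => arg 1; arg 1; rw [h2]
    _ = Φ.m (-1) * (Φ.w 1 * Φ.w 1) * (Φ.p 1 * (Φ.w 1 * Φ.p 1)) := by group
    _ = Φ.w 1 * Φ.w 1 * (Φ.m (-1) * Φ.p 1) * (Φ.w 1 * Φ.p 1) := by rw [hc]; group
    _ = Φ.w 1 * Φ.w 1 * Φ.w 1 * (Φ.m 1 * Φ.w 1 * Φ.p 1) := by rw [h3]; group
    _ = 1 := by rw [h4]; simpa [mul_assoc] using hone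

end Sys

/-- Data satisfying the relations of a rank-one group, at one point. -/
structure Gen (R H T : Type*) [CommRing R] [Group H] [CommGroup T] where
  u : R → H
  F : T →* H
  a : T →* Rˣ
  av : Rˣ →* T
  h : H
  u_add : ∀ x y, u (x + y) = u x * u y
  a_av : ∀ v, a (av v) = v ^ 2
  conj : ∀ t x, F t * u x * (F t)⁻¹ = u (a t * x)
  conjh : ∀ t, h * F t * h⁻¹ = F (t * (av (a t))⁻¹)
  hsq : h * h = F (av (-1))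
  braid : h * u 1 * (h * u 1) * (h * u 1) = 1

namespace Gen

variable {R H T : Type*} [CommRing R] [Group H] [CommGroup T] (Γ : Gen R H T)

theorem u_zero : Γ.u 0 = 1 := by simpa using Γ.u_add 0 0

theorem u_neg (x : R) : Γ.u (-x) = (Γ.u x)⁻¹ := by
  rw [eq_inv_iff_mul_eq_one, ← Γ.u_add, neg_add_cancel, u_zero]

theorem F_av_mul_u (v : Rˣ) (x : R) : Γ.F (Γ.av v) * Γ.u x = Γ.u ((v : R) ^ 2 * x) * Γ.F (Γ.av v) := by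
  rw [← mul_inv_eq_iff_eq_mul, Γ.conj, Γ.a_av, Units.val_pow_eq_pow_val]

theorem av_sq_neg_one : Γ.av (-1) * Γ.av (-1) = 1 := by rw [← map_mul]; simp

theorem neg_one_comm (x : R) : Γ.F (Γ.av (-1)) * Γ.u x = Γ.u x * Γ.F (Γ.av (-1)) := by
  rw [F_av_mul_u]; simp

theorem h_mul_F (v : Rˣ) : Γ.h * Γ.F (Γ.av v) = Γ.F (Γ.av v⁻¹) * Γ.h := by
  rw [← mul_inv_eq_iff_eq_mul, Γ.conjh, Γ.a_av]
  congr 1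
  rw [map_pow, map_inv, pow_two]; group

theorem h_inv : Γ.h⁻¹ = Γ.F (Γ.av (-1)) * Γ.h := by
  rw [inv_eq_iff_mul_eq_one, ← mul_assoc, h_mul_F, inv_neg, inv_one, mul_assoc, Γ.hsq, ← map_mul, av_sq_neg_one,
    map_one]

/-- The Bruhat relation at one, transported by a square root. -/
theorem rel (v s : Rˣ) (hs : s ^ 2 = v) :
    Γ.h * Γ.u v * Γ.h =
      Γ.u (-((v⁻¹ : Rˣ) : R)) * Γ.h * Γ.F (Γ.av (-v)) * Γ.u (-((v⁻¹ : Rˣ) : R)) := by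
  have hb : Γ.h * Γ.u 1 * Γ.h = Γ.u (-1) * (Γ.F (Γ.av (-1)) * Γ.h) * Γ.u (-1) := by
    rw [← h_inv, u_neg]
    calc Γ.h * Γ.u 1 * Γ.h = (Γ.h * Γ.u 1 * (Γ.h * Γ.u 1) * (Γ.h * Γ.u 1)) * (Γ.u 1)⁻¹ * Γ.h⁻¹ * (Γ.u 1)⁻¹ := by
          group
      _ = _ := by rw [Γ.braid, one_mul]
  have h1 : Γ.u (v : R) = Γ.F (Γ.av s) * Γ.u 1 * (Γ.F (Γ.av s))⁻¹ := by
    rw [Γ.conj, Γ.a_av, hs, mul_one]
  have h2 : Γ.u (-((v⁻¹ : Rˣ) : R)) = Γ.F (Γ.av s⁻¹) * Γ.u (-1) * (Γ.F (Γ.av s⁻¹))⁻¹ := by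
    rw [Γ.conj, Γ.a_av, inv_pow, hs, mul_neg, mul_one]
  have h3 : Γ.h * Γ.F (Γ.av (-v)) = Γ.F (Γ.av s⁻¹) * (Γ.F (Γ.av (-1)) * Γ.h) * (Γ.F (Γ.av s⁻¹))⁻¹ := by
    rw [← map_inv, ← map_inv Γ.av, inv_inv, mul_assoc, mul_assoc (Γ.F (Γ.av (-1))), h_mul_F, h_mul_F,
      ← mul_assoc (Γ.F (Γ.av (-1))), ← mul_assoc, ← map_mul, ← map_mul, ← map_mul, ← map_mul]
    congr 3
    rw [← hs]; simp [pow_two]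
  rw [mul_assoc _ Γ.h (Γ.F _), h3, h1, h2]
  calc Γ.h * (Γ.F (Γ.av s) * Γ.u 1 * (Γ.F (Γ.av s))⁻¹) * Γ.h
      = (Γ.h * Γ.F (Γ.av s)) * Γ.u 1 * ((Γ.F (Γ.av s))⁻¹ * Γ.h) := by group
    _ = Γ.F (Γ.av s⁻¹) * Γ.h * Γ.u 1 * (Γ.h * Γ.F (Γ.av s)) := by
        rw [h_mul_F Γ s, ← map_inv, ← map_inv Γ.av]
    _ = Γ.F (Γ.av s⁻¹) * (Γ.h * Γ.u 1 * Γ.h) * (Γ.F (Γ.av s⁻¹))⁻¹ := by
        rw [show (Γ.F (Γ.av s⁻¹))⁻¹ = Γ.F (Γ.av s) by rw [← map_inv, ← map_inv, inv_inv]]; group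
    _ = _ := by rw [hb]; group

/-- The opposite root group. -/
def m (y : R) : H := Γ.h * Γ.u (-y) * Γ.h⁻¹

theorem m_add (x y : R) : Γ.m (x + y) = Γ.m x * Γ.m y := by
  simp only [m, neg_add, Γ.u_add]; group

theorem conj_m (t : T) (y : R) : Γ.F t * Γ.m y * (Γ.F t)⁻¹ = Γ.m (((Γ.a t)⁻¹ : Rˣ) * y) := by
  have h1 : Γ.F t * Γ.h = Γ.h * Γ.F (t * (Γ.av (Γ.a t))⁻¹) := by
    have h := Γ.conjh (t * (Γ.av (Γ.a t))⁻¹)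
    rw [mul_inv_eq_iff_eq_mul] at h
    rw [h]
    congr 2
    rw [map_mul, map_inv, Γ.a_av, map_mul, map_inv, map_pow, pow_two]; group
  calc Γ.F t * Γ.m y * (Γ.F t)⁻¹ = (Γ.F t * Γ.h) * Γ.u (-y) * (Γ.F t * Γ.h)⁻¹ := by simp only [m]; group
    _ = Γ.h * (Γ.F (t * (Γ.av (Γ.a t))⁻¹) * Γ.u (-y) * (Γ.F (t * (Γ.av (Γ.a t))⁻¹))⁻¹) * Γ.h⁻¹ := by rw [h1]; group
    _ = _ := by
        rw [Γ.conj, map_mul, map_inv, Γ.a_av, m]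
        congr 3
        rw [mul_neg]
        congr 2
        rw [pow_two, mul_inv_rev, mul_inv_cancel_left]

variable (hrel : ∀ v : Rˣ, Γ.h * Γ.u v * Γ.h =
      Γ.u (-((v⁻¹ : Rˣ) : R)) * Γ.h * Γ.F (Γ.av (-v)) * Γ.u (-((v⁻¹ : Rˣ) : R)))

include hrel

theorem h_inv_u_h (x : Rˣ) : Γ.h⁻¹ * Γ.u x * Γ.h =
    Γ.u (-((x⁻¹ : Rˣ) : R)) * Γ.h * Γ.F (Γ.av x) * Γ.u (-((x⁻¹ : Rˣ) : R)) := by
  rw [h_inv, mul_assoc, mul_assoc (Γ.F _), ← mul_assoc Γ.h, hrel, ← mul_assoc, ← mul_assoc, ← mul_assoc,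
    neg_one_comm, mul_assoc (Γ.u _) (Γ.F _) Γ.h, show Γ.F (Γ.av (-1)) * Γ.h = Γ.h * Γ.F (Γ.av (-1)) by
      rw [h_mul_F]; simp, ← mul_assoc, mul_assoc _ (Γ.F (Γ.av (-1))) (Γ.F _), ← map_mul, ← map_mul]
  simp

/-- The commutation rule when the first argument is invertible. -/
theorem key_unit (x : Rˣ) (y : R) (z : Rˣ) (hz : (z : R) = 1 + x * y) :
    Γ.u x * Γ.m y = Γ.m (((z⁻¹ : Rˣ) : R) * y) * Γ.F (Γ.av z) * Γ.u (((z⁻¹ : Rˣ) : R) * x) := by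
  have key : Γ.h⁻¹ * Γ.u x * Γ.h * Γ.u (-y) =
      Γ.u (-(((z⁻¹ : Rˣ) : R) * y)) * (Γ.F (Γ.av z⁻¹) * (Γ.h⁻¹ * Γ.u ((z⁻¹ * x : Rˣ) : R) * Γ.h)) := by
    rw [h_inv_u_h Γ hrel x, h_inv_u_h Γ hrel (z⁻¹ * x), mul_assoc (_ * _ * _) (Γ.u _) (Γ.u (-y)), ← Γ.u_add,
      ← mul_assoc (Γ.F (Γ.av z⁻¹)), ← mul_assoc (Γ.F (Γ.av z⁻¹)), ← mul_assoc (Γ.F (Γ.av z⁻¹)), F_av_mul_u,
      mul_assoc (Γ.u (_ * _)) _ Γ.h, show Γ.F (Γ.av z⁻¹) * Γ.h = Γ.h * Γ.F (Γ.av z) from (h_mul_F Γ z).symm,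
      ← mul_assoc (Γ.u _) Γ.h, mul_assoc _ (Γ.F (Γ.av z)) (Γ.F _), ← map_mul, ← map_mul, mul_inv_cancel_left,
      ← mul_assoc, ← mul_assoc, ← mul_assoc, ← Γ.u_add]
    congr 1
    · congr 3
      rw [mul_inv_rev, inv_inv, Units.val_mul]
      linear_combination (-(((x⁻¹ : Rˣ) : R) * ((z⁻¹ : Rˣ) : R))) * hz + ((x⁻¹ : Rˣ) : R) * z.inv_mul
        + ((x⁻¹ : Rˣ) : R) * ((z⁻¹ : Rˣ) : R) * z.inv_mul + (-(((z⁻¹ : Rˣ) : R) * y)) * x.inv_mul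
    · congr 1
      rw [mul_inv_rev, inv_inv, Units.val_mul]
      linear_combination (((x⁻¹ : Rˣ) : R)) * hz + y * x.inv_mul
  calc Γ.u x * Γ.m y = Γ.h * (Γ.h⁻¹ * Γ.u x * Γ.h * Γ.u (-y)) * Γ.h⁻¹ := by simp only [m]; group
    _ = Γ.h * Γ.u (-(((z⁻¹ : Rˣ) : R) * y)) * (Γ.F (Γ.av z⁻¹) * Γ.h⁻¹) * Γ.u ((z⁻¹ * x : Rˣ) : R) := by
        rw [key]; group
    _ = _ := by
        rw [show Γ.F (Γ.av z⁻¹) * Γ.h⁻¹ = Γ.h⁻¹ * Γ.F (Γ.av z) by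
          rw [eq_inv_mul_iff_mul_eq, ← mul_assoc, h_mul_F, inv_inv, mul_inv_cancel_right], Units.val_mul]
        simp only [m]
        group

/-- The commutation rule, with an auxiliary unit. -/
theorem key (x y : R) (z : Rˣ) (hz : (z : R) = 1 + x * y) (a b za : Rˣ) (hb : (b : R) = x - a)
    (hza : (za : R) = 1 + a * y) :
    Γ.u x * Γ.m y = Γ.m (((z⁻¹ : Rˣ) : R) * y) * Γ.F (Γ.av z) * Γ.u (((z⁻¹ : Rˣ) : R) * x) := by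
  have h1 := Γ.key_unit hrel a y za hza
  have h2 := Γ.key_unit hrel b (((za⁻¹ : Rˣ) : R) * y) (z * za⁻¹) (by
    rw [hb, Units.val_mul, hz]
    linear_combination za.mul_inv - ((za⁻¹ : Rˣ) : R) * hza)
  calc Γ.u x * Γ.m y = Γ.u b * (Γ.u a * Γ.m y) := by rw [← mul_assoc, ← Γ.u_add, hb, sub_add_cancel]
    _ = Γ.u b * Γ.m (((za⁻¹ : Rˣ) : R) * y) * Γ.F (Γ.av za) * Γ.u (((za⁻¹ : Rˣ) : R) * a) := by rw [h1]; group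
    _ = Γ.m ((((z * za⁻¹)⁻¹ : Rˣ) : R) * (((za⁻¹ : Rˣ) : R) * y)) * Γ.F (Γ.av (z * za⁻¹)) *
          (Γ.u ((((z * za⁻¹)⁻¹ : Rˣ) : R) * b) * Γ.F (Γ.av za)) * Γ.u (((za⁻¹ : Rˣ) : R) * a) := by rw [h2]; group
    _ = Γ.m ((((z * za⁻¹)⁻¹ : Rˣ) : R) * (((za⁻¹ : Rˣ) : R) * y)) * Γ.F (Γ.av (z * za⁻¹) * Γ.av za) *
          (Γ.u (((za⁻¹ : Rˣ) : R) ^ 2 * ((((z * za⁻¹)⁻¹ : Rˣ) : R) * b)) * Γ.u (((za⁻¹ : Rˣ) : R) * a)) := by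
        rw [map_mul Γ.F, show Γ.u ((((z * za⁻¹)⁻¹ : Rˣ) : R) * b) * Γ.F (Γ.av za) =
          Γ.F (Γ.av za) * Γ.u (((za⁻¹ : Rˣ) : R) ^ 2 * ((((z * za⁻¹)⁻¹ : Rˣ) : R) * b)) by
            rw [F_av_mul_u, ← mul_assoc ((za : R) ^ 2), ← mul_pow, Units.mul_inv, one_pow, one_mul]]
        group
    _ = _ := by
        rw [← Γ.u_add, ← map_mul Γ.av, inv_mul_cancel_right, mul_inv_rev, inv_inv, Units.val_mul, hb]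
        congr 2
        · congr 1
          linear_combination (((z⁻¹ : Rˣ) : R) * y) * za.mul_inv
        · congr 1
          linear_combination (((za⁻¹ : Rˣ) : R) * ((z⁻¹ : Rˣ) : R) * (x - a)) * za.mul_inv
            - (((za⁻¹ : Rˣ) : R) * a) * z.inv_mul + ((za⁻¹ : Rˣ) : R) * ((z⁻¹ : Rˣ) : R) * a * hz
            + ((z⁻¹ : Rˣ) : R) * x * (za.inv_mul - ((za⁻¹ : Rˣ) : R) * hza)

end Gen

end Groth.Agent.GrpSchLib.RankOne
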