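import Groth.Agent.Rank2Red38.R1Nondeg

/-! The global constant, and coordinates over an arbitrary test object. -/

set_option autoImplicit false
set_option linter.style.haveILetI false
set_option linter.unusedSectionVars false

universe u

open CategoryTheory CategoryTheory.Limits AlgebraicGeometry MonoidalCategory CartesianMonoidalCategory
open scoped MonObj

noncomputable section

namespace Groth.Agent.Rank2Red38.R1

open GrpSchLib RankOne Polynomial

variable {S : Scheme.{u}}

/-- An affine test object as the test object of its ring. -/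
def selfIso {A : Type u} [CommRing A] (b : Spec (CommRingCat.of A) ⟶ S) : Over.mk b ≅ tobj b A :=
  Over.isoMk (Iso.refl _) (by
    show 𝟙 _ ≫ Spec.map (CommRingCat.ofHom (RingHom.id A)) ≫ b = b
    rw [show CommRingCat.ofHom (RingHom.id A) = 𝟙 (CommRingCat.of A) from rfl, Spec.map_id, Category.id_comp,
      Category.id_comp])

/-- Morphisms out of the terminal object from natural families on affine test objects. -/
theorem exists_point (Y : Over S) (F : ∀ (A : Type u) [CommRing A] (b : Spec (CommRingCat.of A) ⟶ S), tobj b A ⟶ Y)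
    (hF : ∀ (A A' : Type u) [CommRing A] [CommRing A'] (b : Spec (CommRingCat.of A) ⟶ S)
      (b' : Spec (CommRingCat.of A') ⟶ S) (φ : A →+* A') (h : Spec.map (CommRingCat.ofHom φ) ≫ b = b'),
      cmor (R := A) (R' := A') h φ rfl ≫ F A b = F A' b') :
    ∃ e : 𝟙_ (Over S) ⟶ Y, ∀ (A : Type u) [CommRing A] (b : Spec (CommRingCat.of A) ⟶ S),
      toUnit (tobj b A) ≫ e = F A b := by
  let 𝒰 := S.affineCover
  let Fl : ∀ (A : Type u) [CommRing A] (b : Spec (CommRingCat.of A) ⟶ S), Spec (CommRingCat.of A) ⟶ Y.left :=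
    fun A _ b => (F A b).left
  have nat : ∀ (A A' : Type u) [CommRing A] [CommRing A'] (b : Spec (CommRingCat.of A) ⟶ S)
      (k : Spec (CommRingCat.of A') ⟶ Spec (CommRingCat.of A)),
      k ≫ Fl A b = Fl A' (k ≫ b) := fun A A' _ _ b k => by
    show k ≫ (F A b).left = (F A' (k ≫ b)).left
    rw [← hF A A' b (k ≫ b) (Spec.preimage k).hom (by rw [CommRingCat.ofHom_hom, Spec.map_preimage])]
    exact congrArg (· ≫ (F A b).left) (Spec.map_preimage k).symm
  have compat : ∀ i j, pullback.fst (𝒰.f i) (𝒰.f j) ≫ (F _ (𝒰.f i)).left =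
      pullback.snd (𝒰.f i) (𝒰.f j) ≫ (F _ (𝒰.f j)).left := fun i j =>
    (pullback (𝒰.f i) (𝒰.f j)).affineCover.hom_ext _ _ fun k => by
      let f := (pullback (𝒰.f i) (𝒰.f j)).affineCover.f k
      show f ≫ _ ≫ _ = f ≫ _ ≫ _
      refine ((Category.assoc _ _ _).symm.trans (nat _ _ (𝒰.f i) (f ≫ pullback.fst _ _))).trans
        (Eq.trans ?_ ((Category.assoc _ _ _).symm.trans (nat _ _ (𝒰.f j) (f ≫ pullback.snd _ _))).symm)
      exact congrArg (Fl _) ((Category.assoc _ _ _).trans
        ((congrArg (f ≫ ·) pullback.condition).trans (Category.assoc _ _ _).symm))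
  let g : S ⟶ Y.left := 𝒰.glueMorphisms (fun i => (F _ (𝒰.f i)).left) compat
  have hg : ∀ i, 𝒰.f i ≫ g = (F _ (𝒰.f i)).left := fun i => 𝒰.ι_glueMorphisms _ compat i
  have hY : ∀ (A : Type u) [CommRing A] (b : Spec (CommRingCat.of A) ⟶ S), (F A b).left ≫ Y.hom = b :=
    fun A _ b => (Over.w (F A b)).trans (by
      show Spec.map (CommRingCat.ofHom (RingHom.id A)) ≫ b = b
      rw [show CommRingCat.ofHom (RingHom.id A) = 𝟙 (CommRingCat.of A) from rfl, Spec.map_id, Category.id_comp])
  let e : 𝟙_ (Over S) ⟶ Y := Over.homMk g (𝒰.hom_ext _ _ fun i =>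
    ((Category.assoc _ _ _).symm.trans (congrArg (· ≫ Y.hom) (hg i))).trans
      ((hY _ (𝒰.f i)).trans (Category.comp_id _).symm))
  refine ⟨e, fun A _ b => Over.OverMorphism.ext ?_⟩
  refine Eq.trans (show _ = b ≫ g from ?_) ?_
  · show (toUnit (tobj b A)).left ≫ g = b ≫ g
    congr 1
    have h := Over.w (toUnit (tobj b A))
    exact ((Category.comp_id _).symm.trans h).trans (by
      show Spec.map (CommRingCat.ofHom (RingHom.id A)) ≫ b = b
      rw [show CommRingCat.ofHom (RingHom.id A) = 𝟙 (CommRingCat.of A) from rfl, Spec.map_id, Category.id_comp])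
  refine Scheme.Cover.hom_ext (𝒰.pullback₁ b) _ _ fun i => ?_
  show pullback.fst b (𝒰.f i) ≫ _ = pullback.fst b (𝒰.f i) ≫ _
  refine (pullback b (𝒰.f i)).affineCover.hom_ext _ _ fun k => ?_
  let f := (pullback b (𝒰.f i)).affineCover.f k
  show f ≫ _ ≫ b ≫ g = f ≫ _ ≫ (F A b).left
  refine Eq.trans ?_ ((Category.assoc _ _ _).symm.trans (nat _ _ b (f ≫ pullback.fst _ _))).symm
  refine (congrArg (f ≫ ·) (((Category.assoc _ _ _).symm.trans (congrArg (· ≫ g) pullback.condition)).trans
    ((Category.assoc _ _ _).trans (congrArg (pullback.snd b (𝒰.f i) ≫ ·) (hg i))))).trans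
    (((Category.assoc _ _ _).symm.trans (nat _ _ (𝒰.f i) (f ≫ pullback.snd _ _))).trans ?_)
  exact congrArg (Fl _) ((Category.assoc _ _ _).trans
    ((congrArg (f ≫ ·) pullback.condition.symm).trans (Category.assoc _ _ _).symm))

theorem comp_fnPt {X Y : Over S} (j : Y ⟶ X) (v : Γ(X.left, ⊤)) :
    j ≫ (GaPts.ptOfFn v : X ⟶ Red.Ga S) = GaPts.ptOfFn (j.left.appTop v) :=
  GaPts.gaFn_injective (by dsimp only; rw [GaPts.gaFn_comp, GaPts.gaFn_ptOfFn, GaPts.gaFn_ptOfFn])

/-- Functions are determined on affine test objects. -/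
theorem fn_ext {X : Over S} {f g : Γ(X.left, ⊤)}
    (h : ∀ (A : Type u) [CommRing A] (b : Spec (CommRingCat.of A) ⟶ S) (j : tobj b A ⟶ X),
      tval b A (j.left.appTop f) = tval b A (j.left.appTop g)) : f = g := by
  have e : (GaPts.ptOfFn f : X ⟶ Red.Ga S) = GaPts.ptOfFn g := ext_spec fun A b j => by
    rw [← cancel_epi (selfIso (A := A) b).inv, ← Category.assoc, ← Category.assoc]
    refine GaPts.gaFn_injective ((tval (A := A) b A).injective ?_)
    dsimp only
    rw [GaPts.gaFn_comp, GaPts.gaFn_comp, GaPts.gaFn_ptOfFn, GaPts.gaFn_ptOfFn]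
    exact h A b _
  simpa [GaPts.gaFn_ptOfFn] using congrArg Red.gaFn e

/-- A function invertible at every point with values in a field is invertible. -/
theorem isUnit_of_residue {X : Over S} (f : Γ(X.left, ⊤))
    (h : ∀ (K : Type u) [Field K] (b : Spec (CommRingCat.of K) ⟶ S) (j : tobj b K ⟶ X),
      tval b K (j.left.appTop f) ≠ 0) : IsUnit f := by
  have htop : X.left.basicOpen f = ⊤ := by
    refine top_le_iff.mp fun x _ => ?_
    let q := X.left.fromSpecResidueField x
    let K : Type u := X.left.residueField x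
    letI : Field K := inferInstanceAs (Field (X.left.residueField x))
    let b : Spec (CommRingCat.of K) ⟶ S := q ≫ X.hom
    let j : tobj b K ⟶ X := (selfIso b).inv ≫ (Over.homMk q rfl : Over.mk b ⟶ X)
    have hu : IsUnit (j.left.appTop f) := by
      have := (isUnit_iff_ne_zero.mpr (h K b j)).map (tval b K).symm
      rwa [RingEquiv.symm_apply_apply] at this
    let pt : Spec (X.left.residueField x) := IsLocalRing.closedPoint _
    have hm : pt ∈ j.left ⁻¹ᵁ X.left.basicOpen f := by
      rw [Scheme.preimage_basicOpen_top, Scheme.basicOpen_of_isUnit _ hu]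
      trivial
    have hx : j.left pt = x := Scheme.fromSpecResidueField_apply x pt
    exact hx ▸ hm
  exact RingedSpace.isUnit_of_isUnit_germ X.left.toLocallyRingedSpace.toRingedSpace ⊤ f fun x _ =>
    (Scheme.mem_basicOpen_top X.left f x).mp (by rw [htop]; trivial)

variable {G T : Over S} [GrpObj G] [GrpObj T]
  {i : T ⟶ G} [IsMonHom i] {α : T ⟶ Red.Gm S} [IsMonHom α] {pp pm : Red.Ga S ⟶ G} [IsMonHom pp]
  [IsMonHom pm] (H : Sys i α pp pm)

variable (hnc : ∀ s : S, ∃ (X : Over (Spec (CommRingCat.of (AlgebraicClosure (S.residueField s)))))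
  (x y : X ⟶ Red.bc (Red.geomPt s) (Red.Ga S)),
  (x ≫ (Over.pullback (Red.geomPt s)).map pp) * (y ≫ (Over.pullback (Red.geomPt s)).map pm) ≠
    (y ≫ (Over.pullback (Red.geomPt s)).map pm) * (x ≫ (Over.pullback (Red.geomPt s)).map pp))

include hnc in
/-- The coordinates over an affine test object. -/
theorem exists_coords_self {A : Type u} [CommRing A] (b : Spec (CommRingCat.of A) ⟶ S) (x y : A)
    (hz : IsUnit (1 - H.d b * x * y)) :
    ∃ c, IsCoord (i := i) (pp := pp) (pm := pm) b (R := A) x y c ∧ c.2.2 * (1 - H.d b * x * y) = x ∧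
      c.1 * (1 - H.d b * x * y) = y ∧ (chr α b A c.2.1 : A) = (1 - H.d b * x * y) ^ 2 := by
  let P := lineDen H b x
  have hP : algebraMap A[X] (Localization.Away P) P = 1 - algebraMap A (Localization.Away P) (H.d b) *
      algebraMap A[X] (Localization.Away P) (C x) * algebraMap A[X] (Localization.Away P) X := by
    rw [IsScalarTower.algebraMap_apply A A[X] (Localization.Away P) (H.d b)]
    simp only [← map_mul, ← map_one (algebraMap A[X] (Localization.Away P)), ← map_sub]
    congr 1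
    simp [P, lineDen]
  obtain ⟨c, hc⟩ := inCell_of_isUnit H b (algebraMap A[X] (Localization.Away P) (C x))
    (algebraMap A[X] (Localization.Away P) X) (hP ▸ IsLocalization.Away.algebraMap_isUnit P)
  obtain ⟨h1, h2, h3⟩ := line_identity H b (H.form_of_isUnit b (isUnit_d H hnc b)) x P (lineDen_coeff H b x) hc
  have hy : aeval y P = 1 - H.d b * x * y := lineDen_aeval H b x y
  let ev := awayHom P (aeval y) (hy ▸ hz)
  have e := hc.map b ev
  simp only [ev, awayHom_algebraMap, aeval_C, aeval_X, Algebra.algebraMap_self_apply] at e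
  refine ⟨_, e, ?_, ?_, ?_⟩
  · have := congrArg ev h1
    simpa only [ev, map_mul, awayHom_algebraMap, aeval_C, hy, Algebra.algebraMap_self_apply, P] using this
  · have := congrArg ev h2
    simpa only [ev, map_mul, awayHom_algebraMap, aeval_X, hy, Algebra.algebraMap_self_apply, P] using this
  · show (chr α b A (tmor b ev ≫ c.2.1) : A) = _
    rw [tmor_chr, ← hy, ← awayHom_algebraMap P (aeval y) (hy ▸ hz) P, ← map_pow]
    refine congrArg ev ?_
    calc (chr α b _ c.2.1 : Localization.Away P)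
        = (chr α b _ c.2.1 : Localization.Away P) * (((chr α b _ c.2.1)⁻¹ : (Localization.Away P)ˣ) *
          algebraMap A[X] _ P ^ 2) := by rw [h3, _root_.mul_one]
      _ = _ := by rw [← _root_.mul_assoc, Units.mul_inv, _root_.one_mul]

include H hnc in
/-- The global constant. -/
theorem exists_const : ∃ a : 𝟙_ (Over S) ⟶ Red.Gm S, ∀ (A : Type u) [CommRing A] (b : Spec (CommRingCat.of A) ⟶ S),
    tval b A (Red.gmFn (toUnit (tobj b A) ≫ a)) = -H.d b := by
  let F : ∀ (A : Type u) [CommRing A] (b : Spec (CommRingCat.of A) ⟶ S), tobj b A ⟶ Red.Gm S := fun A _ b =>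
    GmPts.ptOfUnit (Units.map (tval b A).symm.toRingHom.toMonoidHom (-(isUnit_d H hnc b).unit))
  have hF : ∀ (A : Type u) [CommRing A] (b : Spec (CommRingCat.of A) ⟶ S),
      tval b A (Red.gmFn (F A b)) = -H.d b := fun A _ b => by
    rw [← GmPts.val_unitOfPt, GmPts.unitOfPt_ptOfUnit]
    exact (tval b A).apply_symm_apply _
  obtain ⟨a, ha⟩ := exists_point _ F fun A A' _ _ b b' φ h => by
    refine GmPts.gmFn_injective ((tval b' A').injective ?_)
    dsimp only
    rw [GmPts.gmFn_comp, hF, H.d_natural h, ← map_neg, ← hF]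
    exact sval_specHom (A := CommRingCat.of A) (B := CommRingCat.of A') φ _ _
  exact ⟨a, fun A _ b => by rw [ha]; exact hF A b⟩

/-- `a` is the constant of the system. -/
def IsConst (a : 𝟙_ (Over S) ⟶ Red.Gm S) : Prop :=
  ∀ (A : Type u) [CommRing A] (b : Spec (CommRingCat.of A) ⟶ S),
    tval b A (Red.gmFn (toUnit (tobj b A) ≫ a)) = -H.d b

variable {a : 𝟙_ (Over S) ⟶ Red.Gm S}

/-- The denominator. -/
def den (a : 𝟙_ (Over S) ⟶ Red.Gm S) {X : Over S} (x y : Γ(X.left, ⊤)) : Γ(X.left, ⊤) :=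
  1 + Red.gmFn (toUnit X ≫ a) * x * y

theorem den_comp {X Y : Over S} (j : Y ⟶ X) (x y : Γ(X.left, ⊤)) :
    j.left.appTop (den a x y) = den a (j.left.appTop x) (j.left.appTop y) := by
  rw [den, den, map_add, map_one, map_mul, map_mul, ← GmPts.gmFn_comp, ← Category.assoc, comp_toUnit]

theorem tval_den {A : Type u} [CommRing A] (b : Spec (CommRingCat.of A) ⟶ S) (ha : IsConst H a)
    (x y : Γ((tobj b A).left, ⊤)) :
    tval b A (den a x y) = 1 - H.d b * tval b A x * tval b A y := by
  rw [den, map_add, map_one, map_mul, map_mul, ha]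
  ring

theorem P_tval {A : Type u} [CommRing A] (b : Spec (CommRingCat.of A) ⟶ S) (p : Red.Ga S ⟶ G)
    (x : Γ((tobj b A).left, ⊤)) : GaPts.ptOfFn x ≫ p = ga b A (tval b A x) ≫ p := by
  rw [ga, RingEquiv.symm_apply_apply]

include H in
theorem isUnit_den_of_coords (ha : IsConst H a) {X : Over S} {x y : Γ(X.left, ⊤)}
    {a' : X ⟶ Red.Ga S} {t : X ⟶ T} {d' : X ⟶ Red.Ga S}
    (h : (GaPts.ptOfFn x ≫ pp) * (GaPts.ptOfFn y ≫ pm) = (a' ≫ pm) * (t ≫ i) * (d' ≫ pp)) :
    IsUnit (den a x y) := by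
  refine isUnit_of_residue _ fun K _ b j => ?_
  have e := congrArg (j ≫ ·) h
  simp only [MonObj.comp_mul, ← Category.assoc, comp_fnPt, P_tval] at e
  have e' : InCell i pp pm b (tval b K (j.left.appTop x)) (tval b K (j.left.appTop y)) :=
    ⟨(tval b K (Red.gaFn (j ≫ a')), j ≫ t, tval b K (Red.gaFn (j ≫ d'))), by
      show _ = (ga b K (tval b K (Red.gaFn (j ≫ a'))) ≫ pm) * ((j ≫ t) ≫ i) *
        (ga b K (tval b K (Red.gaFn (j ≫ d'))) ≫ pp)
      rw [ga_tval, ga_tval]
      exact e⟩
  have hne := ne_zero_of_inCell H b e'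
  rw [← tval_den H b ha, ← den_comp] at hne
  exact hne

include H hnc in
/-- The coordinates over any test object. -/
theorem exists_coords_den (ha : IsConst H a) {X : Over S} (x y : Γ(X.left, ⊤)) (hz : IsUnit (den a x y)) :
    ∃ (a' : X ⟶ Red.Ga S) (t : X ⟶ T) (d' : X ⟶ Red.Ga S),
      (GaPts.ptOfFn x ≫ pp) * (GaPts.ptOfFn y ≫ pm) = (a' ≫ pm) * (t ≫ i) * (d' ≫ pp) ∧
      Red.gaFn d' * den a x y = x ∧ Red.gaFn a' * den a x y = y ∧ Red.gmFn (t ≫ α) = den a x y ^ 2 := by
  have loc : ∀ (A : Type u) [CommRing A] (b : Spec (CommRingCat.of A) ⟶ S) (j : tobj b A ⟶ X),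
      IsUnit (1 - H.d b * tval b A (j.left.appTop x) * tval b A (j.left.appTop y)) := fun A _ b j => by
    rw [← tval_den H b ha, ← den_comp]
    exact (hz.map j.left.appTop.hom).map _
  obtain ⟨a', t, d', h⟩ := exists_coords H.hΩ ((GaPts.ptOfFn x ≫ pp) * (GaPts.ptOfFn y ≫ pm) : X ⟶ G)
    fun K hK b'' j _ => by
      letI := hK.toField
      obtain ⟨c, hc, -⟩ := exists_coords_self H hnc (A := K) b'' _ _ (loc K b'' ((selfIso b'').inv ≫ j))
      refine ⟨(selfIso b'').hom ≫ ga b'' K c.1, (selfIso b'').hom ≫ c.2.1, (selfIso b'').hom ≫ ga b'' K c.2.2, ?_⟩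
      have e := congrArg ((selfIso b'').hom ≫ ·) hc
      simp only [MonObj.comp_mul, P, M, ← Category.assoc, ← P_tval, ← comp_fnPt, Iso.hom_inv_id,
        Category.id_comp] at e ⊢
      exact e
  refine ⟨a', t, d', h, ?_⟩
  have key : ∀ (A : Type u) [CommRing A] (b : Spec (CommRingCat.of A) ⟶ S) (j : tobj b A ⟶ X),
      let z := 1 - H.d b * tval b A (j.left.appTop x) * tval b A (j.left.appTop y)
      tval b A (j.left.appTop (Red.gaFn d')) * z = tval b A (j.left.appTop x) ∧
        tval b A (j.left.appTop (Red.gaFn a')) * z = tval b A (j.left.appTop y) ∧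
        tval b A (j.left.appTop (Red.gmFn (t ≫ α))) = z ^ 2 := fun A _ b j => by
    obtain ⟨c, hc, h1, h2, h3⟩ := exists_coords_self H hnc b _ _ (loc A b j)
    have e := congrArg (j ≫ ·) h
    simp only [MonObj.comp_mul, ← Category.assoc, comp_fnPt, P_tval] at e
    have e' : IsCoord (i := i) (pp := pp) (pm := pm) b (tval b A (j.left.appTop x)) (tval b A (j.left.appTop y))
        (tval b A (Red.gaFn (j ≫ a')), j ≫ t, tval b A (Red.gaFn (j ≫ d'))) := by
      show _ = (ga b A (tval b A (Red.gaFn (j ≫ a'))) ≫ pm) * ((j ≫ t) ≫ i) *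
        (ga b A (tval b A (Red.gaFn (j ≫ d'))) ≫ pp)
      rw [ga_tval, ga_tval]
      exact e
    rw [isCoord_unique b H.hΩ hc e', GaPts.gaFn_comp] at h1 h2 h3
    refine ⟨h1, h2, ?_⟩
    rw [← GmPts.gmFn_comp, ← Category.assoc]
    exact h3
  refine ⟨fn_ext fun A _ b j => ?_, fn_ext fun A _ b j => ?_, fn_ext fun A _ b j => ?_⟩ <;>
    simp only [map_mul, map_pow, den_comp, tval_den H b ha]
  exacts [(key A b j).1, (key A b j).2.1, (key A b j).2.2]

end Groth.Agent.Rank2Red38.R1
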