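import Groth.Agent.Rank2Red38.R1Global
import Groth.Agent.Rank2Red38.R1GenCover

/-! The torus coordinate is a homomorphism of the denominator. -/

set_option autoImplicit false
set_option linter.style.haveILetI false
set_option linter.unusedSectionVars false

universe u

open CategoryTheory CategoryTheory.Limits AlgebraicGeometry MonoidalCategory CartesianMonoidalCategory
open scoped MonObj

noncomputable section

namespace Groth.Agent.Rank2Red38.R1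

open GrpSchLib RankOne

variable {S : Scheme.{u}} {G T : Over S} [GrpObj G] [GrpObj T]
  {i : T ⟶ G} [IsMonHom i] {α : T ⟶ Red.Gm S} [IsMonHom α] {pp pm : Red.Ga S ⟶ G} [IsMonHom pp]
  [IsMonHom pm] (H : Sys i α pp pm)
  (hnc : ∀ s : S, ∃ (X : Over (Spec (CommRingCat.of (AlgebraicClosure (S.residueField s)))))
    (x y : X ⟶ Red.bc (Red.geomPt s) (Red.Ga S)),
    (x ≫ (Over.pullback (Red.geomPt s)).map pp) * (y ≫ (Over.pullback (Red.geomPt s)).map pm) ≠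
      (y ≫ (Over.pullback (Red.geomPt s)).map pm) * (x ≫ (Over.pullback (Red.geomPt s)).map pp))
  {a : 𝟙_ (Over S) ⟶ Red.Gm S} (ha : IsConst H a)

variable (p : Red.Ga S ⟶ G) {X Y : Over S}

/-- A root point with given function. -/
abbrev Q (v : Γ(X.left, ⊤)) : X ⟶ G := GaPts.ptOfFn v ≫ p

theorem Q_add [IsMonHom p] (x y : Γ(X.left, ⊤)) : Q p (x + y) = Q p x * Q p y := by
  refine Eq.trans ?_ (MonObj.mul_comp (GaPts.ptOfFn x) (GaPts.ptOfFn y) p)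
  exact congrArg (· ≫ p) (GaPts.gaFn_injective (by
    dsimp only; rw [GaPts.gaFn_mul, GaPts.gaFn_ptOfFn, GaPts.gaFn_ptOfFn, GaPts.gaFn_ptOfFn]))

theorem Q_gaFn (x : X ⟶ Red.Ga S) : Q p (Red.gaFn x) = x ≫ p :=
  congrArg (· ≫ p) (GaPts.gaFn_injective (GaPts.gaFn_ptOfFn _))

theorem comp_Q (j : Y ⟶ X) (v : Γ(X.left, ⊤)) : j ≫ Q p v = Q p (j.left.appTop v) := by
  rw [Q, Q, ← Category.assoc, comp_fnPt]

variable (i pp pm) in
/-- Coordinates of `p(x) m(y)`. -/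
def Crd (x y : Γ(X.left, ⊤)) (a' : X ⟶ Red.Ga S) (t : X ⟶ T) (d' : X ⟶ Red.Ga S) : Prop :=
  Q pp x * Q pm y = (a' ≫ pm) * (t ≫ i) * (d' ≫ pp)

variable (i pp pm) in
open Classical in
/-- The torus coordinate. -/
def tau (x y : Γ(X.left, ⊤)) : X ⟶ T :=
  if h : ∃ (a' : X ⟶ Red.Ga S) (t : X ⟶ T) (d' : X ⟶ Red.Ga S), Crd i pp pm x y a' t d' then
    h.choose_spec.choose else 1

include H in
theorem crd_unique {x y : Γ(X.left, ⊤)} {a₁ d₁ a₂ d₂ : X ⟶ Red.Ga S} {t₁ t₂ : X ⟶ T}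
    (h₁ : Crd i pp pm x y a₁ t₁ d₁) (h₂ : Crd i pp pm x y a₂ t₂ d₂) : a₁ = a₂ ∧ t₁ = t₂ ∧ d₁ = d₂ :=
  cell_ext H.hΩ (h₁.symm.trans h₂)

include H in
theorem tau_eq {x y : Γ(X.left, ⊤)} {a' d' : X ⟶ Red.Ga S} {t : X ⟶ T} (h : Crd i pp pm x y a' t d') :
    tau i pp pm x y = t := by
  have h' : ∃ (a' : X ⟶ Red.Ga S) (t : X ⟶ T) (d' : X ⟶ Red.Ga S), Crd i pp pm x y a' t d' := ⟨a', t, d', h⟩
  rw [tau, dif_pos h']
  exact (crd_unique H h'.choose_spec.choose_spec.choose_spec h).2.1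

include H hnc ha in
theorem tau_spec {x y : Γ(X.left, ⊤)} (hz : IsUnit (den a x y)) :
    ∃ a' d' : X ⟶ Red.Ga S, Crd i pp pm x y a' (tau i pp pm x y) d' ∧
      Red.gaFn d' * den a x y = x ∧ Red.gaFn a' * den a x y = y ∧
      Red.gmFn (tau i pp pm x y ≫ α) = den a x y ^ 2 := by
  obtain ⟨a', t, d', h, h1, h2, h3⟩ := exists_coords_den H hnc ha x y hz
  rw [tau_eq H (show Crd i pp pm x y a' t d' from h)]
  exact ⟨a', d', h, h1, h2, h3⟩

include H hnc ha in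
theorem tau_comp (j : Y ⟶ X) {x y : Γ(X.left, ⊤)} (hz : IsUnit (den a x y)) :
    j ≫ tau i pp pm x y = tau i pp pm (j.left.appTop x) (j.left.appTop y) := by
  obtain ⟨a', d', h, -⟩ := tau_spec H hnc ha hz
  refine (tau_eq H (a' := j ≫ a') (d' := j ≫ d') ?_).symm
  have e := congrArg (j ≫ ·) h
  rw [MonObj.comp_mul, MonObj.comp_mul, MonObj.comp_mul, comp_Q, comp_Q, ← Category.assoc, ← Category.assoc,
    ← Category.assoc] at e
  exact e

include H hnc ha in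
theorem tau_add_right {x y₁ y₂ F : Γ(X.left, ⊤)} (h1 : IsUnit (den a x y₁))
    (h12 : IsUnit (den a x (y₁ + y₂))) (hF : F * den a x y₁ = x) :
    tau i pp pm x (y₁ + y₂) = tau i pp pm x y₁ * tau i pp pm F y₂ := by
  obtain ⟨a₁, d₁, e₁, f₁, -⟩ := tau_spec H hnc ha h1
  have hd : Red.gaFn d₁ = F := h1.mul_right_cancel (f₁.trans hF.symm)
  have h2 : IsUnit (den a F y₂) := by
    refine (IsUnit.mul_iff.1 (show IsUnit (den a F y₂ * den a x y₁) from ?_)).1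
    convert h12 using 1
    simp only [den] at hF ⊢
    linear_combination (Red.gmFn (toUnit X ≫ a) * y₂) * hF
  obtain ⟨a₂, d₂, e₂, -⟩ := tau_spec H hnc ha h2
  obtain ⟨a₂', h', -⟩ := H.hpm X (tau i pp pm x y₁) a₂
  refine tau_eq H (a' := a₁ * a₂') (d' := d₂) ?_
  unfold Crd at e₁ e₂ ⊢
  rw [Q_add, ← _root_.mul_assoc, e₁, _root_.mul_assoc, ← Q_gaFn pp d₁, hd, e₂, MonObj.mul_comp, h',
    MonObj.mul_comp (g := i)]
  group

include H hnc ha in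
theorem tau_add_left {x₁ x₂ y F : Γ(X.left, ⊤)} (h2 : IsUnit (den a x₂ y))
    (h12 : IsUnit (den a (x₁ + x₂) y)) (hF : F * den a x₂ y = y) :
    tau i pp pm (x₁ + x₂) y = tau i pp pm x₁ F * tau i pp pm x₂ y := by
  obtain ⟨a₂, d₂, e₂, -, f₂, -⟩ := tau_spec H hnc ha h2
  have hd : Red.gaFn a₂ = F := h2.mul_right_cancel (f₂.trans hF.symm)
  have h1 : IsUnit (den a x₁ F) := by
    refine (IsUnit.mul_iff.1 (show IsUnit (den a x₁ F * den a x₂ y) from ?_)).1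
    convert h12 using 1
    simp only [den] at hF ⊢
    linear_combination (Red.gmFn (toUnit X ≫ a) * x₁) * hF
  obtain ⟨a₃, d₃, e₃, -⟩ := tau_spec H hnc ha h1
  obtain ⟨d₃', h', -⟩ := H.hpp X (tau i pp pm x₂ y)⁻¹ d₃
  refine tau_eq H (a' := a₃) (d' := d₃' * d₂) ?_
  unfold Crd at e₂ e₃ ⊢
  rw [GrpObj.inv_comp, inv_inv] at h'
  rw [Q_add, _root_.mul_assoc, e₂, ← _root_.mul_assoc, ← _root_.mul_assoc, ← Q_gaFn pm a₂, hd, e₃,
    MonObj.mul_comp (g := pp), h', MonObj.mul_comp (g := i)]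
  group

include H hnc ha in
theorem tau_conj {x y : Γ(X.left, ⊤)} (hz : IsUnit (den a x y)) (t : X ⟶ T) :
    tau i pp pm ((GmPts.unitOfPt (t ≫ α) : Γ(X.left, ⊤)) * x)
      (((GmPts.unitOfPt (t ≫ α))⁻¹ : (Γ(X.left, ⊤))ˣ) * y) = tau i pp pm x y := by
  obtain ⟨a₁, d₁, e, -⟩ := tau_spec H hnc ha hz
  obtain ⟨x', hx, fx⟩ := H.hpp X t (GaPts.ptOfFn x)
  obtain ⟨y', hy, fy⟩ := H.hpm X t (GaPts.ptOfFn y)
  obtain ⟨a₁', hA, -⟩ := H.hpm X t a₁
  obtain ⟨d₁', hD, -⟩ := H.hpp X t d₁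
  rw [GaPts.gaFn_ptOfFn, ← GmPts.val_unitOfPt] at fx fy
  have fy' : ((GmPts.unitOfPt (t ≫ α))⁻¹ : (Γ(X.left, ⊤))ˣ) * y = Red.gaFn y' := by
    rw [← fy, mul_comm (Red.gaFn y'), Units.inv_mul_cancel_left]
  rw [← fx, fy']
  refine tau_eq H (a' := a₁') (d' := d₁') ?_
  unfold Crd at e ⊢
  rw [Q_gaFn, Q_gaFn, hx, hy, hA, hD]
  calc (t ≫ i) * Q pp x * (t ≫ i)⁻¹ * ((t ≫ i) * Q pm y * (t ≫ i)⁻¹)
      = (t ≫ i) * (Q pp x * Q pm y) * (t ≫ i)⁻¹ := by group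
    _ = (t ≫ i) * (a₁ ≫ pm) * (t ≫ i)⁻¹ * ((t ≫ i) * (tau i pp pm x y ≫ i) * (t ≫ i)⁻¹) *
          ((t ≫ i) * (d₁ ≫ pp) * (t ≫ i)⁻¹) := by rw [e]; group
    _ = _ := by rw [← MonObj.mul_comp, torus_mul_comm H.hT, MonObj.mul_comp, mul_inv_cancel_right]

/-- The value of the constant, as a unit. -/
def aU (a : 𝟙_ (Over S) ⟶ Red.Gm S) (X : Over S) : (Γ(X.left, ⊤))ˣ := GmPts.unitOfPt (toUnit X ≫ a)

theorem aU_val (X : Over S) : (aU a X : Γ(X.left, ⊤)) = Red.gmFn (toUnit X ≫ a) := rfl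

theorem aU_inv_comp (j : Y ⟶ X) :
    j.left.appTop (((aU a X)⁻¹ : (Γ(X.left, ⊤))ˣ) : Γ(X.left, ⊤)) = ((aU a Y)⁻¹ : (Γ(Y.left, ⊤))ˣ) := by
  refine (Units.inv_eq_of_mul_eq_one_right ?_).symm
  rw [aU_val, ← comp_toUnit j, Category.assoc, GmPts.gmFn_comp, ← map_mul, ← aU_val, Units.mul_inv, map_one]

variable (i pp pm a) in
/-- The proposed cocharacter on points. -/
def avPt (v : Γ(X.left, ⊤)) : X ⟶ T :=
  tau i pp pm 1 ((((aU a X)⁻¹ : (Γ(X.left, ⊤))ˣ) : Γ(X.left, ⊤)) * (v - 1))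

theorem den_avPt (v : Γ(X.left, ⊤)) : den a 1 ((((aU a X)⁻¹ : (Γ(X.left, ⊤))ˣ) : Γ(X.left, ⊤)) * (v - 1)) = v := by
  rw [den, ← aU_val, _root_.mul_one, Units.mul_inv_cancel_left, add_sub_cancel]

include H hnc ha in
theorem avPt_comp (j : Y ⟶ X) {v : Γ(X.left, ⊤)} (hv : IsUnit v) :
    j ≫ avPt i pp pm a v = avPt i pp pm a (j.left.appTop v) := by
  rw [avPt, avPt, tau_comp H hnc ha j (by rwa [den_avPt]), map_one, map_mul, map_sub, map_one, aU_inv_comp]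

include H hnc ha in
theorem avPt_alpha {v : Γ(X.left, ⊤)} (hv : IsUnit v) : Red.gmFn (avPt i pp pm a v ≫ α) = v ^ 2 := by
  obtain ⟨_, _, -, -, -, h⟩ := tau_spec H hnc ha (x := 1)
    (y := (((aU a X)⁻¹ : (Γ(X.left, ⊤))ˣ) : Γ(X.left, ⊤)) * (v - 1)) (by rwa [den_avPt])
  rw [den_avPt] at h
  exact h

include H hnc ha in
/-- The torus coordinate is invariant under scaling by every unit. -/
theorem tau_scale {x y : Γ(X.left, ⊤)} (hz : IsUnit (den a x y)) (s : (Γ(X.left, ⊤))ˣ) :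
    tau i pp pm ((s : Γ(X.left, ⊤)) * x) (((s⁻¹ : _ˣ) : Γ(X.left, ⊤)) * y) = tau i pp pm x y := by
  obtain ⟨X', f, r, hf, hr⟩ := exists_sqrt_cover X s
  have hz' : IsUnit (den a ((s : Γ(X.left, ⊤)) * x) (((s⁻¹ : _ˣ) : Γ(X.left, ⊤)) * y)) := by
    convert hz using 1
    simp only [den]
    linear_combination (Red.gmFn (toUnit X ≫ a) * x * y) * s.mul_inv
  rw [← cancel_epi f, tau_comp H hnc ha f hz', tau_comp H hnc ha f hz, map_mul, map_mul]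
  have hu : GmPts.unitOfPt (avPt i pp pm a (r : Γ(X'.left, ⊤)) ≫ α) =
      Units.map f.left.appTop.hom.toMonoidHom s := by
    rw [← hr]
    exact Units.ext (avPt_alpha H hnc ha r.isUnit)
  have e := tau_conj H hnc ha (x := f.left.appTop x) (y := f.left.appTop y)
    (by rw [← den_comp]; exact hz.map _) (avPt i pp pm a (r : Γ(X'.left, ⊤)))
  rw [hu, ← map_inv] at e
  exact e

include H hnc ha in
/-- The proposed cocharacter is multiplicative. -/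
theorem avPt_mul (u v : (Γ(X.left, ⊤))ˣ) :
    avPt i pp pm a ((u : Γ(X.left, ⊤)) * (v : Γ(X.left, ⊤))) = avPt i pp pm a (u : Γ(X.left, ⊤)) * avPt i pp pm a (v : Γ(X.left, ⊤)) := by
  set c : Γ(X.left, ⊤) := (((aU a X)⁻¹ : (Γ(X.left, ⊤))ˣ) : Γ(X.left, ⊤))
  have e : c * ((u : Γ(X.left, ⊤)) * (v : Γ(X.left, ⊤)) - 1) = c * ((u : Γ(X.left, ⊤)) - 1) + (u : Γ(X.left, ⊤)) * (c * ((v : Γ(X.left, ⊤)) - 1)) := by
    ring
  have h1 : IsUnit (den a 1 (c * ((u : Γ(X.left, ⊤)) - 1))) := by rw [den_avPt]; exact u.isUnit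
  unfold avPt
  rw [e, tau_add_right H hnc ha h1 (by rw [← e, den_avPt]; exact u.isUnit.mul v.isUnit)
    (F := ((u⁻¹ : _ˣ) : Γ(X.left, ⊤))) (by rw [den_avPt, Units.inv_mul])]
  congr 1
  have h2 := tau_scale H hnc ha (x := 1) (y := c * ((v : Γ(X.left, ⊤)) - 1)) (by rw [den_avPt]; exact v.isUnit) u⁻¹
  rwa [inv_inv, _root_.mul_one] at h2

include H hnc ha in
/-- The torus coordinate depends only on the denominator. -/
theorem tau_eq_avPt {x y : Γ(X.left, ⊤)} (hz : IsUnit (den a x y)) :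
    tau i pp pm x y = avPt i pp pm a (den a x y) := by
  have key : ∀ {Z : Over S} (s : (Γ(Z.left, ⊤))ˣ) (w : Γ(Z.left, ⊤)), IsUnit (den a (s : Γ(Z.left, ⊤)) w) →
      tau i pp pm (s : Γ(Z.left, ⊤)) w = avPt i pp pm a (den a (s : Γ(Z.left, ⊤)) w) := fun {Z} s w hw => by
    have hsw : IsUnit (den a 1 ((s : Γ(Z.left, ⊤)) * w)) := by
      convert hw using 1
      simp only [den]; ring
    have h := tau_scale H hnc ha hsw s
    rw [_root_.mul_one, Units.inv_mul_cancel_left] at h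
    rw [h, avPt]
    congr 1
    rw [den, ← aU_val, add_sub_cancel_left, _root_.mul_assoc, Units.inv_mul_cancel_left]
  obtain ⟨X', f, x₁, b, za, hf, hb, hza⟩ := exists_avoid_cover X x (Red.gmFn (toUnit X ≫ a) * y) hz.unit
    (by rw [hz.unit_spec, den]; ring)
  rw [← cancel_epi f, tau_comp H hnc ha f hz, avPt_comp H hnc ha f hz, den_comp]
  have hz' : IsUnit (den a (f.left.appTop x) (f.left.appTop y)) := by rw [← den_comp]; exact hz.map _
  set x' := f.left.appTop x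
  set y' := f.left.appTop y
  have hx : x' = (b : Γ(X'.left, ⊤)) + (x₁ : Γ(X'.left, ⊤)) := by rw [hb, sub_add_cancel]
  have hd : den a (x₁ : Γ(X'.left, ⊤)) y' = za := by
    rw [hza, den, map_mul, ← comp_toUnit f, Category.assoc, GmPts.gmFn_comp]
    ring
  rw [hx] at hz' ⊢
  have hF : ((za⁻¹ : _ˣ) : Γ(X'.left, ⊤)) * y' * den a (x₁ : Γ(X'.left, ⊤)) y' = y' := by
    rw [hd, mul_right_comm, Units.inv_mul, _root_.one_mul]
  have hbF : den a (b : Γ(X'.left, ⊤)) (((za⁻¹ : _ˣ) : Γ(X'.left, ⊤)) * y') * za =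
      den a ((b : Γ(X'.left, ⊤)) + (x₁ : Γ(X'.left, ⊤))) y' := by
    rw [← hd]
    simp only [den] at hF ⊢
    linear_combination (Red.gmFn (toUnit X' ≫ a) * (b : Γ(X'.left, ⊤))) * hF
  have hu1 : IsUnit (den a (b : Γ(X'.left, ⊤)) (((za⁻¹ : _ˣ) : Γ(X'.left, ⊤)) * y')) :=
    (IsUnit.mul_iff.1 (show IsUnit (_ * (za : Γ(X'.left, ⊤))) from hbF ▸ hz')).1
  rw [tau_add_left H hnc ha (hd ▸ za.isUnit) hz' hF, key b _ hu1, key x₁ y' (hd ▸ za.isUnit), hd, ← hbF]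
  exact (avPt_mul H hnc ha hu1.unit za).symm

end Groth.Agent.Rank2Red38.R1
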