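import Groth.Agent.Rank2Red38.R1TorusPt
import Groth.Agent.Rank2Red38.R1Eval
import Groth.Agent.GrpSchLib.RankOneCell

/-! The coordinates of `p(x) m(y)` in the cell, for `x y` nilpotent. -/

set_option autoImplicit false
set_option linter.style.haveILetI false

universe u

open CategoryTheory CategoryTheory.Limits AlgebraicGeometry MonoidalCategory CartesianMonoidalCategory
open scoped MonObj

noncomputable section

namespace Groth.Agent.Rank2Red38.R1

open GrpSchLib RankOne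

variable {S : Scheme.{u}} {G T : Over S} [GrpObj G] [GrpObj T] {i : T ⟶ G} [IsMonHom i]
  {α : T ⟶ Red.Gm S} [IsMonHom α] {pp pm : Red.Ga S ⟶ G} [IsMonHom pp] [IsMonHom pm]
  {A : Type u} [CommRing A] (b : Spec (CommRingCat.of A) ⟶ S)

section Points

variable (R : Type u) [CommRing R] [Algebra A R]

variable (pp) in
/-- A point of the positive root group. -/
abbrev P (x : R) : tobj b R ⟶ G := ga b R x ≫ pp

variable (pm) in
/-- A point of the negative root group. -/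
abbrev M (y : R) : tobj b R ⟶ G := ga b R y ≫ pm

theorem P_add (x y : R) : P pp b R (x + y) = P pp b R x * P pp b R y := by
  rw [P, ga_add, MonObj.mul_comp]

theorem M_add (x y : R) : M pm b R (x + y) = M pm b R x * M pm b R y := by
  rw [M, ga_add, MonObj.mul_comp]

theorem P_zero : P pp b R 0 = 1 := by rw [P, ga_zero, MonObj.one_comp]

theorem M_zero : M pm b R 0 = 1 := by rw [M, ga_zero, MonObj.one_comp]

variable (α) in
/-- The value of the character. -/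
def chr : (tobj b R ⟶ T) →* Rˣ :=
  (gmu b R).comp (MonoidHom.mk' (fun t => t ≫ α) fun t t' => MonObj.mul_comp t t' α)

variable {R}

theorem conj_P (hpp : ∀ (X : Over S) (t : X ⟶ T) (x : X ⟶ Red.Ga S), ∃ x' : X ⟶ Red.Ga S,
    x' ≫ pp = (t ≫ i) * (x ≫ pp) * (t ≫ i)⁻¹ ∧ Red.gaFn x' = Red.gmFn (t ≫ α) * Red.gaFn x)
    (t : tobj b R ⟶ T) (x : R) :
    (t ≫ i) * P pp b R x * (t ≫ i)⁻¹ = P pp b R ((chr α b R t : R) * x) := by
  obtain ⟨x', h1, h2⟩ := hpp _ t (ga b R x)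
  rw [← h1]
  refine congrArg (· ≫ pp) ?_
  conv_lhs => rw [← ga_tval b R x']
  rw [h2, map_mul, tval_ga]
  rfl

theorem conj_M (hpm : ∀ (X : Over S) (t : X ⟶ T) (y : X ⟶ Red.Ga S), ∃ y' : X ⟶ Red.Ga S,
    y' ≫ pm = (t ≫ i) * (y ≫ pm) * (t ≫ i)⁻¹ ∧ Red.gaFn y' * Red.gmFn (t ≫ α) = Red.gaFn y)
    (t : tobj b R ⟶ T) (y : R) :
    (t ≫ i) * M pm b R y * (t ≫ i)⁻¹ = M pm b R (((chr α b R t)⁻¹ : Rˣ) * y) := by
  obtain ⟨y', h1, h2⟩ := hpm _ t (ga b R y)
  rw [← h1]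
  refine congrArg (· ≫ pm) ?_
  conv_lhs => rw [← ga_tval b R y']
  congr 1
  have e := congrArg (tval b R) h2
  rw [map_mul, tval_ga] at e
  rw [← e]
  show _ = ((chr α b R t)⁻¹ : Rˣ) * (_ * ((chr α b R t : Rˣ) : R))
  rw [mul_comm (tval b R _), Units.inv_mul_cancel_left]

theorem tmor_P {R' : Type u} [CommRing R'] [Algebra A R'] (σ : R →ₐ[A] R') (x : R) :
    tmor b σ ≫ P pp b R x = P pp b R' (σ x) := by rw [P, ← Category.assoc, tmor_ga]

theorem tmor_M {R' : Type u} [CommRing R'] [Algebra A R'] (σ : R →ₐ[A] R') (x : R) :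
    tmor b σ ≫ M pm b R x = M pm b R' (σ x) := by rw [M, ← Category.assoc, tmor_ga]

theorem tmor_chr {R' : Type u} [CommRing R'] [Algebra A R'] (σ : R →ₐ[A] R') (t : tobj b R ⟶ T) :
    (chr α b R' (tmor b σ ≫ t) : R') = σ (chr α b R t : R) := by
  show (gmu b R' ((tmor b σ ≫ t) ≫ α) : R') = _
  rw [Category.assoc, tmor_gmu]
  rfl

variable (hΩ : IsOpenImmersion (cellMap i pp pm).left)

/-- The predicate of being the coordinates of `p(x) m(y)`. -/
def IsCoord (x y : R) (c : R × (tobj b R ⟶ T) × R) : Prop :=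
  P pp b R x * M pm b R y = M pm b R c.1 * (c.2.1 ≫ i) * P pp b R c.2.2

include hΩ in
omit [IsMonHom i] [IsMonHom pp] [IsMonHom pm] in
theorem isCoord_unique {x y : R} {c c' : R × (tobj b R ⟶ T) × R} (h : IsCoord (i := i) (pp := pp) (pm := pm) b x y c)
    (h' : IsCoord (i := i) (pp := pp) (pm := pm) b x y c') : c = c' := by
  obtain ⟨h1, h2, h3⟩ := cell_ext hΩ (h.symm.trans h')
  exact Prod.ext (ga_injective b R h1) (Prod.ext h2 (ga_injective b R h3))

include hΩ in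
theorem exists_isCoord {x y : R} (h : IsNilpotent (x * y)) :
    ∃ c, IsCoord (i := i) (pp := pp) (pm := pm) b x y c := by
  obtain ⟨a, t, d, he⟩ := exists_coords hΩ (P pp b R x * M pm b R y) fun K hK b' j hroot => by
    letI := hK.toField
    let k := sval b'
    let x' := k (j.left.appTop ((tval b R).symm x))
    let y' := k (j.left.appTop ((tval b R).symm y))
    have hxy : x' * y' = 0 := by
      have h0 : IsNilpotent (x' * y') := by
        simp only [x', y', ← map_mul]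
        exact ((h.map (tval b R).symm).map j.left.appTop.hom).map k
      exact isNilpotent_iff_eq_zero.1 h0
    have ej : ∀ v : R, j ≫ ga b R v = GaPts.ptOfFn (k.symm (k (j.left.appTop ((tval b R).symm v)))) := fun v =>
      GaPts.gaFn_injective (by
        simp only [GaPts.gaFn_comp, ga, GaPts.gaFn_ptOfFn, RingEquiv.symm_apply_apply])
    rcases mul_eq_zero.1 hxy with h0 | h0
    · refine ⟨j ≫ ga b R y, 1, 1, ?_⟩
      have e : j ≫ ga b R x = 1 := by
        rw [ej, show k (j.left.appTop ((tval b R).symm x)) = 0 from h0, map_zero]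
        exact GaPts.gaFn_injective (by simp [GaPts.gaFn_ptOfFn, GaPts.gaFn_one])
      simp only [MonObj.comp_mul, P, M, ← Category.assoc, e, MonObj.one_comp, _root_.one_mul, _root_.mul_one]
    · refine ⟨1, 1, j ≫ ga b R x, ?_⟩
      have e : j ≫ ga b R y = 1 := by
        rw [ej, show k (j.left.appTop ((tval b R).symm y)) = 0 from h0, map_zero]
        exact GaPts.gaFn_injective (by simp [GaPts.gaFn_ptOfFn, GaPts.gaFn_one])
      simp only [MonObj.comp_mul, P, M, ← Category.assoc, e, MonObj.one_comp, _root_.one_mul, _root_.mul_one]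
  refine ⟨(tval b R (Red.gaFn a), t, tval b R (Red.gaFn d)), ?_⟩
  show _ = (ga b R (tval b R (Red.gaFn a)) ≫ pm) * (t ≫ i) * (ga b R (tval b R (Red.gaFn d)) ≫ pp)
  rw [ga_tval, ga_tval]
  exact he

variable (R) in
open Classical in
/-- The coordinates of `p(x) m(y)`, where they exist. -/
def coord (x y : R) : R × (tobj b R ⟶ T) × R :=
  if h : ∃ c, IsCoord (i := i) (pp := pp) (pm := pm) b x y c then h.choose else (0, 1, 0)

include hΩ in
theorem coord_eq {x y : R} {c : R × (tobj b R ⟶ T) × R} (h : IsCoord (i := i) (pp := pp) (pm := pm) b x y c) :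
    coord (i := i) (pp := pp) (pm := pm) b R x y = c := by
  rw [coord, dif_pos ⟨c, h⟩]
  exact isCoord_unique b hΩ (Classical.choose_spec (⟨c, h⟩ : ∃ c, _)) h

include hΩ in
theorem coord_spec {x y : R} (h : IsNilpotent (x * y)) :
    IsCoord (i := i) (pp := pp) (pm := pm) b x y (coord (i := i) (pp := pp) (pm := pm) b R x y) := by
  obtain ⟨c, hc⟩ := exists_isCoord (i := i) (pp := pp) (pm := pm) b hΩ h
  rwa [coord_eq b hΩ hc]

omit [IsMonHom i] [IsMonHom pp] [IsMonHom pm] in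
theorem IsCoord.map {R' : Type u} [CommRing R'] [Algebra A R'] (σ : R →ₐ[A] R') {x y : R}
    {c : R × (tobj b R ⟶ T) × R} (h : IsCoord (i := i) (pp := pp) (pm := pm) b x y c) :
    IsCoord (i := i) (pp := pp) (pm := pm) b (σ x) (σ y) (σ c.1, tmor b σ ≫ c.2.1, σ c.2.2) := by
  have e := congrArg (tmor b σ ≫ ·) h
  simp only [MonObj.comp_mul, P, M, ← Category.assoc, tmor_ga] at e
  exact e

end Points

variable (hΩ : IsOpenImmersion (cellMap i pp pm).left) (hT : Red.IsTorus T)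
  (hα : ∀ s : S, (Over.pullback (Red.geomPt s)).map α ≠ 1)
  (hpp : ∀ (X : Over S) (t : X ⟶ T) (x : X ⟶ Red.Ga S), ∃ x' : X ⟶ Red.Ga S,
    x' ≫ pp = (t ≫ i) * (x ≫ pp) * (t ≫ i)⁻¹ ∧ Red.gaFn x' = Red.gmFn (t ≫ α) * Red.gaFn x)
  (hpm : ∀ (X : Over S) (t : X ⟶ T) (y : X ⟶ Red.Ga S), ∃ y' : X ⟶ Red.Ga S,
    y' ≫ pm = (t ≫ i) * (y ≫ pm) * (t ≫ i)⁻¹ ∧ Red.gaFn y' * Red.gmFn (t ≫ α) = Red.gaFn y)

local notation "crd" => coord (i := i) (pp := pp) (pm := pm) b
local notation "IsC" => IsCoord (i := i) (pp := pp) (pm := pm) b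

/-- The positive coordinate, as a natural function. -/
def cF : Fun A where
  toFun R _ _ x y := (crd R x y).2.2
  nat σ x y h := by rw [coord_eq b hΩ ((coord_spec b hΩ h).map b σ)]

/-- The negative coordinate, as a natural function. -/
def cG : Fun A where
  toFun R _ _ x y := (crd R x y).1
  nat σ x y h := by rw [coord_eq b hΩ ((coord_spec b hΩ h).map b σ)]

/-- The inverse of the root at the torus coordinate, as a natural function. -/
def cB : Fun A where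
  toFun R _ _ x y := (((chr α b R (crd R x y).2.1)⁻¹ : Rˣ) : R)
  nat {R R'} _ _ _ _ σ x y h := by
    rw [coord_eq b hΩ ((coord_spec b hΩ h).map b σ)]
    refine (Units.inv_eq_of_mul_eq_one_right ?_).symm
    show ((chr α b R' (tmor b σ ≫ _) : R'ˣ) : R') * σ _ = 1
    rw [tmor_chr, ← map_mul, Units.mul_inv, map_one]

include hΩ hpp hpm hT in
theorem isCoord_conj {R : Type u} [CommRing R] [Algebra A R] {x y : R} {c : R × (tobj b R ⟶ T) × R}
    (h : IsC x y c) (t : tobj b R ⟶ T) :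
    IsC ((chr α b R t : R) * x) (((chr α b R t)⁻¹ : Rˣ) * y)
      (((chr α b R t)⁻¹ : Rˣ) * c.1, c.2.1, (chr α b R t : R) * c.2.2) := by
  show _ = _ * (c.2.1 ≫ i) * _
  rw [← conj_P b hpp, ← conj_M b hpm, ← conj_P b hpp, ← conj_M b hpm]
  have hc : (t ≫ i) * (c.2.1 ≫ i) * (t ≫ i)⁻¹ = c.2.1 ≫ i := by
    rw [← MonObj.mul_comp, torus_mul_comm hT, MonObj.mul_comp, mul_inv_cancel_right]
  calc (t ≫ i) * P pp b R x * (t ≫ i)⁻¹ * ((t ≫ i) * M pm b R y * (t ≫ i)⁻¹)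
      = (t ≫ i) * (P pp b R x * M pm b R y) * (t ≫ i)⁻¹ := by group
    _ = (t ≫ i) * M pm b R c.1 * (t ≫ i)⁻¹ * ((t ≫ i) * (c.2.1 ≫ i) * (t ≫ i)⁻¹) *
          ((t ≫ i) * P pp b R c.2.2 * (t ≫ i)⁻¹) := by rw [h]; group
    _ = _ := by rw [hc]

include hΩ hpp hpm hT hα in
theorem exists_scale (N : ℕ) :
    ∃ (A' : Type u) (_ : CommRing A') (_ : Algebra A A'), Function.Injective (algebraMap A A') ∧
      ∃ s : A'ˣ, (∀ k : ℕ, 0 < k → k ≤ N → IsUnit ((s : A') ^ k - 1)) ∧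
        ∀ (R : Type u) [CommRing R] [Algebra A R] (σ : A' →ₐ[A] R) (x y : R), IsNilpotent (x * y) →
          crd R (σ s * x) (σ (s⁻¹ : A'ˣ) * y) =
            (σ (s⁻¹ : A'ˣ) * (crd R x y).1, (crd R x y).2.1, σ s * (crd R x y).2.2) := by
  obtain ⟨A', _, _, hinj, t, ht⟩ := exists_torus_point hT α hα b N
  refine ⟨A', inferInstance, inferInstance, hinj, chr α b A' t, ht, fun R _ _ σ x y h => coord_eq b hΩ ?_⟩
  have e := isCoord_conj b hΩ hT hpp hpm (coord_spec b hΩ h) (tmor b σ ≫ t)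
  have h1 : (chr α b R (tmor b σ ≫ t) : R) = σ (chr α b A' t : A') := tmor_chr b σ t
  have h2 : (((chr α b R (tmor b σ ≫ t))⁻¹ : Rˣ) : R) = σ ((chr α b A' t)⁻¹ : A'ˣ) :=
    Units.inv_eq_of_mul_eq_one_right (by rw [h1, ← map_mul, Units.mul_inv, map_one])
  rwa [h1, h2] at e

theorem isCoord_add_right {R : Type u} [CommRing R] [Algebra A R] (hΩ : IsOpenImmersion (cellMap i pp pm).left)
    (hpm : ∀ (X : Over S) (t : X ⟶ T) (y : X ⟶ Red.Ga S), ∃ y' : X ⟶ Red.Ga S,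
      y' ≫ pm = (t ≫ i) * (y ≫ pm) * (t ≫ i)⁻¹ ∧ Red.gaFn y' * Red.gmFn (t ≫ α) = Red.gaFn y)
    {x y₁ y₂ : R} (h1 : IsNilpotent (x * y₁)) (h3 : IsNilpotent ((crd R x y₁).2.2 * y₂)) :
    IsC x (y₁ + y₂)
      ((crd R x y₁).1 + (((chr α b R (crd R x y₁).2.1)⁻¹ : Rˣ) : R) * (crd R (crd R x y₁).2.2 y₂).1,
        (crd R x y₁).2.1 * (crd R (crd R x y₁).2.2 y₂).2.1, (crd R (crd R x y₁).2.2 y₂).2.2) := by
  have e1 := coord_spec (i := i) (pp := pp) (pm := pm) b hΩ h1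
  have e2 := coord_spec (i := i) (pp := pp) (pm := pm) b hΩ h3
  show _ = _
  dsimp only
  rw [M_add, ← _root_.mul_assoc, e1, _root_.mul_assoc, e2, M_add, MonObj.mul_comp,
    ← conj_M b hpm (crd R x y₁).2.1]
  group

theorem isCoord_add_left {R : Type u} [CommRing R] [Algebra A R] (hΩ : IsOpenImmersion (cellMap i pp pm).left)
    (hpp : ∀ (X : Over S) (t : X ⟶ T) (x : X ⟶ Red.Ga S), ∃ x' : X ⟶ Red.Ga S,
      x' ≫ pp = (t ≫ i) * (x ≫ pp) * (t ≫ i)⁻¹ ∧ Red.gaFn x' = Red.gmFn (t ≫ α) * Red.gaFn x)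
    {x₁ x₂ y : R} (h1 : IsNilpotent (x₂ * y)) (h3 : IsNilpotent (x₁ * (crd R x₂ y).1)) :
    IsC (x₁ + x₂) y
      ((crd R x₁ (crd R x₂ y).1).1, (crd R x₁ (crd R x₂ y).1).2.1 * (crd R x₂ y).2.1,
        (crd R x₂ y).2.2 + (((chr α b R (crd R x₂ y).2.1)⁻¹ : Rˣ) : R) * (crd R x₁ (crd R x₂ y).1).2.2) := by
  have e1 := coord_spec (i := i) (pp := pp) (pm := pm) b hΩ h1
  have e2 := coord_spec (i := i) (pp := pp) (pm := pm) b hΩ h3
  show _ = _
  dsimp only
  have hc : P pp b R ((((chr α b R (crd R x₂ y).2.1)⁻¹ : Rˣ) : R) * (crd R x₁ (crd R x₂ y).1).2.2) =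
      ((crd R x₂ y).2.1 ≫ i)⁻¹ * P pp b R (crd R x₁ (crd R x₂ y).1).2.2 * ((crd R x₂ y).2.1 ≫ i) := by
    have h := conj_P b hpp (crd R x₂ y).2.1⁻¹ (crd R x₁ (crd R x₂ y).1).2.2
    rw [GrpObj.inv_comp, inv_inv, map_inv] at h
    exact h.symm
  rw [P_add, _root_.mul_assoc, e1, ← _root_.mul_assoc, ← _root_.mul_assoc, e2,
    add_comm (crd R x₂ y).2.2, P_add, hc, MonObj.mul_comp]
  group


/-- The law of the coordinates. -/
def law : Law A where
  F := cF b hΩ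
  G := cG b hΩ
  bi := cB (α := α) b hΩ
  wtF N := by
    obtain ⟨A', i1, i2, hinj, s, hs, h⟩ := exists_scale b hΩ hT hα hpp hpm N
    refine ⟨A', i1, i2, hinj, s, hs, fun R _ _ σ x y hxy => ?_⟩
    show (crd R _ _).2.2 * _ = _ * (crd R x y).2.2
    rw [h R σ x y hxy, pow_zero, _root_.mul_one, pow_one]
  wtG N := by
    obtain ⟨A', i1, i2, hinj, s, hs, h⟩ := exists_scale b hΩ hT hα hpp hpm N
    refine ⟨A', i1, i2, hinj, s, hs, fun R _ _ σ x y hxy => ?_⟩
    show (crd R _ _).1 * _ = _ * (crd R x y).1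
    rw [h R σ x y hxy, pow_zero, _root_.one_mul, pow_one, mul_right_comm, ← map_mul, Units.inv_mul, map_one,
      _root_.one_mul]
  wtB N := by
    obtain ⟨A', i1, i2, hinj, s, hs, h⟩ := exists_scale b hΩ hT hα hpp hpm N
    refine ⟨A', i1, i2, hinj, s, hs, fun R _ _ σ x y hxy => ?_⟩
    show (((chr α b R (crd R _ _).2.1)⁻¹ : Rˣ) : R) * _ = _ * (((chr α b R (crd R x y).2.1)⁻¹ : Rˣ) : R)
    rw [h R σ x y hxy, pow_zero, _root_.mul_one, _root_.one_mul]
  F_right R _ _ x := by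
    show (crd R x 0).2.2 = x
    rw [coord_eq b hΩ (c := (0, 1, x)) (by show _ = _; rw [M_zero, MonObj.one_comp]; simp)]
  F_left R _ _ y := by
    show (crd R 0 y).2.2 = 0
    rw [coord_eq b hΩ (c := (y, 1, 0)) (by show _ = _; rw [P_zero, MonObj.one_comp]; simp)]
  G_right R _ _ x := by
    show (crd R x 0).1 = 0
    rw [coord_eq b hΩ (c := (0, 1, x)) (by show _ = _; rw [M_zero, MonObj.one_comp]; simp)]
  G_left R _ _ y := by
    show (crd R 0 y).1 = y
    rw [coord_eq b hΩ (c := (y, 1, 0)) (by show _ = _; rw [P_zero, MonObj.one_comp]; simp)]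
  bi_right R _ _ x := by
    show (((chr α b R (crd R x 0).2.1)⁻¹ : Rˣ) : R) = 1
    rw [coord_eq b hΩ (c := (0, 1, x)) (by show _ = _; rw [M_zero, MonObj.one_comp]; simp)]
    simp
  bi_left R _ _ y := by
    show (((chr α b R (crd R 0 y).2.1)⁻¹ : Rˣ) : R) = 1
    rw [coord_eq b hΩ (c := (y, 1, 0)) (by show _ = _; rw [P_zero, MonObj.one_comp]; simp)]
    simp
  addF R _ _ x y₁ y₂ h1 h2 h3 := by
    show (crd R x (y₁ + y₂)).2.2 = (crd R (crd R x y₁).2.2 y₂).2.2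
    rw [coord_eq b hΩ (isCoord_add_right b hΩ hpm h1 h3)]
  addG R _ _ x y₁ y₂ h1 h2 h3 := by
    show (crd R x (y₁ + y₂)).1 =
      (crd R x y₁).1 + (((chr α b R (crd R x y₁).2.1)⁻¹ : Rˣ) : R) * (crd R (crd R x y₁).2.2 y₂).1
    rw [coord_eq b hΩ (isCoord_add_right b hΩ hpm h1 h3)]
  addF' R _ _ x₁ x₂ y h1 h2 h3 := by
    show (crd R (x₁ + x₂) y).2.2 =
      (crd R x₂ y).2.2 + (((chr α b R (crd R x₂ y).2.1)⁻¹ : Rˣ) : R) * (crd R x₁ (crd R x₂ y).1).2.2
    rw [coord_eq b hΩ (isCoord_add_left b hΩ hpp h1 h3)]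
  addG' R _ _ x₁ x₂ y h1 h2 h3 := by
    show (crd R (x₁ + x₂) y).1 = (crd R x₁ (crd R x₂ y).1).1
    rw [coord_eq b hΩ (isCoord_add_left b hΩ hpp h1 h3)]

end Groth.Agent.Rank2Red38.R1
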