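import Groth.Agent.Rank2Red38.R1Series
import Mathlib.Algebra.Polynomial.Derivative
import Mathlib.Algebra.Polynomial.Taylor

/-! The coordinates of `p(x) m(y)` in the cell of a rank-one system: functional equations and their solution. -/

set_option autoImplicit false

universe u

open Polynomial

namespace Groth.Agent.Rank2Red38.R1

variable {A : Type u} [CommRing A]

/-- The laws satisfied by the coordinates `p(x) m(y) = m(G) t p(F)`, `bi` the inverse of the root at `t`. -/
structure Law (A : Type u) [CommRing A] where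
  F : Fun A
  G : Fun A
  bi : Fun A
  wtF : F.IsWt 0 1
  wtG : G.IsWt 1 0
  wtB : bi.IsWt 0 0
  F_right : ∀ (R : Type u) [CommRing R] [Algebra A R] (x : R), F.toFun R x 0 = x
  F_left : ∀ (R : Type u) [CommRing R] [Algebra A R] (y : R), F.toFun R 0 y = 0
  G_right : ∀ (R : Type u) [CommRing R] [Algebra A R] (x : R), G.toFun R x 0 = 0
  G_left : ∀ (R : Type u) [CommRing R] [Algebra A R] (y : R), G.toFun R 0 y = y
  bi_right : ∀ (R : Type u) [CommRing R] [Algebra A R] (x : R), bi.toFun R x 0 = 1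
  bi_left : ∀ (R : Type u) [CommRing R] [Algebra A R] (y : R), bi.toFun R 0 y = 1
  addF : ∀ (R : Type u) [CommRing R] [Algebra A R] (x y₁ y₂ : R), IsNilpotent (x * y₁) →
    IsNilpotent (x * (y₁ + y₂)) → IsNilpotent (F.toFun R x y₁ * y₂) →
    F.toFun R x (y₁ + y₂) = F.toFun R (F.toFun R x y₁) y₂
  addG : ∀ (R : Type u) [CommRing R] [Algebra A R] (x y₁ y₂ : R), IsNilpotent (x * y₁) →
    IsNilpotent (x * (y₁ + y₂)) → IsNilpotent (F.toFun R x y₁ * y₂) →
    G.toFun R x (y₁ + y₂) = G.toFun R x y₁ + bi.toFun R x y₁ * G.toFun R (F.toFun R x y₁) y₂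
  addF' : ∀ (R : Type u) [CommRing R] [Algebra A R] (x₁ x₂ y : R), IsNilpotent (x₂ * y) →
    IsNilpotent ((x₁ + x₂) * y) → IsNilpotent (x₁ * G.toFun R x₂ y) →
    F.toFun R (x₁ + x₂) y = F.toFun R x₂ y + bi.toFun R x₂ y * F.toFun R x₁ (G.toFun R x₂ y)
  addG' : ∀ (R : Type u) [CommRing R] [Algebra A R] (x₁ x₂ y : R), IsNilpotent (x₂ * y) →
    IsNilpotent ((x₁ + x₂) * y) → IsNilpotent (x₁ * G.toFun R x₂ y) →
    G.toFun R (x₁ + x₂) y = G.toFun R x₁ (G.toFun R x₂ y)

theorem Fun.IsWt.swap {H : Fun A} {p q : ℕ} (h : H.IsWt p q) : H.swap.IsWt q p := by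
  intro N
  obtain ⟨A', _, _, hinj, s, hs, hH⟩ := h N
  refine ⟨A', inferInstance, inferInstance, hinj, s⁻¹, fun k h0 hk => ?_, fun R _ _ σ x y hxy => ?_⟩
  · have e : ((s⁻¹ : A'ˣ) : A') ^ k - 1 = -(((s⁻¹ : A'ˣ) : A') ^ k * ((s : A') ^ k - 1)) := by
      rw [mul_sub, ← mul_pow, Units.inv_mul, one_pow]; ring
    rw [e]
    exact (((Units.isUnit _).pow _).mul (hs k h0 hk)).neg
  · have e := hH R σ y x (by rwa [mul_comm])
    show H.toFun R (σ ((s⁻¹)⁻¹ : A'ˣ) * y) (σ (s⁻¹ : A'ˣ) * x) * σ (s⁻¹ : A'ˣ) ^ q = σ (s⁻¹ : A'ˣ) ^ p * H.toFun R y x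
    rw [inv_inv]
    have hi : σ (s⁻¹ : A'ˣ) * σ s = 1 := by rw [← map_mul, Units.inv_mul, map_one]
    have h1 : ∀ n, σ (s⁻¹ : A'ˣ) ^ n * σ s ^ n = 1 := fun n => by rw [← mul_pow, hi, one_pow]
    linear_combination (σ (s⁻¹ : A'ˣ) ^ q * σ (s⁻¹ : A'ˣ) ^ p) * e -
      (H.toFun R (σ s * y) (σ (s⁻¹ : A'ˣ) * x) * σ (s⁻¹ : A'ˣ) ^ q) * h1 p +
      (H.toFun R y x * σ (s⁻¹ : A'ˣ) ^ p) * h1 q

/-- The law with the two root groups exchanged. -/
def Law.swap (L : Law A) : Law A where
  F := L.G.swap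
  G := L.F.swap
  bi := L.bi.swap
  wtF := L.wtG.swap
  wtG := L.wtF.swap
  wtB := L.wtB.swap
  F_right R _ _ x := L.G_left R x
  F_left R _ _ y := L.G_right R y
  G_right R _ _ x := L.F_left R x
  G_left R _ _ y := L.F_right R y
  bi_right R _ _ x := L.bi_left R x
  bi_left R _ _ y := L.bi_right R y
  addF R _ _ x y₁ y₂ h1 h2 h3 := by
    show L.G.toFun R (y₁ + y₂) x = L.G.toFun R y₂ (L.G.toFun R y₁ x)
    rw [add_comm y₁]
    exact L.addG' R y₂ y₁ x (by rwa [mul_comm]) (by rwa [add_comm y₂, mul_comm]) (by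
      rw [mul_comm]; exact h3)
  addG R _ _ x y₁ y₂ h1 h2 h3 := by
    show L.F.toFun R (y₁ + y₂) x = L.F.toFun R y₁ x + L.bi.toFun R y₁ x * L.F.toFun R y₂ (L.G.toFun R y₁ x)
    rw [add_comm y₁]
    exact L.addF' R y₂ y₁ x (by rwa [mul_comm]) (by rwa [add_comm y₂, mul_comm]) (by
      rw [mul_comm]; exact h3)
  addF' R _ _ x₁ x₂ y h1 h2 h3 := by
    show L.G.toFun R y (x₁ + x₂) = L.G.toFun R y x₂ + L.bi.toFun R y x₂ * L.G.toFun R (L.F.toFun R y x₂) x₁
    rw [add_comm x₁]
    exact L.addG R y x₂ x₁ (by rwa [mul_comm]) (by rwa [add_comm x₂, mul_comm]) (by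
      rw [mul_comm]; exact h3)
  addG' R _ _ x₁ x₂ y h1 h2 h3 := by
    show L.F.toFun R y (x₁ + x₂) = L.F.toFun R (L.F.toFun R y x₂) x₁
    rw [add_comm x₁]
    exact L.addF R y x₂ x₁ (by rwa [mul_comm]) (by rwa [add_comm x₂, mul_comm]) (by
      rw [mul_comm]; exact h3)

variable (L : Law A)

/-- The coefficients of the positive coordinate. -/
noncomputable def Law.f (n : ℕ) : A := L.F.coeff n

/-- The coefficients of the negative coordinate. -/
noncomputable def Law.g (n : ℕ) : A := L.G.coeff (n + 1)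

/-- The coefficients of the inverse torus coordinate. -/
noncomputable def Law.b (n : ℕ) : A := L.bi.coeff n

theorem coeff_zero_eq (H : Fun A) (z : A) (hz : H.toFun (Trunc A 1) 1 0 = algebraMap A _ z) : H.coeff 0 = z := by
  have h := H.apply_one (N := 1) (0 : Trunc A 1) (pow_one _)
  rw [hz] at h
  refine coeff_ext (g := fun _ => z) ?_ Nat.zero_lt_one
  simp only [Finset.sum_range_one, pow_zero, mul_one] at h ⊢
  exact h.symm

theorem Law.f_zero : L.f 0 = 1 := coeff_zero_eq _ 1 (by rw [L.F_right, map_one])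

theorem Law.b_zero : L.b 0 = 1 := coeff_zero_eq _ 1 (by rw [L.bi_right, map_one])

theorem Law.G_coeff_zero : L.G.coeff 0 = 0 := coeff_zero_eq _ 0 (by rw [L.G_right, map_zero])

/-- Equality of two polynomials in the truncated ring. -/
theorem trunc_eq_aeval {N : ℕ} (p : A[X]) : aeval (trunc A N X) p = trunc A N p := by
  induction p using Polynomial.induction_on' with
  | add p q hp hq => rw [map_add, map_add, hp, hq]
  | monomial n a => rw [aeval_monomial, ← C_mul_X_pow_eq_monomial, map_mul, map_pow]; rfl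

theorem Law.g_zero : L.g 0 = 1 := by
  have h := L.G.apply_eq L.wtG (N := 2) (0 : Trunc A 2) (trunc A 2 X) (trunc_X_pow 2)
  rw [L.G_left, Finset.sum_range_succ, Finset.sum_range_one] at h
  simp only [Nat.add_zero, show ¬ (1 ≤ 0) by decide, if_false, le_refl, if_true, Nat.sub_self, pow_zero, mul_one,
    pow_one, zero_add] at h
  have e := trunc_eq_iff.1 (show trunc A 2 X = trunc A 2 (C (L.g 0) * X) by rw [map_mul]; exact h) 1 one_lt_two
  simpa using e.symm

/-- The series of a coordinate, truncated. -/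
noncomputable def poly (c : ℕ → A) (N : ℕ) : A[X] := ∑ n ∈ Finset.range N, C (c n) * X ^ n

theorem coeff_poly (c : ℕ → A) {N n : ℕ} (hn : n < N) : (poly c N).coeff n = c n := by
  simp [poly, coeff_C_mul, coeff_X_pow, hn]

theorem apply_one_poly (H : Fun A) {R : Type u} [CommRing R] [Algebra A R] {N : ℕ} (y : R) (hy : y ^ N = 0) :
    H.toFun R 1 y = aeval y (poly H.coeff N) := by
  rw [H.apply_one y hy]
  simp [poly, map_sum]

/-- A first order thickening of a truncated ring. -/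
abbrev Eps (A : Type u) [CommRing A] (M : ℕ) : Type u := Trunc (Trunc A M) 2

/-- The variable. -/
noncomputable abbrev epsY (A : Type u) [CommRing A] (M : ℕ) : Eps A M := trunc _ 2 (C (trunc A M X))

/-- The infinitesimal. -/
noncomputable abbrev eps (A : Type u) [CommRing A] (M : ℕ) : Eps A M := trunc _ 2 X

theorem eps_sq (M : ℕ) : eps A M ^ 2 = 0 := trunc_X_pow 2

theorem epsY_pow (M : ℕ) : epsY A M ^ M = 0 := by
  rw [← map_pow, ← map_pow, trunc_X_pow, map_zero, map_zero]

theorem add_eps_pow (M : ℕ) : (epsY A M + eps A M) ^ (M + 1) = 0 := by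
  have h : ∀ k, eps A M ^ (k + 2) = 0 := fun k => by rw [pow_add, eps_sq, mul_zero]
  rw [add_pow]
  refine Finset.sum_eq_zero fun i hi => ?_
  rcases Nat.lt_or_ge i M with h' | h'
  · rw [show M + 1 - i = (M - 1 - i) + 2 by omega, h, mul_zero, zero_mul]
  · rw [pow_eq_zero_of_le h' (epsY_pow M), zero_mul, zero_mul]

theorem aeval_epsY (M : ℕ) (p : A[X]) : aeval (epsY A M) p = trunc _ 2 (C (trunc A M p)) := by
  rw [← trunc_eq_aeval (N := M) p]
  exact aeval_algHom_apply (IsScalarTower.toAlgHom A (Trunc A M) (Eps A M)) (trunc A M X) p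

theorem eps_ext {M : ℕ} {a a' c c' : A[X]}
    (h : aeval (epsY A M) a + aeval (epsY A M) c * eps A M = aeval (epsY A M) a' + aeval (epsY A M) c' * eps A M)
    {n : ℕ} (hn : n < M) : c.coeff n = c'.coeff n := by
  rw [aeval_epsY, aeval_epsY, aeval_epsY, aeval_epsY, ← map_mul, ← map_mul, ← map_add, ← map_add] at h
  have e := trunc_eq_iff.1 h 1 one_lt_two
  simp only [Polynomial.coeff_add, coeff_C, one_ne_zero, if_false, zero_add, coeff_C_mul, coeff_X_one, mul_one] at e
  exact trunc_eq_iff.1 e n hn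

theorem Law.G_eps {R : Type u} [CommRing R] [Algebra A R] (z ε : R) (h : ε ^ 2 = 0) : L.G.toFun R z ε = ε := by
  rw [L.G.apply_eq L.wtG z ε h, Finset.sum_range_succ, Finset.sum_range_one]
  simp [show L.G.coeff 1 = 1 from L.g_zero]

theorem Law.F_eps {R : Type u} [CommRing R] [Algebra A R] (z ε : R) (h : ε ^ 2 = 0) :
    L.F.toFun R z ε = z + algebraMap A R (L.f 1) * z ^ 2 * ε := by
  rw [L.F.apply_eq L.wtF z ε h, Finset.sum_range_succ, Finset.sum_range_one]
  simp [show L.F.coeff 0 = 1 from L.f_zero, Law.f]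

theorem Law.bi_eps {R : Type u} [CommRing R] [Algebra A R] (z ε : R) (h : ε ^ 2 = 0) :
    L.bi.toFun R z ε = 1 + algebraMap A R (L.b 1) * z * ε := by
  rw [L.bi.apply_eq L.wtB z ε h, Finset.sum_range_succ, Finset.sum_range_one]
  simp [show L.bi.coeff 0 = 1 from L.b_zero, Law.b]

theorem deriv_poly_coeff (c : ℕ → A) {N n : ℕ} (hn : n + 1 < N) :
    (derivative (poly c N)).coeff n = ((n : A) + 1) * c (n + 1) := by
  rw [coeff_derivative, coeff_poly c hn]; ring

theorem Law.rec_square (n : ℕ) :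
    ((n : A) + 1) * L.f (n + 1) = L.f 1 * ∑ i ∈ Finset.range (n + 1), L.f i * L.f (n - i) := by
  let M := n + 1
  let P := poly L.F.coeff (M + 1)
  have hY := epsY_pow (A := A) M
  have hY' : epsY A M ^ (M + 1) = 0 := pow_eq_zero_of_le (Nat.le_succ M) hY
  have h := L.addF (Eps A M) 1 (epsY A M) (eps A M) (isNilpotent_mul_right _ hY)
    (isNilpotent_mul_right _ (add_eps_pow M)) (isNilpotent_mul_right _ (eps_sq M))
  rw [L.F_eps _ _ (eps_sq M), apply_one_poly _ _ (add_eps_pow M), apply_one_poly _ _ hY',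
    aeval_add_of_sq_eq_zero _ _ _ (eps_sq M)] at h
  have e := eps_ext (a := P) (a' := P) (c := derivative P) (c' := C (L.f 1) * P ^ 2) (by
    rw [map_mul, map_pow, aeval_C]; exact h) (n := n) (Nat.lt_succ_self n)
  rw [deriv_poly_coeff _ (by omega), coeff_C_mul, pow_two, coeff_mul,
    Finset.Nat.sum_antidiagonal_eq_sum_range_succ (fun i j => P.coeff i * P.coeff j)] at e
  refine e.trans (congrArg (L.f 1 * ·) (Finset.sum_congr rfl fun i hi => ?_))
  have := Finset.mem_range.1 hi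
  rw [coeff_poly _ (by omega), coeff_poly _ (by omega)]
  rfl

theorem Law.rec_lin (n : ℕ) : ((n : A) + 1) * L.f (n + 1) = ((n : A) + 1) * L.f 1 * L.f n := by
  let M := n + 1
  let P := poly L.F.coeff (M + 1)
  have hY := epsY_pow (A := A) M
  have hY' : epsY A M ^ (M + 1) = 0 := pow_eq_zero_of_le (Nat.le_succ M) hY
  have h := L.addF (Eps A M) 1 (eps A M) (epsY A M) (isNilpotent_mul_right _ (eps_sq M))
    (isNilpotent_mul_right _ (add_comm (eps A M) (epsY A M) ▸ add_eps_pow M)) (isNilpotent_mul_right _ hY)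
  rw [add_comm (eps A M), apply_one_poly _ _ (add_eps_pow M),
    aeval_add_of_sq_eq_zero _ _ _ (eps_sq M), L.F_eps _ _ (eps_sq M), L.F.apply_eq L.wtF _ _ hY'] at h
  have hp : ∀ m : ℕ, (1 + algebraMap A (Eps A M) (L.f 1) * 1 ^ 2 * eps A M) ^ m =
      1 + (m : Eps A M) * algebraMap A (Eps A M) (L.f 1) * eps A M := by
    intro m
    induction m with
    | zero => simp
    | succ m ih =>
      rw [pow_succ, ih]; push_cast
      linear_combination (m : Eps A M) * algebraMap A (Eps A M) (L.f 1) ^ 2 * eps_sq (A := A) M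
  have e := eps_ext (a := P) (a' := P) (c := derivative P)
    (c' := ∑ m ∈ Finset.range (M + 1), C (((m : A) + 1) * L.f 1 * L.f m) * X ^ m) (by
    refine h.trans ?_
    simp only [P, poly, map_sum, map_mul, map_pow, aeval_C, aeval_X, Finset.sum_mul, ← Finset.sum_add_distrib]
    refine Finset.sum_congr rfl fun m _ => ?_
    rw [if_pos (Nat.zero_le _), Nat.sub_zero, hp]
    push_cast [map_add, map_natCast, map_one, Law.f]
    ring) (n := n) (Nat.lt_succ_self n)
  rw [deriv_poly_coeff _ (by omega)] at e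
  refine e.trans ?_
  rw [finsetSum_coeff, Finset.sum_eq_single n
    (fun m _ hm => by rw [coeff_C_mul_X_pow, if_neg (Ne.symm hm)])
    (fun h => absurd (Finset.mem_range.2 (show n < M + 1 by omega)) h), coeff_C_mul_X_pow, if_pos rfl]

theorem Law.rec_deriv (n : ℕ) : L.b n = ((n : A) + 1) * L.g n := by
  let M := n + 1
  let P := poly L.G.coeff (M + 1)
  let Q := poly L.bi.coeff (M + 1)
  have hY := epsY_pow (A := A) M
  have hY' : epsY A M ^ (M + 1) = 0 := pow_eq_zero_of_le (Nat.le_succ M) hY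
  have h := L.addG (Eps A M) 1 (epsY A M) (eps A M) (isNilpotent_mul_right _ hY)
    (isNilpotent_mul_right _ (add_eps_pow M)) (isNilpotent_mul_right _ (eps_sq M))
  rw [L.G_eps _ _ (eps_sq M), apply_one_poly _ _ (add_eps_pow M), apply_one_poly L.G _ hY',
    apply_one_poly L.bi _ hY', aeval_add_of_sq_eq_zero _ _ _ (eps_sq M)] at h
  have e := eps_ext (a := P) (a' := P) (c := derivative P) (c' := Q) h (n := n) (Nat.lt_succ_self n)
  rw [deriv_poly_coeff _ (by omega), coeff_poly _ (by omega)] at e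
  exact e.symm

theorem Law.rec_second : 3 * L.g 2 = L.g 1 * (L.b 1 + L.f 1) := by
  let B := Trunc A 2
  let R := Trunc B 3
  let y : R := trunc B 3 (C (trunc A 2 X))
  let δ : R := trunc B 3 X
  have hy : y ^ 2 = 0 := by rw [← map_pow, ← map_pow, trunc_X_pow, map_zero, map_zero]
  have hδ : δ ^ 3 = 0 := trunc_X_pow 3
  have hyδ : (y + δ) ^ 4 = 0 := by linear_combination (y ^ 2 + 4 * y * δ + 6 * δ ^ 2) * hy + (δ + 4 * y) * hδ
  have h := L.addG R 1 y δ (isNilpotent_mul_right _ hy) (isNilpotent_mul_right _ hyδ)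
    (isNilpotent_mul_right _ hδ)
  rw [L.G.apply_eq L.wtG 1 (y + δ) hyδ, L.G.apply_eq L.wtG 1 y hy, L.bi.apply_eq L.wtB 1 y hy,
    L.F.apply_eq L.wtF 1 y hy, L.G.apply_eq L.wtG _ δ hδ] at h
  simp only [Finset.sum_range_succ, Finset.sum_range_zero, Nat.add_zero, zero_add, show ¬ (1 ≤ 0) by decide,
    if_false, show (1 : ℕ) ≤ 1 by decide, show (1 : ℕ) ≤ 2 by decide, show (1 : ℕ) ≤ 3 by decide, if_true,
    Nat.zero_le, Nat.sub_zero, Nat.sub_self, pow_zero, pow_one, one_pow, mul_one,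
    show L.G.coeff 1 = 1 from L.g_zero, show L.bi.coeff 0 = 1 from L.b_zero,
    show L.F.coeff 0 = 1 from L.f_zero, map_one, one_mul, show (2 : ℕ) - 1 = 1 by decide] at h
  have key : algebraMap A R (3 * L.g 2 - L.g 1 * (L.b 1 + L.f 1)) * y * δ ^ 2 = 0 := by
    have hb := congrArg (algebraMap A R) (L.rec_deriv 1)
    simp only [map_sub, map_mul, map_add, map_ofNat, Law.g, Law.b, Law.f, Nat.cast_one, map_one,
      show (1 : ℕ) + 1 = 2 from rfl, show (2 : ℕ) + 1 = 3 from rfl] at hb ⊢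
    linear_combination h + y * δ * hb - algebraMap A R (L.G.coeff 2) * hy
      - (algebraMap A R (L.G.coeff 3) * (y + 3 * δ) - algebraMap A R (L.bi.coeff 1) * algebraMap A R (L.G.coeff 2) *
          algebraMap A R (L.F.coeff 1) * δ ^ 2) * hy
      - algebraMap A R (L.G.coeff 3) * hδ
  have e : trunc B 3 (C (trunc A 2 (C (3 * L.g 2 - L.g 1 * (L.b 1 + L.f 1)) * X)) * X ^ 2) = trunc B 3 0 := by
    rw [map_zero, ← key, map_mul, map_mul, map_mul, map_pow]
    rfl
  have e1 := trunc_eq_iff.1 e 2 (by decide)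
  rw [coeff_C_mul, coeff_X_pow_self, mul_one, coeff_zero, ← map_zero (trunc A 2)] at e1
  have e2 := trunc_eq_iff.1 e1 1 one_lt_two
  rw [coeff_C_mul, coeff_X_one, mul_one, coeff_zero] at e2
  exact sub_eq_zero.1 e2

theorem diag_ext {M N : ℕ} {a c : ℕ → A} (k : ℕ)
    (h : trunc A N (∑ m ∈ Finset.range M, C (a m) * X ^ (2 * m + k)) =
      trunc A N (∑ m ∈ Finset.range M, C (c m) * X ^ (2 * m + k))) {n : ℕ} (hn : 2 * n + k < N) (hM : n < M) :
    a n = c n := by
  have e := trunc_eq_iff.1 h _ hn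
  simp only [finsetSum_coeff, coeff_C_mul, coeff_X_pow, mul_ite, mul_one, mul_zero] at e
  rw [Finset.sum_eq_single n (fun m _ hm => if_neg (by omega)) (fun h => absurd (Finset.mem_range.2 hM) h),
    Finset.sum_eq_single n (fun m _ hm => if_neg (by omega)) (fun h => absurd (Finset.mem_range.2 hM) h)] at e
  simpa using e

theorem Law.swap_g (n : ℕ) : L.swap.g n = L.f n := by
  let N := 2 * n + 2
  let t := trunc A N X
  have h := L.swap.G.apply_eq L.swap.wtG (N := N + 1) t t (pow_eq_zero_of_le (Nat.le_succ N) (trunc_X_pow N))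
  have h' : L.swap.G.toFun _ t t = L.F.toFun _ t t := rfl
  rw [h', L.F.apply_eq L.wtF (N := N) t t (trunc_X_pow N), Finset.sum_range_succ' _ N] at h
  refine (diag_ext (M := N) (N := N) 1 ?_ (by omega) (by omega)).symm
  rw [if_neg (by omega), add_zero] at h
  simp only [map_sum, map_mul, map_pow]
  refine Eq.trans (Finset.sum_congr rfl fun m _ => ?_) (h.trans (Finset.sum_congr rfl fun m _ => ?_))
  · rw [if_pos (Nat.zero_le _), Nat.sub_zero, mul_assoc, ← pow_add]
    exact congrArg₂ (· * ·) rfl (congrArg (t ^ ·) (by omega))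
  · rw [if_pos (by omega), mul_assoc, ← pow_add]
    exact congrArg₂ (· * ·) rfl (congrArg (t ^ ·) (by omega))

theorem Law.swap_b (n : ℕ) : L.swap.b n = L.b n := by
  let N := 2 * n + 1
  let t := trunc A N X
  have h := L.swap.bi.apply_eq L.swap.wtB (N := N) t t (trunc_X_pow N)
  have h' : L.swap.bi.toFun _ t t = L.bi.toFun _ t t := rfl
  rw [h', L.bi.apply_eq L.wtB (N := N) t t (trunc_X_pow N)] at h
  refine (diag_ext (M := N) (N := N) 0 ?_ (by omega) (by omega)).symm
  simp only [map_sum, map_mul, map_pow]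
  refine Eq.trans (Finset.sum_congr rfl fun m _ => ?_) (h.trans (Finset.sum_congr rfl fun m _ => ?_))
  all_goals
    rw [if_pos (Nat.zero_le _), Nat.sub_zero, mul_assoc, ← pow_add]
    exact congrArg₂ (· * ·) rfl (congrArg (t ^ ·) (by omega))

theorem Law.swap_f (n : ℕ) : L.swap.f n = L.g n := (L.swap.swap_g n).symm

theorem Law.f_one_eq (hu : IsUnit (L.g 1)) : L.f 1 = L.g 1 := by
  have h1 : L.g 2 = L.g 1 ^ 2 := by
    have := seq_pow L.swap.f_zero L.swap.rec_lin L.swap.rec_square (by rw [L.swap_f]; exact hu) 2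
    rwa [L.swap_f, L.swap_f] at this
  have h2 := L.rec_second
  rw [L.rec_deriv 1, h1] at h2
  refine hu.mul_left_cancel ?_
  push_cast at h2
  linear_combination -h2

/-- The coefficients, when the linear one is invertible. -/
theorem Law.unit_case (hu : IsUnit (L.g 1)) (n : ℕ) :
    L.f n = L.g 1 ^ n ∧ L.g n = L.g 1 ^ n ∧ L.b n = ((n : A) + 1) * L.g 1 ^ n := by
  have hg : L.g n = L.g 1 ^ n := by
    have := seq_pow L.swap.f_zero L.swap.rec_lin L.swap.rec_square (by rw [L.swap_f]; exact hu) n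
    rwa [L.swap_f, L.swap_f] at this
  have hf := seq_pow L.f_zero L.rec_lin L.rec_square (by rw [L.f_one_eq hu]; exact hu) n
  rw [L.f_one_eq hu] at hf
  exact ⟨hf, hg, by rw [L.rec_deriv, hg]⟩

theorem Law.rec_shift (n : ℕ) (hf : L.f 1 = 0) (hg : L.g 1 = 0) :
    ((n : A) + 2) * L.f (n + 1) = 0 := by
  let M := n + 2
  let u := epsY A M
  let v := eps A M
  have hY := epsY_pow (A := A) M
  have hY' : u ^ (M + 1) = 0 := pow_eq_zero_of_le (Nat.le_succ M) hY
  have hb1 : L.b 1 = 0 := by rw [L.rec_deriv 1, hg, mul_zero]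
  have hG : L.G.toFun (Eps A M) v 1 = 1 := by
    show L.swap.F.toFun (Eps A M) 1 v = 1
    rw [L.swap.F_eps _ _ (eps_sq M), L.swap_f, hg, map_zero]; simp
  have hB : L.bi.toFun (Eps A M) v 1 = 1 := by
    show L.swap.bi.toFun (Eps A M) 1 v = 1
    rw [L.swap.bi_eps _ _ (eps_sq M), L.swap_b, hb1, map_zero]; simp
  have hF : L.F.toFun (Eps A M) v 1 = v := L.swap.G_eps 1 v (eps_sq M)
  have h := L.addF' (Eps A M) u v 1 (by rw [mul_comm]; exact isNilpotent_mul_right _ (eps_sq M))
    (by rw [mul_one]; exact ⟨_, add_eps_pow M⟩) (by rw [hG, mul_one]; exact ⟨_, hY⟩)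
  rw [hG, hB, hF, one_mul] at h
  have hs : ∀ (x : Eps A M), L.F.toFun (Eps A M) x 1 = L.swap.G.toFun (Eps A M) 1 x := fun x => rfl
  rw [hs, hs, apply_one_poly _ _ (add_eps_pow M), apply_one_poly _ _ hY',
    aeval_add_of_sq_eq_zero _ _ _ (eps_sq M)] at h
  let P := poly L.swap.G.coeff (M + 1)
  have e := eps_ext (a := P) (a' := P) (c := derivative P) (c' := 1) (by
    rw [map_one, one_mul]; exact h.trans (add_comm _ _)) (n := n + 1) (Nat.lt_succ_self _)
  rw [deriv_poly_coeff _ (by omega), coeff_one, if_neg (by omega)] at e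
  rw [← L.swap_g]
  unfold Law.g
  push_cast at e
  linear_combination e

theorem Law.f_zero_case (hf : L.f 1 = 0) (hg : L.g 1 = 0) (n : ℕ) : L.f (n + 1) = 0 := by
  have a := L.rec_shift n hf hg
  have b := L.rec_lin n
  rw [hf] at b
  linear_combination a - b

/-- The coefficients, when the linear one vanishes over a field. -/
theorem Law.zero_case {K : Type u} [Field K] (L : Law K) (hg : L.g 1 = 0) (n : ℕ) :
    L.f (n + 1) = 0 ∧ L.g (n + 1) = 0 := by
  have hf : L.f 1 = 0 := by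
    by_contra hf
    have h := L.swap.f_one_eq (by rw [L.swap_g]; exact isUnit_iff_ne_zero.2 hf)
    rw [L.swap_f, L.swap_g, hg] at h
    exact hf h.symm
  refine ⟨L.f_zero_case hf hg n, ?_⟩
  rw [← L.swap_f]
  exact L.swap.f_zero_case (by rw [L.swap_f]; exact hg) (by rw [L.swap_g]; exact hf) n

end Groth.Agent.Rank2Red38.R1
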