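import Groth.Agent.Rank2Red38.R1Field
import Groth.Agent.GrpSchLib.RankOneNondeg

/-! The constant of a rank-one system with non-commuting root groups is a unit. -/

set_option autoImplicit false
set_option linter.style.haveILetI false
set_option linter.unusedSectionVars false

universe u

open CategoryTheory CategoryTheory.Limits AlgebraicGeometry MonoidalCategory CartesianMonoidalCategory
open scoped MonObj

noncomputable section

namespace Groth.Agent.Rank2Red38.R1

open GrpSchLib RankOne Polynomial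

variable {S : Scheme.{u}} {G T : Over S} [GrpObj G] [GrpObj T]
  {i : T ⟶ G} [IsMonHom i] {α : T ⟶ Red.Gm S} [IsMonHom α] {pp pm : Red.Ga S ⟶ G} [IsMonHom pp]
  [IsMonHom pm] (H : Sys i α pp pm)

include H in
/-- Coordinates exist as soon as the denominator is a unit. -/
theorem inCell_of_isUnit {A : Type u} [CommRing A] (b : Spec (CommRingCat.of A) ⟶ S) {R : Type u} [CommRing R]
    [Algebra A R] (x y : R) (hz : IsUnit (1 - algebraMap A R (H.d b) * x * y)) : InCell i pp pm b x y := by
  obtain ⟨a, t, e, he⟩ := exists_coords H.hΩ (P pp b R x * M pm b R y) fun K' hK b'' j hroot => by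
    letI := hK.toField
    haveI : IsAlgClosed K' := IsAlgClosed.of_exists_root _ fun p _ hp =>
      hroot p hp.natDegree_pos.ne'
    let χ : R →+* K' := (Spec.preimage j.left).hom
    have hχ : Spec.map (CommRingCat.ofHom χ) = j.left := Spec.map_preimage _
    have hφ : Spec.map (CommRingCat.ofHom (χ.comp (algebraMap A R))) ≫ b = b'' := by
      rw [CommRingCat.ofHom_comp, Spec.map_comp, Category.assoc, hχ]
      exact Over.w j
    have hσ : χ.comp (algebraMap A R) = (algebraMap K' K').comp (χ.comp (algebraMap A R)) := rfl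
    have hd : H.d b'' = χ (algebraMap A R (H.d b)) := H.d_natural hφ
    obtain ⟨c, hc⟩ := inCell_of_ne_zero H b'' (x := χ x) (y := χ y) (by
      rw [hd, ← map_mul, ← map_mul, ← map_one χ, ← map_sub]
      exact (hz.map χ).ne_zero)
    let e : Over.mk b'' ⟶ tobj b'' K' := Over.homMk (𝟙 _) (by
      show 𝟙 _ ≫ Spec.map (CommRingCat.ofHom (RingHom.id _)) ≫ b'' = b''
      rw [show CommRingCat.ofHom (RingHom.id K') = 𝟙 (CommRingCat.of K') from rfl, Spec.map_id,
        Category.id_comp, Category.id_comp])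
    have hj : e ≫ cmor (R := R) (R' := K') hφ χ hσ = j := by
      ext1
      exact (Category.id_comp _).trans hχ
    refine ⟨e ≫ ga b'' K' c.1, e ≫ c.2.1, e ≫ ga b'' K' c.2.2, ?_⟩
    have hP : cmor (R := R) (R' := K') hφ χ hσ ≫ (P pp b R x * M pm b R y) =
        P pp b'' K' (χ x) * M pm b'' K' (χ y) := by
      simp only [MonObj.comp_mul, P, M, ← Category.assoc, cmor_ga]
    have e1 := congrArg (e ≫ ·) hc
    rw [← hj, Category.assoc, hP]
    simp only [MonObj.comp_mul, P, M, ← Category.assoc] at e1 ⊢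
    exact e1
  refine ⟨(tval b R (Red.gaFn a), t, tval b R (Red.gaFn e)), ?_⟩
  show _ = (ga b R (tval b R (Red.gaFn a)) ≫ pm) * (t ≫ i) * (ga b R (tval b R (Red.gaFn e)) ≫ pp)
  rw [ga_tval, ga_tval]
  exact he

/-- Polynomials in two variables are determined by their values on an infinite field. -/
theorem eq_of_values {K : Type u} [Field K] [Infinite K] {p q : K[X][X]}
    (h : ∀ a c : K, aevalTower (aeval a) c p = aevalTower (aeval a) c q) : p = q := by
  rw [← sub_eq_zero]
  refine eq_zero_of_infinite_isRoot _ ((Set.infinite_range_of_injective C_injective).mono ?_)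
  rintro _ ⟨c, rfl⟩
  refine Polynomial.funext fun a => ?_
  have e := sub_eq_zero.2 (h a c)
  rw [← map_sub] at e
  rw [eval_zero, ← e]
  clear e
  induction p - q using Polynomial.induction_on' with
  | add p q hp hq => simp only [eval_add, map_add, hp, hq]
  | monomial n v => simp [← C_mul_X_pow_eq_monomial]

/-- The units of a polynomial ring in two variables over a field are constants. -/
theorem unit_const {K : Type u} [Field K] {p : K[X][X]} (hp : IsUnit p) :
    algebraMap K K[X][X] (aevalTower (aeval (0 : K)) 0 p) = p := by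
  obtain ⟨r, hr, rfl⟩ := isUnit_iff.1 hp
  obtain ⟨v, -, rfl⟩ := isUnit_iff.1 hr
  simp

theorem pt_eq_of_units {U : Scheme.{u}} (g : U ⟶ S) {M : Type} [AddCommGroup M]
    (ψ : Red.bc g T ⟶ Red.DS U M) [IsIso ψ] {R R' : Type u} [CommRing R] [CommRing R']
    {jR : Spec (CommRingCat.of R) ⟶ U} {jR' : Spec (CommRingCat.of R') ⟶ U} {σ₁ σ₂ : R →+* R'}
    (hj₁ : Spec.map (CommRingCat.ofHom σ₁) ≫ jR = jR') (hj₂ : Spec.map (CommRingCat.ofHom σ₂) ≫ jR = jR')
    {b : Spec (CommRingCat.of R) ⟶ S} {b' : Spec (CommRingCat.of R') ⟶ S} (hb : jR ≫ g = b)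
    (h₁ : Spec.map (CommRingCat.ofHom σ₁) ≫ b = b') (h₂ : Spec.map (CommRingCat.ofHom σ₂) ≫ b = b')
    (hu : ∀ v : R, IsUnit v → σ₁ v = σ₂ v) (x : Over.mk b ⟶ T) :
    specHom (A := CommRingCat.of R) (B := CommRingCat.of R') σ₁ h₁ ≫ x =
      specHom (A := CommRingCat.of R) (B := CommRingCat.of R') σ₂ h₂ ≫ x := by
  subst hb
  obtain rfl : jR' ≫ g = b' := by rw [← h₁, ← hj₁, Category.assoc]
  obtain ⟨x₀, rfl⟩ := (DSPtsLib.theta_bijective g (Y := DSPtsLib.spU jR) (H := T)).surjective x
  obtain ⟨f, hf⟩ := DSPtsLib.exists_eq_pt jR (x₀ ≫ ψ)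
  have hx : x₀ = DSPtsLib.pt jR f ≫ inv ψ := by rw [← hf]; simp
  subst hx
  show _ ≫ splitPt g ψ jR f = _ ≫ splitPt g ψ jR f
  rw [splitPt_comp g ψ jR σ₁ jR' hj₁, splitPt_comp g ψ jR σ₂ jR' hj₂]
  congr 1
  refine MonoidAlgebra.ringHom_ext (fun n => RingHom.congr_fun (DSPtsLib.ulift_ringHom_ext
    ((σ₁.comp f).comp MonoidAlgebra.singleOneRingHom) ((σ₂.comp f).comp MonoidAlgebra.singleOneRingHom)) n) ?_
  exact fun m => hu _ (((Group.isUnit m).map (MonoidAlgebra.of (ULift.{u} ℤ) _)).map f)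

include H in
/-- The root groups commute on a split geometric point where the constant vanishes. -/
theorem comm_of_d_eq_zero {U : Scheme.{u}} (g : U ⟶ S) {M' : Type} [AddCommGroup M']
    (ψ : Red.bc g T ⟶ Red.DS U M') [IsIso ψ] {K : Type u} [Field K] [IsAlgClosed K]
    (j : Spec (CommRingCat.of K) ⟶ U) {bK : Spec (CommRingCat.of K) ⟶ S} (hbK : j ≫ g = bK) (hd : H.d bK = 0)
    {C' : Type u} [CommRing C'] (χ : K →+* C') {b'' : Spec (CommRingCat.of C') ⟶ S}
    (h : Spec.map (CommRingCat.ofHom χ) ≫ bK = b'') (x y : Over.mk b'' ⟶ Red.Ga S) :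
    (x ≫ pp) * (y ≫ pm) = (y ≫ pm) * (x ≫ pp) := by
  obtain ⟨c, hc⟩ := inCell_of_isUnit H bK (C X) (X : K[X][X]) (by simp [hd])
  have hval : ∀ a v : K, aevalTower (aeval a) v c.2.2 = a ∧ aevalTower (aeval a) v c.1 = v ∧
      IsCoord (i := i) (pp := pp) (pm := pm) bK a v
        (aevalTower (aeval a) v c.1, tmor bK (aevalTower (aeval a) v) ≫ c.2.1, aevalTower (aeval a) v c.2.2) :=
    fun a v => by
      have e := hc.map bK (aevalTower (aeval a) v)
      rw [aevalTower_C, aevalTower_X, aeval_X] at e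
      obtain ⟨e1, e2⟩ := coords_of_inCell H bK e
      simp only [hd, zero_mul, sub_zero, _root_.mul_one] at e1 e2
      exact ⟨e1, e2, e⟩
  have hF : c.2.2 = C X := eq_of_values fun a v => by rw [(hval a v).1]; simp
  have hG : c.1 = X := eq_of_values fun a v => by rw [(hval a v).2.1]; simp
  let e₀ : K[X][X] →ₐ[K] K := aevalTower (aeval 0) 0
  have ht0 : tmor bK e₀ ≫ c.2.1 = 1 := by
    have e := isCoord_unique (i := i) (pp := pp) (pm := pm) bK H.hΩ (hval 0 0).2.2
      (show IsCoord (i := i) (pp := pp) (pm := pm) bK (0 : K) 0 (0, 1, 0) by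
        show _ = _; rw [M_zero, P_zero, MonObj.one_comp]; simp)
    exact congrArg (fun c => c.2.1) e
  have ht : c.2.1 = 1 := by
    let σ : K[X][X] →ₐ[K] K[X][X] := (Algebra.ofId K K[X][X]).comp e₀
    have hid : tmor bK (AlgHom.id K K[X][X]) ≫ c.2.1 = c.2.1 := by
      rw [show tmor bK (AlgHom.id K K[X][X]) = 𝟙 _ from Over.OverMorphism.ext (Spec.map_id _), Category.id_comp]
    have h1 : tmor bK (AlgHom.id K K[X][X]) ≫ c.2.1 = tmor bK σ ≫ c.2.1 :=
      pt_eq_of_units (T := T) g ψ (jR := Spec.map (CommRingCat.ofHom (algebraMap K K[X][X])) ≫ j)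
        (jR' := Spec.map (CommRingCat.ofHom (algebraMap K K[X][X])) ≫ j)
        (by rw [← Category.assoc, ← Spec.map_comp, ← CommRingCat.ofHom_comp]; rfl)
        (by
          rw [← Category.assoc, ← Spec.map_comp, ← CommRingCat.ofHom_comp]
          congr 3
          exact RingHom.ext σ.commutes)
        (by rw [Category.assoc, hbK]) _ _ (fun v hv => (unit_const hv).symm) c.2.1
    rw [← hid, h1, ← tmor_comp bK e₀ (Algebra.ofId K K[X][X]), Category.assoc, ht0, MonObj.comp_one]
  subst h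
  letI := χ.toAlgebra
  obtain ⟨a, rfl⟩ := exists_ga bK C' x
  obtain ⟨v, rfl⟩ := exists_ga bK C' y
  have e := hc.map bK (aevalTower (aeval a) v : K[X][X] →ₐ[K] C')
  rw [hF, hG, ht, MonObj.comp_one, aevalTower_C, aevalTower_X, aeval_X] at e
  exact e.trans (by show _ * ((1 : tobj bK C' ⟶ T) ≫ i) * _ = _; rw [MonObj.one_comp, _root_.mul_one])

variable (hnc : ∀ s : S, ∃ (X : Over (Spec (CommRingCat.of (AlgebraicClosure (S.residueField s)))))
  (x y : X ⟶ Red.bc (Red.geomPt s) (Red.Ga S)),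
  (x ≫ (Over.pullback (Red.geomPt s)).map pp) * (y ≫ (Over.pullback (Red.geomPt s)).map pm) ≠
    (y ≫ (Over.pullback (Red.geomPt s)).map pm) * (x ≫ (Over.pullback (Red.geomPt s)).map pp))

include hnc in
theorem d_ne_zero_residue (s : S) : H.d (A := S.residueField s) (S.fromSpecResidueField s) ≠ 0 := by
  intro hd
  obtain ⟨S', f, -, hsurj, -, hloc⟩ := H.hT
  obtain ⟨s', hs'⟩ := f.surjective s
  obtain ⟨U, hU, r, ⟨e⟩⟩ := hloc s'
  haveI : IsMonHom e.hom.hom.hom := e.hom.hom.isMonHom_hom
  haveI : IsIso e.hom.hom.hom := ((Grp.forget _).mapIso e).isIso_hom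
  let u : ↥((U : Scheme.{u})) := ⟨s', hU⟩
  let K := AlgebraicClosure ((U : Scheme.{u}).residueField u)
  let j : Spec (CommRingCat.of K) ⟶ U := Spec.map (CommRingCat.ofHom (algebraMap ((U : Scheme.{u}).residueField u) K)) ≫
    (U : Scheme.{u}).fromSpecResidueField u
  let bK : Spec (CommRingCat.of K) ⟶ S := j ≫ U.ι ≫ f
  have hs : bK (IsLocalRing.closedPoint K) = s := by
    have hm : j (IsLocalRing.closedPoint K) = u := by
      have h := Set.mem_range_self (f := (U : Scheme.{u}).fromSpecResidueField u)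
        (Spec.map (CommRingCat.ofHom (algebraMap ((U : Scheme.{u}).residueField u) K)) (IsLocalRing.closedPoint K))
      rwa [Scheme.range_fromSpecResidueField, Set.mem_singleton_iff] at h
    show f (U.ι (j (IsLocalRing.closedPoint K))) = s
    rw [hm]
    exact hs'
  subst hs
  obtain ⟨φ, hφ⟩ : ∃ φ : S.residueField (bK (IsLocalRing.closedPoint K)) →+* K,
      bK = Spec.map (CommRingCat.ofHom φ) ≫ S.fromSpecResidueField _ :=
    ⟨(Scheme.descResidueField (Scheme.stalkClosedPointTo bK)).hom,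
      (Scheme.descResidueField_stalkClosedPointTo_fromSpecResidueField (K := K) (X := S) bK).symm⟩
  have hdK : H.d bK = 0 := (H.d_natural hφ.symm).trans ((congrArg φ hd).trans (map_zero φ))
  let : Algebra (S.residueField (bK (IsLocalRing.closedPoint K))) K := φ.toAlgebra
  let L₀ := AlgebraicClosure (S.residueField (bK (IsLocalRing.closedPoint K)))
  let ψ : L₀ →ₐ[S.residueField (bK (IsLocalRing.closedPoint K))] K := IsAlgClosed.lift
  let q : Spec (CommRingCat.of L₀) ⟶ S := Red.geomPt (bK (IsLocalRing.closedPoint K))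
  let t : Spec (CommRingCat.of K) ⟶ Spec (CommRingCat.of L₀) := Spec.map (CommRingCat.ofHom ψ.toRingHom)
  have hb : t ≫ q = bK := by
    conv_rhs => rw [hφ]
    rw [← Category.assoc, ← Spec.map_comp, ← CommRingCat.ofHom_comp]
    congr 3
    exact RingHom.ext fun r => ψ.commutes r
  haveI : Flat t := by
    rw [HasRingHomProperty.Spec_iff (P := @Flat)]
    let := ψ.toRingHom.toAlgebra
    show RingHom.Flat (algebraMap L₀ K)
    rw [RingHom.flat_algebraMap_iff]
    infer_instance
  haveI : Surjective t := ⟨fun x => ⟨IsLocalRing.closedPoint K, Subsingleton.elim _ _⟩⟩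
  obtain ⟨Z, x, y, hne⟩ := hnc (bK (IsLocalRing.closedPoint K))
  refine hne ((DSPtsLib.theta_bijective q).injective ?_)
  rw [DSPtsLib.theta_mul, DSPtsLib.theta_mul, theta_pullback_map, theta_pullback_map]
  let p := pullback.fst Z.hom t
  haveI : Epi p := Flat.epi_of_flat_of_surjective p
  let P : Over S := Over.mk (p ≫ Z.hom ≫ q)
  let p' : P ⟶ (Over.map q).obj Z := Over.homMk p rfl
  haveI : Epi p' := (Over.forget S).epi_of_epi_map (inferInstanceAs (Epi p))
  rw [← cancel_epi p']
  refine ext_spec fun C' b'' k => ?_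
  let e' : Spec C' ⟶ Spec (CommRingCat.of K) := k.left ≫ pullback.snd Z.hom t
  have he : Spec.map (CommRingCat.ofHom (Spec.preimage e').hom) ≫ bK = b'' := by
    rw [CommRingCat.ofHom_hom, Spec.map_preimage, ← hb]
    refine Eq.trans ?_ (Over.w k)
    show (k.left ≫ pullback.snd Z.hom t) ≫ t ≫ q = k.left ≫ p ≫ Z.hom ≫ q
    simp only [Category.assoc, p, pullback.condition_assoc]
  simp only [MonObj.comp_mul, ← Category.assoc]
  exact comm_of_d_eq_zero H (U.ι ≫ f) e.hom.hom.hom j rfl hdK (Spec.preimage e').hom he _ _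

include hnc in
/-- The constant is a unit. -/
theorem isUnit_d {A : Type u} [CommRing A] (b : Spec (CommRingCat.of A) ⟶ S) : IsUnit (H.d b) := by
  by_contra hu
  obtain ⟨m, hm, hmem⟩ := exists_max_ideal_of_mem_nonunits (mem_nonunits_iff.2 hu)
  letI := Ideal.Quotient.field m
  let b' : Spec (CommRingCat.of (A ⧸ m)) ⟶ S := Spec.map (CommRingCat.ofHom (Ideal.Quotient.mk m)) ≫ b
  let φ : S.residueField (b' (IsLocalRing.closedPoint (A ⧸ m))) →+* A ⧸ m :=
    (Scheme.descResidueField (Scheme.stalkClosedPointTo b')).hom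
  have hφ : Spec.map (CommRingCat.ofHom φ) ≫ S.fromSpecResidueField _ = b' :=
    Scheme.descResidueField_stalkClosedPointTo_fromSpecResidueField (K := A ⧸ m) (X := S) b'
  have h1 : H.d b' = φ (H.d (S.fromSpecResidueField _)) := H.d_natural hφ
  rw [H.d_natural (φ := Ideal.Quotient.mk m) (b := b) (b' := b') rfl, Ideal.Quotient.eq_zero_iff_mem.2 hmem] at h1
  exact d_ne_zero_residue H hnc _ ((map_eq_zero φ).1 h1.symm)

end Groth.Agent.Rank2Red38.R1
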