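import Groth.Agent.GrpSchLib.RankOneBase

/-! Test objects over an affine test object: algebras over its ring. -/

set_option autoImplicit false
set_option linter.style.haveILetI false

universe u

open CategoryTheory CategoryTheory.Limits AlgebraicGeometry MonoidalCategory CartesianMonoidalCategory
open scoped MonObj

noncomputable section

namespace Groth.Agent.Rank2Red38.R1

open GrpSchLib RankOne

variable {S : Scheme.{u}} {A : Type u} [CommRing A] (b : Spec (CommRingCat.of A) ⟶ S)
  (R : Type u) [CommRing R] [Algebra A R]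

/-- The base point of an algebra. -/
abbrev tb : Spec (CommRingCat.of R) ⟶ S := Spec.map (CommRingCat.ofHom (algebraMap A R)) ≫ b

/-- The test object of an algebra. -/
abbrev tobj : Over S := Over.mk (tb b R)

/-- Values of functions on the test object. -/
abbrev tval : Γ((tobj b R).left, ⊤) ≃+* R := sval (A := CommRingCat.of R) (tb b R)

variable {R} {R' R'' : Type u} [CommRing R'] [Algebra A R'] [CommRing R''] [Algebra A R'']

theorem tcompat (σ : R →ₐ[A] R') : Spec.map (CommRingCat.ofHom σ.toRingHom) ≫ tb b R = tb b R' := by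
  rw [tb, ← Category.assoc, ← Spec.map_comp, ← CommRingCat.ofHom_comp, show σ.toRingHom.comp (algebraMap A R) = algebraMap A R' from σ.comp_algebraMap]

/-- The morphism of test objects of a map of algebras. -/
def tmor (σ : R →ₐ[A] R') : tobj b R' ⟶ tobj b R :=
  specHom (A := CommRingCat.of R) (B := CommRingCat.of R') σ.toRingHom (tcompat b σ)

theorem tmor_comp (σ : R →ₐ[A] R') (τ : R' →ₐ[A] R'') : tmor b τ ≫ tmor b σ = tmor b (τ.comp σ) := by
  ext1
  exact (Spec.map_comp _ _).symm

theorem tval_tmor (σ : R →ₐ[A] R') (v : Γ((tobj b R).left, ⊤)) :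
    tval b R' ((tmor b σ).left.appTop v) = σ (tval b R v) :=
  sval_specHom (A := CommRingCat.of R) (B := CommRingCat.of R') σ.toRingHom (tcompat b σ) v

variable (R)

/-- A point of the line with given value. -/
def ga (a : R) : tobj b R ⟶ Red.Ga S := GaPts.ptOfFn ((tval b R).symm a)

theorem ga_add (x y : R) : ga b R (x + y) = ga b R x * ga b R y :=
  GaPts.gaFn_injective (by simp only [ga, GaPts.gaFn_mul, GaPts.gaFn_ptOfFn, map_add])

theorem ga_zero : ga b R 0 = 1 :=
  GaPts.gaFn_injective (by simp only [ga, GaPts.gaFn_one, GaPts.gaFn_ptOfFn, map_zero])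

theorem tval_ga (a : R) : tval b R (Red.gaFn (ga b R a)) = a := by
  rw [ga, GaPts.gaFn_ptOfFn, RingEquiv.apply_symm_apply]

theorem ga_tval (x : tobj b R ⟶ Red.Ga S) : ga b R (tval b R (Red.gaFn x)) = x := by
  rw [ga, RingEquiv.symm_apply_apply]
  exact GaPts.gaFn_injective (GaPts.gaFn_ptOfFn _)

theorem ga_injective : Function.Injective (ga b R) := fun x y h => by
  simpa [ga, GaPts.gaFn_ptOfFn] using congrArg Red.gaFn h

theorem exists_ga (x : tobj b R ⟶ Red.Ga S) : ∃ a, x = ga b R a := ⟨_, (ga_tval b R x).symm⟩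

/-- The unit of a point of the multiplicative group. -/
def gmu : (tobj b R ⟶ Red.Gm S) →* Rˣ :=
  (Units.map (tval b R).toRingHom.toMonoidHom).comp (GmPts.equiv _).toMonoidHom

theorem gmu_coe (x : tobj b R ⟶ Red.Gm S) : (gmu b R x : R) = tval b R (Red.gmFn x) := rfl

theorem gmu_injective : Function.Injective (gmu b R) := fun x y h => by
  refine GmPts.gmFn_injective ((tval b R).injective ?_)
  have := congrArg Units.val h
  rwa [gmu_coe, gmu_coe] at this

variable {R}

theorem tmor_ga (σ : R →ₐ[A] R') (a : R) : tmor b σ ≫ ga b R a = ga b R' (σ a) :=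
  specHom_ptOfFn (A := CommRingCat.of R) (B := CommRingCat.of R') σ.toRingHom _ a

theorem tmor_gmu (σ : R →ₐ[A] R') (x : tobj b R ⟶ Red.Gm S) :
    (gmu b R' (tmor b σ ≫ x) : R') = σ (gmu b R x : R) := by
  rw [gmu_coe, gmu_coe, GmPts.gmFn_comp]
  exact tval_tmor b σ _

end Groth.Agent.Rank2Red38.R1
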