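import Groth.Agent.Rank2Red38.R1Trunc
import Mathlib.RingTheory.Flat.FaithfullyFlat.Algebra
import Mathlib.RingTheory.Polynomial.Basic
import Mathlib.Algebra.Algebra.Tower

/-! Homogeneous functions of two arguments with nilpotent product. -/

set_option autoImplicit false

universe u

open Polynomial

namespace Groth.Agent.Rank2Red38.R1

variable {A : Type u} [CommRing A]

/-- A function of two arguments with nilpotent product, natural in algebras. -/
structure Fun (A : Type u) [CommRing A] where
  toFun : ∀ (R : Type u) [CommRing R] [Algebra A R], R → R → R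
  nat : ∀ {R R' : Type u} [CommRing R] [Algebra A R] [CommRing R'] [Algebra A R'] (σ : R →ₐ[A] R') (x y : R),
    IsNilpotent (x * y) → σ (toFun R x y) = toFun R' (σ x) (σ y)

/-- The function with the arguments exchanged. -/
def Fun.swap (H : Fun A) : Fun A where
  toFun R _ _ x y := H.toFun R y x
  nat σ x y h := H.nat σ y x (by rwa [mul_comm])

/-- A function has weights `(p, q)`. -/
def Fun.IsWt (H : Fun A) (p q : ℕ) : Prop :=
  ∀ N : ℕ, ∃ (A' : Type u) (_ : CommRing A') (_ : Algebra A A'), Function.Injective (algebraMap A A') ∧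
    ∃ s : A'ˣ, (∀ k : ℕ, 0 < k → k ≤ N → IsUnit ((s : A') ^ k - 1)) ∧
      ∀ (R : Type u) [CommRing R] [Algebra A R] (σ : A' →ₐ[A] R) (x y : R), IsNilpotent (x * y) →
        H.toFun R (σ s * x) (σ (s⁻¹ : A'ˣ) * y) * σ s ^ p = σ s ^ q * H.toFun R x y

variable (H : Fun A)

/-- The substitution of a nilpotent element for the truncated variable. -/
noncomputable def evalTrunc {B R : Type u} [CommRing B] [Algebra A B] [CommRing R] [Algebra A R] (φ : B →ₐ[A] R)
    {N : ℕ} (y : R) (hy : y ^ N = 0) : Trunc B N →ₐ[A] R :=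
  Ideal.Quotient.liftₐ _ (Polynomial.aevalTower φ y) (fun p hp => by
    obtain ⟨c, rfl⟩ := Ideal.mem_span_singleton.mp hp
    rw [map_mul, map_pow]
    simp [hy])

theorem evalTrunc_C {B R : Type u} [CommRing B] [Algebra A B] [CommRing R] [Algebra A R] (φ : B →ₐ[A] R)
    {N : ℕ} (y : R) (hy : y ^ N = 0) (b : B) : evalTrunc φ y hy (trunc B N (C b)) = φ b :=
  (Ideal.Quotient.lift_mk _ _ _).trans (Polynomial.aevalTower_C φ y b)

theorem evalTrunc_X {B R : Type u} [CommRing B] [Algebra A B] [CommRing R] [Algebra A R] (φ : B →ₐ[A] R)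
    {N : ℕ} (y : R) (hy : y ^ N = 0) : evalTrunc φ y hy (trunc B N X) = y :=
  (Ideal.Quotient.lift_mk _ _ _).trans (Polynomial.aevalTower_X φ y)

theorem isNilpotent_mul_right {R : Type u} [CommRing R] (x : R) {y : R} {N : ℕ} (hy : y ^ N = 0) :
    IsNilpotent (x * y) :=
  (Commute.all _ _).isNilpotent_mul_left ⟨N, hy⟩

/-- The coefficients on the line `x = 1`. -/
noncomputable def Fun.coeff (n : ℕ) : A :=
  (Classical.choose (exists_expansion (H.toFun (Trunc A (n + 1)) 1 (trunc A (n + 1) X)))) n

theorem Fun.apply_one {R : Type u} [CommRing R] [Algebra A R] {N : ℕ} (y : R) (hy : y ^ N = 0) :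
    H.toFun R 1 y = ∑ n ∈ Finset.range N, algebraMap A R (H.coeff n) * y ^ n := by
  obtain ⟨f, hf⟩ := exists_expansion (H.toFun (Trunc A N) 1 (trunc A N X))
  have hc : ∀ n < N, f n = H.coeff n := by
    intro n hn
    let π := evalTrunc (Algebra.ofId A (Trunc A (n + 1))) (N := N) (trunc A (n + 1) X)
      (pow_eq_zero_of_le hn (trunc_X_pow _))
    have e := congrArg π hf
    rw [H.nat π 1 _ (isNilpotent_mul_right 1 (trunc_X_pow N)), map_one, evalTrunc_X] at e
    simp only [map_sum, map_mul, map_pow, π, evalTrunc_C, evalTrunc_X] at e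
    have h1 := Classical.choose_spec (exists_expansion (H.toFun (Trunc A (n + 1)) 1 (trunc A (n + 1) X)))
    have h2 : (∑ k ∈ Finset.range N, (Algebra.ofId A (Trunc A (n + 1))) (f k) * trunc A (n + 1) X ^ k) =
        ∑ k ∈ Finset.range (n + 1), trunc A (n + 1) (C (f k)) * trunc A (n + 1) X ^ k := by
      rw [← Finset.sum_subset (Finset.range_subset_range.2 hn) fun k hk hk' => by
        rw [pow_eq_zero_of_le (Nat.le_of_not_lt (Finset.mem_range.not.1 hk')) (trunc_X_pow _), mul_zero]]
      rfl
    unfold Fun.coeff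
    exact coeff_ext (h2.symm.trans (e.symm.trans h1)) (Nat.lt_succ_self n)
  let π := evalTrunc (Algebra.ofId A R) (N := N) y hy
  have e := congrArg π hf
  rw [H.nat π 1 _ (isNilpotent_mul_right 1 (trunc_X_pow N)), map_one, evalTrunc_X] at e
  simp only [map_sum, map_mul, map_pow, π, evalTrunc_C, evalTrunc_X] at e
  exact e.trans (Finset.sum_congr rfl fun n hn => by rw [hc n (Finset.mem_range.1 hn)]; rfl)

/-- A function with weights is a series in `x ^ (n + q - p) y ^ n`. -/
theorem Fun.apply_eq {p q : ℕ} (hw : H.IsWt p q) {R : Type u} [CommRing R] [Algebra A R] {N : ℕ} (x y : R)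
    (hy : y ^ N = 0) :
    H.toFun R x y =
      ∑ n ∈ Finset.range N, if p ≤ n + q then algebraMap A R (H.coeff n) * x ^ (n + q - p) * y ^ n else 0 := by
  classical
  obtain ⟨P, hP⟩ := exists_expansion (H.toFun (Trunc A[X] N) (trunc A[X] N (C X)) (trunc A[X] N X))
  have hmono : ∀ n < N, ∀ k, k + p ≠ n + q → (P n).coeff k = 0 := by
    intro n hn k hk
    obtain ⟨A', _, _, hinj, s, hs, hH⟩ := hw (n + q + k + p)
    let B' := A'[X]
    let ρs : A[X] →ₐ[A] B' := Polynomial.aeval (C (s : A') * X)
    let ρ₁ : A[X] →ₐ[A] B' := Polynomial.aeval X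
    let σ : A' →ₐ[A] Trunc B' N := IsScalarTower.toAlgHom A A' (Trunc B' N)
    let ι : B' →ₐ[A] Trunc B' N := IsScalarTower.toAlgHom A B' (Trunc B' N)
    let πs := evalTrunc (ι.comp ρs) (N := N) (σ (s⁻¹ : A'ˣ) * trunc B' N X) (by rw [mul_pow, trunc_X_pow, mul_zero])
    let π₁ := evalTrunc (ι.comp ρ₁) (N := N) (trunc B' N X) (trunc_X_pow N)
    have hxy : IsNilpotent (trunc A[X] N (C X) * trunc A[X] N X) := isNilpotent_mul_right _ (trunc_X_pow N)
    have h := hH (Trunc B' N) σ (trunc B' N (C X)) (trunc B' N X) (isNilpotent_mul_right _ (trunc_X_pow N))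
    have es := congrArg πs hP
    have e₁ := congrArg π₁ hP
    rw [H.nat πs _ _ hxy] at es
    rw [H.nat π₁ _ _ hxy] at e₁
    have hσ : ∀ a : A', σ a = trunc B' N (C (C a)) := fun a => rfl
    have hι : ∀ b : B', ι b = trunc B' N (C b) := fun b => rfl
    simp only [map_sum, map_mul, map_pow, πs, π₁, evalTrunc_C, evalTrunc_X, AlgHom.comp_apply, hι, hσ] at es e₁ h
    rw [show ρ₁ X = X from Polynomial.aeval_X _] at e₁
    rw [show ρs X = C (s : A') * X from Polynomial.aeval_X _, map_mul, map_mul] at es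
    rw [es, e₁, Finset.sum_mul, Finset.mul_sum] at h
    have h' : (∑ m ∈ Finset.range N, trunc B' N (C (ρs (P m) * C ((s⁻¹ : A'ˣ) : A') ^ m * C (s : A') ^ p)) * trunc B' N X ^ m) =
        ∑ m ∈ Finset.range N, trunc B' N (C (C (s : A') ^ q * ρ₁ (P m))) * trunc B' N X ^ m := by
      refine Eq.trans (Finset.sum_congr rfl fun m _ => ?_) (h.trans (Finset.sum_congr rfl fun m _ => ?_))
      · simp only [map_mul, map_pow]; ring
      · simp only [map_mul, map_pow]; ring
    have hn' := congrArg (fun r : B' => r.coeff k) (coeff_ext h' hn)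
    have hcoef : ∀ (a : A') (Q : A[X]), (Polynomial.aeval (C a * X) Q : B').coeff k =
        algebraMap A A' (Q.coeff k) * a ^ k := by
      intro a Q
      induction Q using Polynomial.induction_on' with
      | add u v hu hv => rw [map_add, Polynomial.coeff_add, hu, hv, Polynomial.coeff_add, map_add, add_mul]
      | monomial i b =>
        rw [Polynomial.aeval_monomial, Polynomial.algebraMap_apply, mul_pow, ← map_pow, ← mul_assoc, ← map_mul,
          coeff_C_mul_X_pow, coeff_monomial]
        by_cases hik : i = k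
        · subst hik; simp
        · simp [hik, Ne.symm hik]
    have hc1 : (ρ₁ (P n)).coeff k = algebraMap A A' ((P n).coeff k) := by
      simpa [ρ₁] using hcoef 1 (P n)
    have hcs : (ρs (P n)).coeff k = algebraMap A A' ((P n).coeff k) * (s : A') ^ k := hcoef _ _
    simp only [← map_pow] at hn'
    rw [Polynomial.coeff_mul_C, Polynomial.coeff_mul_C, Polynomial.coeff_C_mul, hcs, hc1] at hn'
    set a := algebraMap A A' ((P n).coeff k)
    have h2 : a * ((s : A') ^ (k + p) - (s : A') ^ (n + q)) = 0 := by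
      have hinv : ((s⁻¹ : A'ˣ) : A') ^ n * (s : A') ^ n = 1 := by rw [← mul_pow, Units.inv_mul, one_pow]
      rw [pow_add, pow_add]
      linear_combination (s : A') ^ n * hn' - a * (s : A') ^ k * (s : A') ^ p * hinv
    have hu : IsUnit ((s : A') ^ (k + p) - (s : A') ^ (n + q)) := by
      rcases Nat.lt_or_gt_of_ne hk with hlt | hlt
      · rw [show (s : A') ^ (n + q) = (s : A') ^ (k + p) * (s : A') ^ (n + q - (k + p)) by
          rw [← pow_add]; congr 1; omega, ← mul_one_sub, ← neg_sub, mul_neg]
        exact ((s.isUnit.pow _).mul (hs _ (Nat.sub_pos_of_lt hlt) (by omega))).neg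
      · rw [show (s : A') ^ (k + p) = (s : A') ^ (n + q) * (s : A') ^ (k + p - (n + q)) by
          rw [← pow_add]; congr 1; omega, ← mul_sub_one]
        exact (s.isUnit.pow _).mul (hs _ (Nat.sub_pos_of_lt hlt) (by omega))
    exact hinj ((hu.mul_left_eq_zero.mp h2).trans (map_zero _).symm)
  have hPn : ∀ n < N, P n = if p ≤ n + q then C ((P n).coeff (n + q - p)) * X ^ (n + q - p) else 0 := by
    intro n hn
    ext k
    split_ifs with hle
    · rw [coeff_C_mul_X_pow]
      split_ifs with hk
      · rw [hk]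
      · exact hmono n hn k (by omega)
    · rw [coeff_zero]; exact hmono n hn k (by omega)
  let π₀ := evalTrunc ((Polynomial.aeval (1 : R)) : A[X] →ₐ[A] R) (N := N) y hy
  let π := evalTrunc ((Polynomial.aeval x) : A[X] →ₐ[A] R) (N := N) y hy
  have hxy : IsNilpotent (trunc A[X] N (C X) * trunc A[X] N X) := isNilpotent_mul_right _ (trunc_X_pow N)
  have e := congrArg π hP
  rw [H.nat π _ _ hxy] at e
  simp only [map_sum, map_mul, map_pow, π, evalTrunc_C, evalTrunc_X, Polynomial.aeval_X] at e
  -- the coefficients are those of the line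
  let πA := evalTrunc ((Polynomial.aeval (1 : Trunc A N)) : A[X] →ₐ[A] Trunc A N) (N := N) (trunc A N X) (trunc_X_pow N)
  have eA := congrArg πA hP
  rw [H.nat πA _ _ hxy] at eA
  simp only [map_sum, map_mul, map_pow, πA, evalTrunc_C, evalTrunc_X, Polynomial.aeval_X] at eA
  rw [H.apply_one (trunc A N X) (trunc_X_pow N)] at eA
  have hone : ∀ n < N, H.coeff n = if p ≤ n + q then (P n).coeff (n + q - p) else 0 := by
    intro n hn
    refine coeff_ext (g := fun m => if p ≤ m + q then (P m).coeff (m + q - p) else 0)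
      (eA.trans (Finset.sum_congr rfl fun m hm => ?_)) hn
    rw [hPn m (Finset.mem_range.1 hm)]
    split_ifs with hle
    · rw [map_mul, map_pow, Polynomial.aeval_X, Polynomial.aeval_C, one_pow, mul_one]
      congr 1
      rw [coeff_C_mul, coeff_X_pow, if_pos rfl, mul_one]
      rfl
    · simp
  rw [e]
  refine Finset.sum_congr rfl fun n hn => ?_
  rw [hPn n (Finset.mem_range.1 hn), hone n (Finset.mem_range.1 hn)]
  split_ifs with hle
  · rw [map_mul, map_pow, Polynomial.aeval_X, Polynomial.aeval_C]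
  · simp

end Groth.Agent.Rank2Red38.R1
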