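import Groth.Agent.Rank2Red38.R1Pts
import Groth.Agent.GrpSchLib.RankOneTorusPts
import Groth.Agent.FpqcDescLib.Closed
import Groth.Agent.EtFound.Descent

/-! A torus is affine and flat; points of a torus at which a character is far from being a root of unity. -/

set_option autoImplicit false
set_option linter.style.haveILetI false

universe u

open CategoryTheory CategoryTheory.Limits AlgebraicGeometry MonoidalCategory CartesianMonoidalCategory
open scoped MonObj

noncomputable section

namespace Groth.Agent.Rank2Red38.R1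

open GrpSchLib RankOne

variable {S : Scheme.{u}} {T : Over S} [GrpObj T]

omit [GrpObj T] in
theorem flat_and_affine_DS (Y : Scheme.{u}) (M : Type) [AddCommGroup M] :
    Flat (Red.DS Y M).hom ∧ IsAffineHom (Red.DS Y M).hom := by
  haveI : Flat (Red.diag (ULift.{u} ℤ) M).hom := Flat.SpecMap_iff.2
    (RingHom.flat_algebraMap_iff.2
      (inferInstance : Module.Flat (ULift.{u} ℤ) (MonoidAlgebra (ULift.{u} ℤ) (Multiplicative M))))
  haveI : IsAffine (Red.diag (ULift.{u} ℤ) M).left := inferInstanceAs (IsAffine (Spec _))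
  haveI : IsAffineHom (Red.diag (ULift.{u} ℤ) M).hom := isAffineHom_of_isAffine _
  exact ⟨inferInstanceAs (Flat (pullback.snd (Red.diag (ULift.{u} ℤ) M).hom _)),
    MorphismProperty.of_isPullback (P := @IsAffineHom.{u}) (IsPullback.of_hasPullback
      (Red.diag (ULift.{u} ℤ) M).hom (IsTerminal.from specULiftZIsTerminal Y)) inferInstance⟩

set_option backward.isDefEq.respectTransparency.types false in
/-- A torus is flat and affine over the base. -/
theorem flat_and_affine_torus (hT : Red.IsTorus T) : Flat T.hom ∧ IsAffineHom T.hom := by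
  obtain ⟨S', f, hflat, hsurj, hqc, hloc⟩ := hT
  choose O hO r hiso using hloc
  have hcov : FpqcDescLib.Covers f :=
    FpqcDescLib.covers_of_hcov f ⟨S', f, 𝟙 _, Category.id_comp _, hsurj, hflat, hqc⟩
  have key : ∀ (P : MorphismProperty Scheme.{u}) [P.IsStableUnderBaseChange] [IsZariskiLocalAtTarget P]
      [P.DescendsAlong (@Surjective ⊓ @Flat ⊓ @QuasiCompact : MorphismProperty Scheme.{u})],
      (∀ Y M [AddCommGroup M], P (Red.DS.{u} Y M).hom) → P T.hom := by
    intro P _ _ _ hDS
    refine hcov.descends P T.hom (pullback.snd T.hom f) (pullback.fst T.hom f)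
      (IsPullback.of_hasPullback T.hom f).flip ?_
    refine IsZariskiLocalAtTarget.of_forall_exists_morphismRestrict fun s' => ⟨O s', hO s', ?_⟩
    obtain ⟨e⟩ := hiso s'
    have H1 : IsPullback ((pullback.snd T.hom f ⁻¹ᵁ O s').ι ≫ pullback.fst T.hom f)
        (pullback.snd T.hom f ∣_ O s') T.hom ((O s').ι ≫ f) :=
      (isPullback_morphismRestrict _ _).flip.paste_horiz (IsPullback.of_hasPullback T.hom f)
    rw [← H1.isoPullback_hom_snd, MorphismProperty.cancel_left_of_respectsIso P]
    haveI : IsIso e.hom.hom.hom.left :=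
      ⟨e.inv.hom.hom.left, congrArg (fun h => h.hom.hom.left) e.hom_inv_id,
        congrArg (fun h => h.hom.hom.left) e.inv_hom_id⟩
    have hw : e.hom.hom.hom.left ≫ (Red.DS (O s' : Scheme.{u}) (Fin (r s') → ℤ)).hom =
        pullback.snd T.hom ((O s').ι ≫ f) := Over.w e.hom.hom.hom
    rw [← hw, MorphismProperty.cancel_left_of_respectsIso P]
    exact hDS _ _
  haveI := EtFound.fpqc_isAffineHom.{u}
  haveI : IsZariskiLocalAtTarget @Flat.{u} := HasRingHomProperty.instIsZariskiLocalAtTarget @Flat.{u}
  exact ⟨key @Flat.{u} fun Y M _ => (flat_and_affine_DS Y M).1,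
    key @IsAffineHom.{u} fun Y M _ => (flat_and_affine_DS Y M).2⟩

/-- After a faithfully flat extension there is a point of the torus at which finitely many powers of the character
avoid `1`. -/
theorem exists_torus_point (hT : Red.IsTorus T) (α : T ⟶ Red.Gm S) [IsMonHom α]
    (hα : ∀ s : S, (Over.pullback (Red.geomPt s)).map α ≠ 1) {A : Type u} [CommRing A]
    (b : Spec (CommRingCat.of A) ⟶ S) (N : ℕ) :
    ∃ (A' : Type u) (_ : CommRing A') (_ : Algebra A A'), Function.Injective (algebraMap A A') ∧
      ∃ t : tobj b A' ⟶ T, ∀ k : ℕ, 0 < k → k ≤ N → IsUnit ((gmu b A' (t ≫ α) : A') ^ k - 1) := by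
  classical
  obtain ⟨hflat, haff⟩ := flat_and_affine_torus hT
  let P := pullback T.hom b
  haveI : IsAffine P := by
    haveI : IsAffineHom (pullback.snd T.hom b) := MorphismProperty.of_isPullback (P := @IsAffineHom.{u})
      (IsPullback.of_hasPullback T.hom b) haff
    exact isAffine_of_isAffineHom (pullback.snd T.hom b)
  let R' : Type u := Γ(P, ⊤)
  let φ : A →+* R' := (Spec.preimage (P.isoSpec.inv ≫ pullback.snd T.hom b)).hom
  letI : Algebra A R' := φ.toAlgebra
  have hφ : Spec.map (CommRingCat.ofHom φ) = P.isoSpec.inv ≫ pullback.snd T.hom b := by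
    rw [CommRingCat.ofHom_hom, Spec.map_preimage]
  haveI : Flat (pullback.snd T.hom b) := inferInstance
  haveI : Module.Flat A R' := by
    have h : Flat (Spec.map (CommRingCat.ofHom φ)) := by rw [hφ]; infer_instance
    exact RingHom.flat_algebraMap_iff.1 (Flat.SpecMap_iff.1 h)
  let t₀ : tobj b R' ⟶ T := Over.homMk (P.isoSpec.inv ≫ pullback.fst T.hom b) (by
    show _ = Spec.map (CommRingCat.ofHom φ) ≫ b
    rw [hφ, Category.assoc, pullback.condition, Category.assoc])
  let uT : R' := (gmu b R' (t₀ ≫ α) : R')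
  let h : R' := ∏ k ∈ Finset.Icc 1 N, (uT ^ k - 1)
  let A' := Localization.Away h
  haveI : Module.Flat R' A' := IsLocalization.flat A' (Submonoid.powers h)
  haveI : Module.Flat A A' := Module.Flat.trans A R' A'
  have hff : Module.FaithfullyFlat A A' := by
    rw [← RingHom.faithfullyFlat_algebraMap_iff, RingHom.FaithfullyFlat.iff_flat_and_comap_surjective]
    refine ⟨RingHom.flat_algebraMap_iff.2 ‹_›, fun p => ?_⟩
    let K := p.asIdeal.ResidueField
    obtain ⟨L, _, θ, b', hL, hb, hex⟩ := exists_notMem hT α hα (tb b K)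
    obtain ⟨s, hs⟩ := hex ((Finset.Icc 1 N).biUnion fun k => (Polynomial.nthRoots k (1 : L)).toFinset)
    letI : Algebra A L := (θ.comp (algebraMap A K)).toAlgebra
    let θ' : K →ₐ[A] L := { θ with commutes' := fun _ => rfl }
    have hb' : tb b L = b' := (tcompat b θ').symm.trans hb
    subst hb'
    let l : Spec (CommRingCat.of L) ⟶ P :=
      pullback.lift s.left (Spec.map (CommRingCat.ofHom (algebraMap A L))) (Over.w s)
    let φL : R' →+* L := (Spec.preimage (l ≫ P.isoSpec.hom)).hom
    have hl : Spec.map (CommRingCat.ofHom φL) = l ≫ P.isoSpec.hom := by rw [CommRingCat.ofHom_hom, Spec.map_preimage]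
    have hφL : φL.comp φ = algebraMap A L := by
      have e : Spec.map (CommRingCat.ofHom (φL.comp φ)) = Spec.map (CommRingCat.ofHom (algebraMap A L)) := by
        rw [CommRingCat.ofHom_comp, Spec.map_comp, hl, hφ, Category.assoc, Iso.hom_inv_id_assoc]
        exact pullback.lift_snd _ _ _
      exact congrArg CommRingCat.Hom.hom (Spec.map_injective e)
    let σ : R' →ₐ[A] L := { φL with commutes' := fun a => RingHom.congr_fun hφL a }
    have hs' : tmor b σ ≫ t₀ = s := by
      ext1
      show Spec.map (CommRingCat.ofHom φL) ≫ P.isoSpec.inv ≫ pullback.fst T.hom b = s.left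
      rw [hl, Category.assoc, Iso.hom_inv_id_assoc]
      exact pullback.lift_fst _ _ _
    have hu : φL uT = (gmu b L (s ≫ α) : L) := by
      rw [← hs', Category.assoc, tmor_gmu]; rfl
    have hh : φL h ≠ 0 := by
      simp only [h, map_prod, map_sub, map_pow, map_one, Finset.prod_ne_zero_iff]
      intro k hk h0
      refine hs (Finset.mem_biUnion.2 ⟨k, hk, ?_⟩)
      rw [Multiset.mem_toFinset, Polynomial.mem_nthRoots (by simp only [Finset.mem_Icc] at hk; omega)]
      have := sub_eq_zero.1 h0
      rw [hu] at this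
      exact this
    let φ' : A' →+* L := IsLocalization.Away.lift h (isUnit_iff_ne_zero.2 hh)
    refine ⟨⟨RingHom.ker φ', RingHom.ker_isPrime φ'⟩, PrimeSpectrum.ext ?_⟩
    show Ideal.comap (algebraMap A A') (RingHom.ker φ') = p.asIdeal
    rw [RingHom.comap_ker, IsScalarTower.algebraMap_eq A R' A', ← RingHom.comp_assoc,
      show φ'.comp (algebraMap R' A') = φL from IsLocalization.Away.lift_comp h _,
      show φL.comp (algebraMap A R') = θ.comp (algebraMap A K) from hφL, ← RingHom.comap_ker,
      (RingHom.injective_iff_ker_eq_bot θ).1 θ.injective, ← RingHom.ker_eq_comap_bot,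
      Ideal.ker_algebraMap_residueField]
  refine ⟨A', inferInstance, inferInstance, FaithfulSMul.algebraMap_injective A A',
    tmor b (IsScalarTower.toAlgHom A R' A') ≫ t₀, fun k h0 hk => ?_⟩
  rw [Category.assoc, tmor_gmu]
  show IsUnit ((algebraMap R' A' uT) ^ k - 1)
  rw [← map_pow, ← map_one (algebraMap R' A'), ← map_sub]
  exact isUnit_of_dvd_unit (map_dvd _ (Finset.dvd_prod_of_mem (fun k => uT ^ k - 1) (Finset.mem_Icc.2 ⟨h0, hk⟩)))
    (IsLocalization.Away.algebraMap_isUnit h)

end Groth.Agent.Rank2Red38.R1
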