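import Mathlib.RingTheory.Polynomial.Basic
import Mathlib.Algebra.Polynomial.Div
import Mathlib.RingTheory.Nilpotent.Basic
import Mathlib.RingTheory.Localization.Away.Basic
import Mathlib.RingTheory.Ideal.Quotient.Operations
import Mathlib.Tactic.LinearCombination

/-!
# Truncated polynomial rings, and the coefficient recursions of the rank-one commutation rule
-/

set_option autoImplicit false

universe u

open Polynomial

namespace Groth.Agent.Rank2Red38.R1

variable {B : Type u} [CommRing B]

/-- The truncated polynomial ring `B[T]/(T^N)`. -/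
abbrev Trunc (B : Type u) [CommRing B] (N : ℕ) : Type u := B[X] ⧸ Ideal.span {(X : B[X]) ^ N}

/-- The truncation map. -/
noncomputable abbrev trunc (B : Type u) [CommRing B] (N : ℕ) : B[X] →+* Trunc B N := Ideal.Quotient.mk _

theorem trunc_eq_iff {N : ℕ} {p q : B[X]} : trunc B N p = trunc B N q ↔ ∀ n < N, p.coeff n = q.coeff n := by
  rw [Ideal.Quotient.eq, Ideal.mem_span_singleton, Polynomial.X_pow_dvd_iff]
  simp only [coeff_sub, sub_eq_zero]

theorem trunc_X_pow (N : ℕ) : trunc B N X ^ N = 0 := by
  rw [← map_pow]; exact Ideal.Quotient.eq_zero_iff_mem.mpr (Ideal.mem_span_singleton_self _)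

theorem exists_expansion {N : ℕ} (a : Trunc B N) :
    ∃ f : ℕ → B, a = ∑ n ∈ Finset.range N, trunc B N (C (f n)) * trunc B N X ^ n := by
  obtain ⟨p, rfl⟩ := Ideal.Quotient.mk_surjective a
  refine ⟨p.coeff, ?_⟩
  simp only [← map_pow, ← map_mul, ← map_sum]
  refine trunc_eq_iff.mpr fun n hn => ?_
  simp only [finsetSum_coeff, coeff_C_mul, coeff_X_pow, mul_ite, mul_one, mul_zero]
  rw [Finset.sum_ite_eq, if_pos (Finset.mem_range.mpr hn)]

theorem coeff_ext {N : ℕ} {f g : ℕ → B}
    (h : (∑ n ∈ Finset.range N, trunc B N (C (f n)) * trunc B N X ^ n) =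
      ∑ n ∈ Finset.range N, trunc B N (C (g n)) * trunc B N X ^ n) {n : ℕ} (hn : n < N) : f n = g n := by
  simp only [← map_pow, ← map_mul, ← map_sum] at h
  have := trunc_eq_iff.mp h n hn
  simpa [finsetSum_coeff, coeff_C_mul, coeff_X_pow, Finset.sum_ite_eq, hn] using this

/-- An element of a localisation whose truncations vanish is zero, if the denominator is `1` at zero. -/
theorem away_eq_zero {P : B[X]} (hP : P.coeff 0 = 1) {L : Type u} [CommRing L] [Algebra B[X] L]
    [IsLocalization.Away P L] {x : L}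
    (h : ∀ (N : ℕ) (φ : L →+* Trunc B N), φ.comp (algebraMap B[X] L) = trunc B N → φ x = 0) : x = 0 := by
  obtain ⟨q, ⟨_, j, rfl⟩, rfl⟩ := IsLocalization.exists_mk'_eq (Submonoid.powers P) x
  suffices hq : q = 0 by rw [hq, IsLocalization.mk'_zero]
  ext n
  have hu : IsUnit (trunc B (n + 1) P) := by
    obtain ⟨w, hw⟩ := Polynomial.X_dvd_iff.mpr (show (P - 1).coeff 0 = 0 by simp [coeff_one, hP])
    have e : trunc B (n + 1) P = 1 + trunc B (n + 1) X * trunc B (n + 1) w := by
      rw [← map_mul, ← map_one (trunc B (n + 1)), ← map_add, ← hw, add_sub_cancel]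
    rw [e]
    exact IsNilpotent.isUnit_one_add ((Commute.all _ _).isNilpotent_mul_right ⟨n + 1, trunc_X_pow _⟩)
  let φ : L →+* Trunc B (n + 1) := IsLocalization.Away.lift P hu
  have hφ : φ.comp (algebraMap B[X] L) = trunc B (n + 1) := IsLocalization.Away.lift_comp P hu
  have h0 := h (n + 1) φ hφ
  have e := IsLocalization.mk'_spec L q (⟨P ^ j, j, rfl⟩ : Submonoid.powers P)
  have h1 : trunc B (n + 1) q = 0 := by
    rw [← hφ, RingHom.comp_apply, ← e, map_mul, h0, zero_mul]
  simpa using trunc_eq_iff.mp (h1.trans (map_zero _).symm) n (Nat.lt_succ_self n)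

/-- The coefficient recursion of the commutation rule. -/
theorem seq_pow {c : ℕ → B} (h0 : c 0 = 1)
    (h1 : ∀ n : ℕ, ((n : B) + 1) * c (n + 1) = ((n : B) + 1) * c 1 * c n)
    (h2 : ∀ n : ℕ, ((n : B) + 1) * c (n + 1) = c 1 * ∑ i ∈ Finset.range (n + 1), c i * c (n - i))
    (hu : IsUnit (c 1)) : ∀ n, c n = c 1 ^ n := by
  intro n
  induction n using Nat.strong_induction_on with
  | _ n ih =>
    match n, ih with
    | 0, _ => simp [h0]
    | 1, _ => simp
    | m + 2, ih =>
      have e1 : ((m : B) + 2) * (c (m + 2) - c 1 ^ (m + 2)) = 0 := by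
        have := h1 (m + 1)
        rw [ih (m + 1) (by omega)] at this
        push_cast at this
        linear_combination this
      have e3 : ((m : B) + 3) * c (m + 2) = ∑ i ∈ Finset.range (m + 3), c i * c (m + 2 - i) := by
        refine hu.mul_left_cancel ?_
        have a := h1 (m + 2)
        have b := h2 (m + 2)
        push_cast at a b
        linear_combination b - a
      rw [Finset.sum_range_succ, Finset.sum_range_succ'] at e3
      have hsum : ∀ i ∈ Finset.range (m + 1), c (i + 1) * c (m + 2 - (i + 1)) = c 1 ^ (m + 2) := by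
        intro i hi
        have := Finset.mem_range.mp hi
        rw [ih (i + 1) (by omega), ih (m + 2 - (i + 1)) (by omega), ← pow_add]
        congr 1; omega
      rw [Finset.sum_congr rfl hsum, Finset.sum_const, Finset.card_range, Nat.sub_zero, Nat.sub_self, h0,
        nsmul_eq_mul] at e3
      push_cast at e3
      refine sub_eq_zero.mp ?_
      linear_combination e1 - e3

/-- The degenerate case of the recursion. -/
theorem seq_zero {c : ℕ → B} (h1 : ∀ n : ℕ, ((n : B) + 1) * c (n + 1) = ((n : B) + 1) * c 1 * c n) (hc : c 1 = 0)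
    (h3 : ∀ m, 2 ≤ m → (∀ i, 1 ≤ i → i < m → c i = 0) → ((m : B) + 1) * c m = 0) : ∀ n, 1 ≤ n → c n = 0 := by
  intro n
  induction n using Nat.strong_induction_on with
  | _ n ih =>
    intro hn
    rcases Nat.lt_or_ge n 2 with h | h
    · rw [show n = 1 by omega]; exact hc
    obtain ⟨m, rfl⟩ : ∃ m, n = m + 1 := ⟨n - 1, by omega⟩
    have a := h3 (m + 1) h fun i hi hi' => ih i hi' hi
    have b := h1 m
    rw [hc] at b
    push_cast at a b
    linear_combination a - b

theorem eq_of_second {c : ℕ → B} {a : B} (h : IsUnit (c 1)) (h2 : c 2 = c 1 ^ 2)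
    (h3 : 3 * c 2 = c 1 * (2 * c 1 + a)) : a = c 1 :=
  h.mul_left_cancel (by linear_combination 3 * h2 - h3)

end Groth.Agent.Rank2Red38.R1
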