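import Groth.Agent.Rank2Red38.Descent

/-! Relations between the representatives of the roots in the span of two simple roots. -/

set_option autoImplicit false

universe u

open CategoryTheory CategoryTheory.Limits AlgebraicGeometry MonoidalCategory CartesianMonoidalCategory
open scoped MonObj Classical

noncomputable section

namespace Groth.Agent.Rank2Red38

open GrpSchLib

variable {S : Scheme.{u}} {G : Over S} [GrpObj G] {D : Red.Pinning G}

theorem sim_of_eq {φ ψ : Fam G} (h : ∀ X x, φ X x = ψ X x) : Sim φ ψ := ⟨1, .inl rfl, fun X x => by simp [h]⟩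

theorem sim_of_neg {φ ψ : Fam G} (h : ∀ X x, φ X x = ψ X (-x)) : Sim φ ψ := ⟨-1, .inr rfl, fun X x => by simp [h]⟩

variable (D) in
/-- A root or its opposite. -/
def pm (s : Bool) (a : D.idx) : D.idx := if s then a else neg' D.toSplitRed a

variable {a b : D.idx} (ha : a ∈ D.base.support) (hb : b ∈ D.base.support) (hne : a ≠ b)
  (hd : ∀ c ∈ D.base.support, IsDual D.toSplitRed c)
include ha hb hne hd

theorem span_A2_eq (hba : D.P.pairing b a = -1) (hab : D.P.pairing a b = -1) (s : Bool) (X : Over S)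
    (x : Γ(X.left, ⊤)) :
    act (Wf D a) (Uf D (pm D s b)) X x = act (Wf D b) (Uf D (pm D s a)) X (-x) := by
  obtain ⟨-, p2, p3⟩ := A2Pinned.relations (hasNormalForm D.toSplitRed) ha hb hne hba hab (hd a ha) (hd b hb) X
  cases s
  · exact p3 x
  · exact p2 x

theorem span_A2 (hba : D.P.pairing b a = -1) (hab : D.P.pairing a b = -1) (s : Bool) :
    Sim (act (Wf D a) (Uf D (pm D s b))) (act (Wf D b) (Uf D (pm D s a))) :=
  sim_of_neg (span_A2_eq ha hb hne hd hba hab s)

theorem span_B2_eq (hba : D.P.pairing b a = -2) (hab : D.P.pairing a b = -1) (s : Bool) :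
    (∀ X x, act (Wf D a) (act (Wf D b) (Uf D (pm D s a))) X x = act (Wf D b) (Uf D (pm D s a)) X (-x)) ∧
      ∀ X x, act (Wf D b) (act (Wf D a) (Uf D (pm D s b))) X x = act (Wf D a) (Uf D (pm D s b)) X x := by
  have h := fun X : Over S =>
    B2Pinned.relations ha hb hne (hasNormalForm D.toSplitRed) hba hab (hd a ha) (hd b hb) X
  cases s
  · refine ⟨fun X x => ?_, fun X x => ?_⟩
    · refine ((h X).2.2.2.1 x).trans ?_
      rfl
    · set t := pinnedB2 ha hb hne hba hab with ht
      have h1 : InSys t.pos (1, 0) := Or.inl (show (1, 0) ∈ posB2 by decide)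
      have h2 : InSys t.pos (0, 1) := Or.inl (show (0, 1) ∈ posB2 by decide)
      obtain ⟨-, q2, -, -⟩ := t.negSys.r_gen h1 h2
      have np : ∀ c d (v : ℤ), D.P.pairing c d = v →
          D.P.pairing (neg' D.toSplitRed c) (neg' D.toSplitRed d) = v := fun c d v h => by
        show D.P.pairing (D.P.reflectionPerm c c) (D.P.reflectionPerm d d) = v
        rw [RootPairing.pairing_reflectionPerm_self_left, RootPairing.pairing_reflectionPerm_self_right, neg_neg, h]
      obtain ⟨-, -, -, q4⟩ := Frame.B2_relations (s := t.negSys) (t.negFrame h1 h2 (hd a ha) (hd b hb)) X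
        (hasNormalForm D.toSplitRed) rfl (np _ _ _ hba) (np _ _ _ hab)
      have f2 : ∀ x, t.negSys.V X (0, 1) x = U D.toSplitRed X (neg' D.toSplitRed b) x := fun x => by
        rw [Sys2.V, q2]; rfl
      have h := q4 (-x)
      simp only [Frame.V, Frame.lSub, Sys2.negFrame, Int.cast_neg, Int.cast_one, neg_one_mul, neg_neg, f2] at h
      exact mul_inv_eq_iff_eq_mul.mpr h
  · refine ⟨fun X x => ?_, fun X x => ?_⟩
    · exact (h X).2.2.1 x
    · exact (h X).2.2.2.2 x

theorem span_B2 (hba : D.P.pairing b a = -2) (hab : D.P.pairing a b = -1) (s : Bool) :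
    Sim (act (Wf D a) (act (Wf D b) (Uf D (pm D s a)))) (act (Wf D b) (Uf D (pm D s a))) ∧
      Sim (act (Wf D b) (act (Wf D a) (Uf D (pm D s b)))) (act (Wf D a) (Uf D (pm D s b))) :=
  ⟨sim_of_neg (span_B2_eq ha hb hne hd hba hab s).1, sim_of_eq (span_B2_eq ha hb hne hd hba hab s).2⟩

theorem span_G2_eq (hba : D.P.pairing b a = -3) (hab : D.P.pairing a b = -1) (s : Bool) :
    (∀ X x, act (Wf D b) (act (Wf D a) (act (Wf D b) (Uf D (pm D s a)))) X x =
        act (Wf D a) (act (Wf D b) (Uf D (pm D s a))) X x) ∧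
      ∀ X x, act (Wf D a) (act (Wf D b) (act (Wf D a) (Uf D (pm D s b)))) X x =
        act (Wf D b) (act (Wf D a) (Uf D (pm D s b))) X x := by
  have h := fun X : Over S =>
    G2Pinned.commute_long ha hb hne (hasNormalForm D.toSplitRed) hba hab (hd a ha) (hd b hb) X
  cases s
  · refine ⟨fun X x => ?_, fun X x => ?_⟩
    · set t := pinnedG2 ha hb hne hba hab with ht
      have h1 : InSys t.pos (1, 0) := Or.inl (show (1, 0) ∈ posG2 by decide)
      have h2 : InSys t.pos (0, 1) := Or.inl (show (0, 1) ∈ posG2 by decide)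
      obtain ⟨q1, -, -, -⟩ := t.negSys.r_gen h1 h2
      have np : ∀ c d (v : ℤ), D.P.pairing c d = v →
          D.P.pairing (neg' D.toSplitRed c) (neg' D.toSplitRed d) = v := fun c d v h => by
        show D.P.pairing (D.P.reflectionPerm c c) (D.P.reflectionPerm d d) = v
        rw [RootPairing.pairing_reflectionPerm_self_left, RootPairing.pairing_reflectionPerm_self_right, neg_neg, h]
      obtain ⟨-, p4⟩ := Frame.G2_commute (s := t.negSys) (t.negFrame h1 h2 (hd a ha) (hd b hb)) X
        (hasNormalForm D.toSplitRed) rfl (np _ _ _ hba) (np _ _ _ hab)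
      have f1 : ∀ x, t.negSys.V X (1, 0) x = U D.toSplitRed X (neg' D.toSplitRed a) x := fun x => by
        rw [Sys2.V, q1]; rfl
      have h := p4 (-x)
      simp only [Frame.V, Frame.g2, Frame.mSub, Sys2.negFrame, Int.cast_neg, Int.cast_one, neg_one_mul, neg_neg, f1] at h
      exact mul_inv_eq_iff_eq_mul.mpr h
    · exact mul_inv_eq_iff_eq_mul.mpr ((h X).2.2 x)
  · refine ⟨fun X x => ?_, fun X x => ?_⟩
    · exact mul_inv_eq_iff_eq_mul.mpr ((h X).2.1 x)
    · have h' := (h X).1 (-x)
      simp only [G2Pinned.m4, G2Pinned.m3, neg_neg] at h'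
      exact mul_inv_eq_iff_eq_mul.mpr h'

theorem span_G2 (hba : D.P.pairing b a = -3) (hab : D.P.pairing a b = -1) (s : Bool) :
    Sim (act (Wf D b) (act (Wf D a) (act (Wf D b) (Uf D (pm D s a))))) (act (Wf D a) (act (Wf D b) (Uf D (pm D s a)))) ∧
      Sim (act (Wf D a) (act (Wf D b) (act (Wf D a) (Uf D (pm D s b))))) (act (Wf D b) (act (Wf D a) (Uf D (pm D s b)))) :=
  ⟨sim_of_eq (span_G2_eq ha hb hne hd hba hab s).1, sim_of_eq (span_G2_eq ha hb hne hd hba hab s).2⟩

end Groth.Agent.Rank2Red38
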