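import Groth.Agent.Rank2Red38.Conj
import Groth.Agent.Rank2Red38.RootCalc
import Groth.Agent.Rank2Red38.Lam

/-! Two roots spanning a system of rank two: root subgroups by coordinates, injectivity of products and the
shapes of commutators. -/

set_option autoImplicit false

universe u

open CategoryTheory CategoryTheory.Limits AlgebraicGeometry MonoidalCategory CartesianMonoidalCategory
open scoped MonObj

noncomputable section

namespace Groth.Agent.Rank2Red38

open GrpSchLib

variable {S : Scheme.{u}} {G : Over S} [GrpObj G]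

/-- Membership in `pos` or its opposite. -/
abbrev InSys (pos : List (ℤ × ℤ)) (p : ℤ × ℤ) : Prop := p ∈ pos ∨ -p ∈ pos

/-- Both coordinates are nonnegative, not both zero. -/
abbrev Pos2 (p : ℤ × ℤ) : Prop := 0 ≤ p.1 ∧ 0 ≤ p.2 ∧ 0 < p.1 + p.2

/-- Two roots `a`, `b` spanning a system of rank two with positive roots `pos`. -/
structure Sys2 (D : Red.SplitRed G) where
  a : D.idx
  b : D.idx
  pos : List (ℤ × ℤ)
  lam : Module.Dual ℤ D.M
  generic : IsGeneric D lam
  lam_a : 0 < lam (D.P.root a)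
  lam_b : 0 < lam (D.P.root b)
  indep : ∀ i j : ℤ, i • D.P.root a + j • D.P.root b = 0 → i = 0 ∧ j = 0
  isComb_iff : ∀ i j : ℤ, IsComb D.P a b i j ↔ InSys pos (i, j)

namespace Sys2

variable {D : Red.SplitRed G} (s : Sys2 D)

/-- The vector with given coordinates. -/
def vec (p : ℤ × ℤ) : D.M := p.1 • D.P.root s.a + p.2 • D.P.root s.b

theorem vec_add (p q : ℤ × ℤ) : s.vec (p + q) = s.vec p + s.vec q := by
  simp only [vec, Prod.fst_add, Prod.snd_add]; module

theorem vec_neg (p : ℤ × ℤ) : s.vec (-p) = -s.vec p := by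
  simp only [vec, Prod.fst_neg, Prod.snd_neg]; module

theorem vec_nsmul (n : ℕ) (p : ℤ × ℤ) : s.vec (n • p) = n • s.vec p := by
  simp only [vec, Prod.smul_fst, Prod.smul_snd, smul_assoc, smul_add]

theorem vec_injective : Function.Injective s.vec := fun p q h => by
  simp only [vec] at h
  obtain ⟨h1, h2⟩ := s.indep (p.1 - q.1) (p.2 - q.2)
    (by rw [sub_smul, sub_smul, sub_add_sub_comm, h, sub_self])
  exact Prod.ext (by omega) (by omega)

open Classical in
/-- The root with given coordinates. -/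
def r (p : ℤ × ℤ) : D.idx := if h : ∃ c, D.P.root c = s.vec p then h.choose else s.a

theorem root_r {p : ℤ × ℤ} (h : InSys s.pos p) : D.P.root (s.r p) = s.vec p := by
  obtain ⟨c, hc⟩ := (s.isComb_iff p.1 p.2).mpr h
  have h' : ∃ c, D.P.root c = s.vec p := ⟨c, hc⟩
  rw [r, dif_pos h']
  exact h'.choose_spec

theorem eq_r {p : ℤ × ℤ} {c : D.idx} (h : D.P.root c = s.vec p) : InSys s.pos p ∧ c = s.r p := by
  have hp : InSys s.pos p := (s.isComb_iff p.1 p.2).mp ⟨c, h⟩
  exact ⟨hp, D.P.root.injective (h.trans (s.root_r hp).symm)⟩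

theorem r_eq_a (h : InSys s.pos (1, 0)) : s.r (1, 0) = s.a :=
  (s.eq_r (c := s.a) (by simp [vec])).2.symm

theorem r_eq_b (h : InSys s.pos (0, 1)) : s.r (0, 1) = s.b :=
  (s.eq_r (c := s.b) (by simp [vec])).2.symm

theorem r_neg {p : ℤ × ℤ} (h : InSys s.pos p) : s.r (-p) = neg' D (s.r p) :=
  (s.eq_r (by rw [root_neg', s.root_r h, vec_neg])).2.symm

theorem red1 {p : ℤ × ℤ} (h : InSys s.pos p) (hk : ∀ k : ℕ, InSys s.pos (k • p) → k = 1) : Red1 D (s.r p) :=
  fun e k he => hk k (s.eq_r (he.trans (by rw [s.root_r h, vec_nsmul]))).1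

/-- The root subgroup with given coordinates. -/
def V (X : Over S) (p : ℤ × ℤ) : Γ(X.left, ⊤) → (X ⟶ G) := U D X (s.r p)

theorem V_oneParam (X : Over S) (p : ℤ × ℤ) : IsOneParam (s.V X p) := U_oneParam D _

/-- The product of root elements along a list of coordinates. -/
def prodV (X : Over S) (l : List (ℤ × ℤ)) (x : ℤ × ℤ → Γ(X.left, ⊤)) : X ⟶ G :=
  (l.map fun p => s.V X p (x p)).prod

/-- A half space, given by the coordinates in which it is the positive one. -/
def Side (f : ℤ × ℤ → ℤ × ℤ) : Prop :=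
  ∃ lam : Module.Dual ℤ D.M, IsGeneric D lam ∧
    ∀ p, Pos2 (f p) → 0 < lam (s.vec p)

theorem side_id : s.Side id := ⟨s.lam, s.generic, fun p ⟨h1, h2, h3⟩ => by
  have ha := s.lam_a
  have hb := s.lam_b
  simp only [id_eq] at h1 h2 h3
  simp only [vec, map_add, map_zsmul, smul_eq_mul]
  rcases h1.lt_or_eq with h | h
  · nlinarith [mul_pos h ha, mul_nonneg h2 hb.le]
  · nlinarith [mul_pos (show 0 < p.2 by omega) hb, mul_nonneg h1 ha.le]⟩

theorem side_reflect (c : D.idx) (f : ℤ × ℤ → ℤ × ℤ) (hf : ∀ p, s.vec (f p) = D.P.reflection c (s.vec p)) :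
    s.Side f := by
  obtain ⟨lam, hl, hp⟩ := s.side_id
  refine ⟨lam ∘ₗ (D.P.reflection c).toLinearMap, fun d => ?_, fun p h => ?_⟩
  · show lam (D.P.reflection c (D.P.root d)) ≠ 0
    rw [← RootPairing.root_reflectionPerm]; exact hl _
  · show 0 < lam (D.P.reflection c (s.vec p))
    rw [← hf]; exact hp _ h

theorem side_a {n : ℤ} (h : D.P.pairing s.b s.a = n) : s.Side fun p => (-p.1 - p.2 * n, p.2) :=
  s.side_reflect s.a _ fun p => by
    simp only [vec, map_add, map_zsmul, RootPairing.reflection_apply_self, RootPairing.reflection_apply_root, h]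
    module

theorem side_b {n : ℤ} (h : D.P.pairing s.a s.b = n) : s.Side fun p => (p.1, -p.2 - p.1 * n) :=
  s.side_reflect s.b _ fun p => by
    simp only [vec, map_add, map_zsmul, RootPairing.reflection_apply_self, RootPairing.reflection_apply_root, h]
    module

section NormalForm

variable (N : HasNormalForm D)
include N

variable {f : ℤ × ℤ → ℤ × ℤ} (hf : s.Side f)
include hf

theorem inj (l : List (ℤ × ℤ)) (hl : ∀ p ∈ l, InSys s.pos p ∧ Pos2 (f p)) (hd : l.Nodup) (X : Over S)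
    (x y : ℤ × ℤ → Γ(X.left, ⊤)) (h : s.prodV X l x = s.prodV X l y) : ∀ p ∈ l, x p = y p := by
  classical
  obtain ⟨lam, hlam, hpos⟩ := hf
  let co : D.idx → ℤ × ℤ := fun c => if hc : ∃ p, p ∈ l ∧ s.r p = c then hc.choose else 0
  have hinj : ∀ p ∈ l, ∀ q ∈ l, s.r p = s.r q → p = q := fun p hp q hq e =>
    s.vec_injective (by rw [← s.root_r (hl p hp).1, e, s.root_r (hl q hq).1])
  have hco : ∀ p ∈ l, co (s.r p) = p := fun p hp => by
    have hc : ∃ q, q ∈ l ∧ s.r q = s.r p := ⟨p, hp, rfl⟩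
    simp only [co, dif_pos hc]
    exact hinj _ hc.choose_spec.1 p hp hc.choose_spec.2
  have key : ∀ z : ℤ × ℤ → Γ(X.left, ⊤), rootProd D X (l.map s.r) (z ∘ co) = s.prodV X l z := fun z => by
    rw [rootProd, prodV, List.map_map]
    congr 1
    exact List.map_congr_left fun p hp => by simp [V, hco p hp]
  intro p hp
  have := N.inj lam hlam (l.map s.r) (hd.map_on hinj) (fun c hc => by
    obtain ⟨q, hq, rfl⟩ := List.mem_map.mp hc
    rw [s.root_r (hl q hq).1]; exact hpos q (hl q hq).2) X (x ∘ co) (y ∘ co) (by rw [key, key, h])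
    (s.r p) (List.mem_map_of_mem hp)
  simpa [hco p hp] using this

theorem mono {p : ℤ × ℤ} (hp : InSys s.pos p) (hp' : Pos2 (f p)) {X : Over S} {x y : Γ(X.left, ⊤)}
    (h : s.V X p x = s.V X p y) : x = y :=
  s.inj N hf [p] (fun m hm => by rw [List.mem_singleton] at hm; subst hm; exact ⟨hp, hp'⟩) (List.nodup_singleton p) X (fun _ => x) (fun _ => y) (by simpa [prodV] using h)
    p List.mem_cons_self

/-- The coordinates of a family of two variables which is trivial when the first is zero. -/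
theorem form₁ (p q : ℤ × ℤ) (hq : InSys s.pos q) (hp : InSys s.pos p) (hpf : Pos2 (f p)) (hqf : Pos2 (f q))
    (l : List (ℤ × ℤ)) (e : ℤ × ℤ → ℕ × ℕ) (hl : ∀ m ∈ l, InSys s.pos m ∧ Pos2 (f m)) (hd : (l ++ [q]).Nodup)
    (hcomp : ∀ i j : ℕ, InSys s.pos (i • p + j • q) →
      (i • p + j • q = q ∧ i = 0 ∧ j = 1) ∨ (i • p + j • q ∈ l ∧ e (i • p + j • q) = (i, j)))
    (F : ∀ X : Over S, Γ(X.left, ⊤) → Γ(X.left, ⊤) → (X ⟶ G))
    (hnat : ∀ (X X' : Over S) (g : X' ⟶ X) (x y : Γ(X.left, ⊤)),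
      g ≫ F X x y = F X' (g.left.appTop x) (g.left.appTop y))
    (hequiv : ∀ (X : Over S) (t : X ⟶ D.T) (x y : Γ(X.left, ⊤)),
      I D X t * F X x y * (I D X t)⁻¹ = F X (rootVal D X (s.r p) t * x) (rootVal D X (s.r q) t * y))
    (h0 : ∀ (X : Over S) (y : Γ(X.left, ⊤)), F X 0 y = 1) :
    ∃ C : ℤ × ℤ → Γ(S, ⊤), ∀ (X : Over S) (x y : Γ(X.left, ⊤)),
      F X x y = s.prodV X l fun m => glob X (C m) * x ^ (e m).1 * y ^ (e m).2 := by
  classical
  obtain ⟨lam, hlam, hpos⟩ := id hf
  set L := l ++ [q] with hL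
  have hLs : ∀ m ∈ L, InSys s.pos m ∧ Pos2 (f m) := fun m hm => by
    rcases List.mem_append.mp hm with h | h
    · exact hl m h
    · rw [List.mem_singleton] at h; subst h; exact ⟨hq, hqf⟩
  have hinj : ∀ m ∈ L, ∀ m' ∈ L, s.r m = s.r m' → m = m' := fun m hm m' hm' e =>
    s.vec_injective (by rw [← s.root_r (hLs m hm).1, e, s.root_r (hLs m' hm').1])
  let e' : ℤ × ℤ → ℕ × ℕ := fun m => if m = q then (0, 1) else e m
  let co : D.idx → ℤ × ℤ := fun c => if hc : ∃ m, m ∈ L ∧ s.r m = c then hc.choose else 0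
  have hco : ∀ m ∈ L, co (s.r m) = m := fun m hm => by
    have hc : ∃ q, q ∈ L ∧ s.r q = s.r m := ⟨m, hm, rfl⟩
    simp only [co, dif_pos hc]
    exact hinj _ hc.choose_spec.1 m hm hc.choose_spec.2
  let w : Fin 2 → D.idx := ![s.r p, s.r q]
  obtain ⟨C, hC⟩ := N.exists_coord lam hlam 2 w (fun k => by
      fin_cases k
      · show 0 < lam (D.P.root (s.r p)); rw [s.root_r hp]; exact hpos p hpf
      · show 0 < lam (D.P.root (s.r q)); rw [s.root_r hq]; exact hpos q hqf)
    (fun X x => F X (x 0) (x 1)) ⟨fun X X' g x => hnat X X' g _ _, fun X t x => hequiv X t _ _, fun X => h0 X _⟩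
    (L.map s.r) (hd.map_on hinj) (fun c hc => by
      obtain ⟨m, hm, rfl⟩ := List.mem_map.mp hc
      rw [s.root_r (hLs m hm).1]; exact hpos m (hLs m hm).2)
    (fun c => ![(e' (co c)).1, (e' (co c)).2]) fun d m hm => by
      simp only [Fin.sum_univ_two, w, Matrix.cons_val_zero, Matrix.cons_val_one, s.root_r hp, s.root_r hq,
        ← vec_nsmul, ← vec_add] at hm
      obtain ⟨h1, rfl⟩ := s.eq_r hm
      have key : m 0 • p + m 1 • q ∈ L ∧ e' (m 0 • p + m 1 • q) = (m 0, m 1) := by
        rcases hcomp _ _ h1 with ⟨h2, h3, h4⟩ | ⟨h2, h3⟩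
        · rw [h2]; exact ⟨by simp [L], by simp [e', h3, h4]⟩
        · have hne : m 0 • p + m 1 • q ≠ q := fun h => (List.nodup_append.mp hd).2.2 _ h2 q (by simp) h
          exact ⟨List.mem_append_left _ h2, (if_neg hne).trans h3⟩
      refine ⟨List.mem_map_of_mem key.1, funext fun k => ?_⟩
      rw [hco _ key.1, key.2]
      fin_cases k <;> rfl
  have key : ∀ (X : Over S) (x y : Γ(X.left, ⊤)),
      F X x y = s.prodV X L fun m => glob X (C (s.r m)) * x ^ (e' m).1 * y ^ (e' m).2 := fun X x y => by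
    have h := hC X ![x, y]
    simp only [Matrix.cons_val_zero, Matrix.cons_val_one, rootProd, List.map_map] at h
    rw [h, prodV]
    congr 1
    refine List.map_congr_left fun m hm => ?_
    simp [V, hco m hm, Fin.prod_univ_two, mul_assoc]
  have hlq : ∀ m ∈ l, e' m = e m := fun m hm => by
    have hne : m ≠ q := fun h => (List.nodup_append.mp hd).2.2 _ hm q (by simp) h
    simp [e', hne]
  have hz : ∀ (X : Over S), (fun m => glob X (C (s.r m)) * (0 : Γ(X.left, ⊤)) ^ (e' m).1 * 1 ^ (e' m).2) q = 0 := fun X => by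
    refine (s.inj N hf L hLs hd X (fun m => glob X (C (s.r m)) * (0 : Γ(X.left, ⊤)) ^ (e' m).1 * 1 ^ (e' m).2)
      (fun _ => 0) ?_ q (by simp [L]))
    rw [← key X 0 1, h0]
    simp [prodV, (s.V_oneParam X _).zero, List.map_const']
  refine ⟨fun m => C (s.r m), fun X x y => ?_⟩
  have hzX : glob X (C (s.r q)) = 0 := by simpa [e'] using hz X
  rw [key, prodV, hL, List.map_append, List.prod_append, List.map_singleton, List.prod_singleton, hzX, zero_mul,
    zero_mul, (s.V_oneParam X q).zero, mul_one, prodV]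
  congr 1
  exact List.map_congr_left fun m hm => by simp [hlq m hm]

/-- The commutator of two root subgroups. -/
theorem comm_form (p q : ℤ × ℤ) (hp : InSys s.pos p) (hq : InSys s.pos q) (hpf : Pos2 (f p)) (hqf : Pos2 (f q))
    (l : List (ℤ × ℤ)) (e : ℤ × ℤ → ℕ × ℕ) (hl : ∀ m ∈ l, InSys s.pos m ∧ Pos2 (f m))
    (hd : (l ++ [p, q]).Nodup)
    (hcomp : ∀ i j : ℕ, InSys s.pos (i • p + j • q) →
      (i • p + j • q = q ∧ i = 0 ∧ j = 1) ∨ (i • p + j • q = p ∧ i = 1 ∧ j = 0) ∨
        (i • p + j • q ∈ l ∧ e (i • p + j • q) = (i, j)))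
    (he : ∀ m ∈ l, (e m).2 ≠ 0) :
    ∃ C : ℤ × ℤ → Γ(S, ⊤), ∀ (X : Over S) (x y : Γ(X.left, ⊤)),
      s.V X q y * s.V X p x =
        s.V X p x * s.V X q y * s.prodV X l fun m => glob X (C m) * x ^ (e m).1 * y ^ (e m).2 := by
  classical
  let e' : ℤ × ℤ → ℕ × ℕ := fun m => if m = p then (1, 0) else e m
  obtain ⟨hd1, hd2, hd3⟩ := List.nodup_append.mp hd
  have hpq : p ≠ q := by simpa using hd2
  have hne : ∀ m ∈ l, m ≠ p := fun m hm h => hd3 m hm p (by simp) h
  obtain ⟨C, hC⟩ := s.form₁ N hf p q hq hp hpf hqf (l ++ [p]) e'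
    (fun m hm => by
      rcases List.mem_append.mp hm with h | h
      · exact hl m h
      · rw [List.mem_singleton] at h; subst h; exact ⟨hp, hpf⟩)
    (by simpa [List.append_assoc] using hd)
    (fun i j h => by
      rcases hcomp i j h with h1 | ⟨h1, h2, h3⟩ | ⟨h1, h2⟩
      · exact Or.inl h1
      · exact Or.inr ⟨List.mem_append_right _ (List.mem_singleton.mpr h1), (if_pos h1).trans (by rw [h2, h3])⟩
      · exact Or.inr ⟨List.mem_append_left _ h1, (if_neg (hne _ h1)).trans h2⟩)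
    (fun X x y => (s.V X p x * s.V X q y)⁻¹ * (s.V X q y * s.V X p x))
    (fun X X' g x y => by simp only [comp_mul', comp_inv', V, comp_U])
    (fun X t x y => by
      simp only [V, ← conj_U]; group)
    (fun X y => by simp [(s.V_oneParam X p).zero])
  have hz : ∀ X : Over S, glob X (C p) = 0 := fun X => by
    refine s.mono N hf hp hpf ?_
    have h := hC X 1 0
    simp only [(s.V_oneParam X q).zero, mul_one, one_mul, inv_mul_cancel, prodV, List.map_append, List.prod_append,
      List.map_singleton, List.prod_singleton] at h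
    rw [List.prod_eq_one fun z hz => ?_, one_mul] at h
    · rw [(s.V_oneParam X p).zero, h]; simp [e']
    · obtain ⟨m, hm, rfl⟩ := List.mem_map.mp hz
      simp [e', hne m hm, zero_pow (he m hm), (s.V_oneParam X m).zero]
  refine ⟨C, fun X x y => ?_⟩
  have h := hC X x y
  simp only [prodV, List.map_append, List.prod_append, List.map_singleton, List.prod_singleton, hz, zero_mul,
    (s.V_oneParam X p).zero, mul_one] at h
  have h2 : s.prodV X l (fun m => glob X (C m) * x ^ (e m).1 * y ^ (e m).2) =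
      (s.V X p x * s.V X q y)⁻¹ * (s.V X q y * s.V X p x) := by
    rw [h, prodV]
    congr 1
    exact List.map_congr_left fun m hm => by simp [e', hne m hm]
  rw [h2, mul_inv_cancel_left]

/-- The conjugate of one root subgroup by another, in any order of the roots. -/
theorem conj_form (p q : ℤ × ℤ) (hp : InSys s.pos p) (hq : InSys s.pos q) (hpf : Pos2 (f p)) (hqf : Pos2 (f q))
    (l : List (ℤ × ℤ)) (e : ℤ × ℤ → ℕ × ℕ) (hl : ∀ m ∈ l, InSys s.pos m ∧ Pos2 (f m))
    (hd : (l ++ [q]).Nodup)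
    (hcomp : ∀ i j : ℕ, InSys s.pos (i • p + j • q) →
      (i • p + j • q = q ∧ i = 0 ∧ j = 1) ∨ (i • p + j • q ∈ l ∧ e (i • p + j • q) = (i, j)))
    (hpl : p ∈ l) (hep : e p = (1, 0)) :
    ∃ C : ℤ × ℤ → Γ(S, ⊤), (∀ X : Over S, glob X (C p) = 1) ∧ ∀ (X : Over S) (x y : Γ(X.left, ⊤)),
      (s.V X q y)⁻¹ * s.V X p x * s.V X q y =
        s.prodV X l fun m => glob X (C m) * x ^ (e m).1 * y ^ (e m).2 := by
  classical
  obtain ⟨C, hC⟩ := s.form₁ N hf p q hq hp hpf hqf l e hl hd hcomp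
    (fun X x y => (s.V X q y)⁻¹ * s.V X p x * s.V X q y)
    (fun X X' g x y => by simp only [comp_mul', comp_inv', V, comp_U])
    (fun X t x y => by simp only [V, ← conj_U]; group)
    (fun X y => by simp [(s.V_oneParam X p).zero])
  refine ⟨C, fun X => ?_, fun X x y => hC X x y⟩
  · have h := hC X 1 0
    simp only [(s.V_oneParam X q).zero, inv_one, one_mul, mul_one] at h
    have h' : s.prodV X l (fun m => if m = p then 1 else 0) =
        s.prodV X l fun m => glob X (C m) * 1 ^ (e m).1 * 0 ^ (e m).2 := by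
      rw [← h]
      obtain ⟨l₁, l₂, rfl⟩ := List.append_of_mem hpl
      have hd' := (List.nodup_append.mp hd).1
      obtain ⟨h1, h2, h3⟩ := List.nodup_append.mp hd'
      simp only [List.nodup_cons] at h2
      simp only [prodV, List.map_append, List.map_cons, List.prod_append, List.prod_cons, if_true]
      rw [List.prod_eq_one fun z hz => ?_, List.prod_eq_one fun z hz => ?_, one_mul, mul_one]
      · obtain ⟨m, hm, rfl⟩ := List.mem_map.mp hz
        have : m ≠ p := fun h => h2.1 (h ▸ hm)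
        simp [this, (s.V_oneParam X m).zero]
      · obtain ⟨m, hm, rfl⟩ := List.mem_map.mp hz
        have : m ≠ p := fun h => h3 m hm p (by simp) h
        simp [this, (s.V_oneParam X m).zero]
    have := s.inj N hf l hl (List.nodup_append.mp hd).1 X _ _ h' p hpl
    simpa [hep] using this.symm

omit hf

/-- Conjugation by a Weyl element moves the root subgroups by an invertible scalar. -/
theorem weyl_conj {c : D.idx} (hc : IsDual D c) {p q : ℤ × ℤ} (hp : InSys s.pos p) (hq : InSys s.pos q)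
    (hpq : D.P.reflection c (s.vec p) = s.vec q) {f f' : ℤ × ℤ → ℤ × ℤ} (hf : s.Side f) (hf' : s.Side f')
    (hqf : Pos2 (f q)) (hpf : Pos2 (f' p)) (hpr : Red1 D (s.r p)) (hqr : Red1 D (s.r q)) :
    ∃ k : Γ(S, ⊤), (∀ X : Over S, IsUnit (glob X k)) ∧ ∀ (X : Over S) (x : Γ(X.left, ⊤)),
      W D X c * s.V X p x * (W D X c)⁻¹ = s.V X q (glob X k * x) := by
  obtain ⟨lam, hl, hpos⟩ := hf
  obtain ⟨lam', hl', hpos'⟩ := hf'
  have e : D.P.reflectionPerm c (s.r p) = s.r q :=
    (s.eq_r (by rw [RootPairing.root_reflectionPerm, s.root_r hp, hpq])).2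
  have e' : D.P.reflectionPerm c (s.r q) = s.r p := by rw [← e, RootPairing.reflectionPerm_self]
  obtain ⟨k, hk⟩ := W_conj_root N hc (s.r p) (e ▸ hqr) hl (by rw [e, s.root_r hq]; exact hpos q hqf)
  obtain ⟨k', hk'⟩ := W_conj_root N hc (s.r q) (e' ▸ hpr) hl' (by rw [e', s.root_r hp]; exact hpos' p hpf)
  rw [e] at hk
  rw [e'] at hk'
  refine ⟨k, fun X => IsUnit.of_mul_eq_one
    (glob X k' * (((-1 : Γ(X.left, ⊤)ˣ) ^ D.P.pairing (s.r p) c : Γ(X.left, ⊤)ˣ) : Γ(X.left, ⊤))) ?_, hk⟩
  set ε : Γ(X.left, ⊤)ˣ := (-1) ^ D.P.pairing (s.r p) c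
  have hε : (ε : Γ(X.left, ⊤)) * ε = 1 := by
    rw [← Units.val_mul]
    simp [ε, ← mul_zpow]
  have h2 : U D X (s.r p) (glob X k' * glob X k) = U D X (s.r p) (ε : Γ(X.left, ⊤)) := by
    rw [← hk', ← mul_one (glob X k), ← hk,
      show W D X c * (W D X c * U D X (s.r p) 1 * (W D X c)⁻¹) * (W D X c)⁻¹ =
        W D X c ^ 2 * U D X (s.r p) 1 * (W D X c ^ 2)⁻¹ by rw [pow_two]; group, W_sq_conj D hc, mul_one]
  have h3 := N.mono hl' (by rw [s.root_r hp]; exact hpos' p hpf) h2
  linear_combination (ε : Γ(X.left, ⊤)) * h3 + hε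

end NormalForm

/-- The opposite system. -/
def negSys : Sys2 D where
  a := neg' D s.a
  b := neg' D s.b
  pos := s.pos
  lam := -s.lam
  generic c := by simpa using s.generic c
  lam_a := by simpa [root_neg'] using s.lam_a
  lam_b := by simpa [root_neg'] using s.lam_b
  indep i j h := by
    rw [root_neg', root_neg'] at h
    obtain ⟨h1, h2⟩ := s.indep (-i) (-j) (by rw [← h]; module)
    exact ⟨by omega, by omega⟩
  isComb_iff i j := by
    have e : IsComb D.P (neg' D s.a) (neg' D s.b) i j ↔ IsComb D.P s.a s.b (-i) (-j) := by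
      unfold IsComb
      rw [root_neg', root_neg', show i • -D.P.root s.a + j • -D.P.root s.b =
        -i • D.P.root s.a + -j • D.P.root s.b by module]
    rw [e, s.isComb_iff]
    simp only [InSys, Prod.neg_mk, neg_neg, or_comm]

end Sys2

end Groth.Agent.Rank2Red38
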