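import Groth.Agent.Rank2Red38.SysB2
import Groth.Agent.Rank2Red38.AlgG2

/-! Systems of type G2. -/

set_option autoImplicit false

universe u

open CategoryTheory CategoryTheory.Limits AlgebraicGeometry MonoidalCategory CartesianMonoidalCategory
open scoped MonObj

noncomputable section

namespace Groth.Agent.Rank2Red38

open GrpSchLib

variable {S : Scheme.{u}} {G : Over S} [GrpObj G] {D : Red.SplitRed G}

/-- The positive roots of G2, the first root short. -/
abbrev posG2 : List (ℤ × ℤ) := [(1, 0), (0, 1), (1, 1), (2, 1), (3, 1), (3, 2)]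

theorem mul_congr {H : Type*} [Mul H] {a a' b b' : H} (h : a = a') (h' : b = b') : a * b = a' * b' := by
  rw [h, h']

namespace Frame

variable {s : Sys2 D} (fr : Frame s) (X : Over S)

/-- The subgroup of `2a + b`. -/
def g2 (x : Γ(X.left, ⊤)) : X ⟶ G := W D X fr.ca * fr.mSub X x * (W D X fr.ca)⁻¹

/-- The subgroup of `3a + b`. -/
def g3 (x : Γ(X.left, ⊤)) : X ⟶ G := W D X fr.ca * fr.V X (0, 1) (-x) * (W D X fr.ca)⁻¹

/-- The subgroup of `3a + 2b`. -/
def g4 (x : Γ(X.left, ⊤)) : X ⟶ G := W D X fr.cb * fr.g3 X x * (W D X fr.cb)⁻¹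

variable (N : HasNormalForm D) (hs : s.pos = posG2) (hba : D.P.pairing s.b s.a = -3)
  (hab : D.P.pairing s.a s.b = -1)
include N hs hba hab

set_option maxHeartbeats 1600000 in
theorem G2_data : ∃ κ : G2.Consts Γ(X.left, ⊤),
    G2.Data (fr.V X (1, 0)) (fr.V X (-1, 0)) (fr.V X (0, 1)) (fr.V X (0, -1)) (fr.mSub X) (fr.g2 X) (fr.g3 X)
      (fr.g4 X) κ := by
  have sa := s.side_a hba
  have sb := s.side_b hab
  have si := s.side_id
  have hin : ∀ p, p ∈ posG2 → InSys s.pos p := fun p hp => Or.inl (hs ▸ hp)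
  have hneg : ∀ p : ℤ × ℤ, -p ∈ posG2 → InSys s.pos p := fun p hp => Or.inr (hs ▸ hp)
  have hred : ∀ p, p ∈ posG2 → Red1 D (s.r p) := by
    intro p hp
    refine s.red1 (hin _ hp) ?_
    simp only [posG2, List.mem_cons, List.not_mem_nil, or_false] at hp
    rcases hp with rfl | rfl | rfl | rfl | rfl | rfl <;> rw [hs] <;> root_red
  have vb : ∀ i j : ℤ, D.P.reflection fr.cb (s.vec (i, j)) = s.vec (i, i - j) := fun i j => by
    rw [fr.refl_b]
    simp [Sys2.vec, RootPairing.reflection_apply_root, RootPairing.reflection_apply_self, hab]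
    module
  have va : ∀ i j : ℤ, D.P.reflection fr.ca (s.vec (i, j)) = s.vec (3 * j - i, j) := fun i j => by
    rw [fr.refl_a]
    simp [Sys2.vec, RootPairing.reflection_apply_root, RootPairing.reflection_apply_self, hba]
    module
  obtain ⟨k1, hu1, hk1⟩ := s.weyl_conj N fr.dual_b (p := (1, 0)) (q := (1, 1)) (hin _ (by decide))
    (hin _ (by decide)) (vb 1 0) si si (by decide) (by decide) (hred _ (by decide)) (hred _ (by decide))
  obtain ⟨k2, hu2, hk2⟩ := s.weyl_conj N fr.dual_a (p := (1, 1)) (q := (2, 1)) (hin _ (by decide))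
    (hin _ (by decide)) (va 1 1) si si (by decide) (by decide) (hred _ (by decide)) (hred _ (by decide))
  obtain ⟨k3, hu3, hk3⟩ := s.weyl_conj N fr.dual_a (p := (0, 1)) (q := (3, 1)) (hin _ (by decide))
    (hin _ (by decide)) (va 0 1) si si (by decide) (by decide) (hred _ (by decide)) (hred _ (by decide))
  obtain ⟨k4, hu4, hk4⟩ := s.weyl_conj N fr.dual_b (p := (3, 1)) (q := (3, 2)) (hin _ (by decide))
    (hin _ (by decide)) (vb 3 1) si si (by decide) (by decide) (hred _ (by decide)) (hred _ (by decide))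
  set σ : Γ(X.left, ⊤) := (fr.σ : Γ(X.left, ⊤)) with hσdef
  have hσ : σ * σ = 1 := fr.σ_mul X
  set K1 : Γ(X.left, ⊤) := glob X k1 * σ with hK1def
  set K2 : Γ(X.left, ⊤) := glob X k2 * K1 with hK2def
  set K3 : Γ(X.left, ⊤) := -(glob X k3 * σ) with hK3def
  set K4 : Γ(X.left, ⊤) := glob X k4 * K3 with hK4def
  have u1 : IsUnit K1 := (hu1 X).mul (fr.isUnit_σ X)
  have u2 : IsUnit K2 := (hu2 X).mul u1
  have u3 : IsUnit K3 := ((hu3 X).mul (fr.isUnit_σ X)).neg
  have u4 : IsUnit K4 := (hu4 X).mul u3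
  obtain ⟨J1, hJ1⟩ : ∃ J, J * K1 = 1 := u1.exists_left_inv
  obtain ⟨J2, hJ2⟩ : ∃ J, J * K2 = 1 := u2.exists_left_inv
  obtain ⟨J3, hJ3⟩ : ∃ J, J * K3 = 1 := u3.exists_left_inv
  obtain ⟨J4, hJ4⟩ : ∃ J, J * K4 = 1 := u4.exists_left_inv
  have hV : ∀ p x, fr.V X p x = s.V X p (σ * x) := fun p x => rfl
  have h1 : ∀ x, fr.mSub X x = s.V X (1, 1) (K1 * x) := fun x => by rw [mSub, Frame.V, hk1, hK1def, mul_assoc]
  have h2 : ∀ x, fr.g2 X x = s.V X (2, 1) (K2 * x) := fun x => by
    rw [g2, h1, hk2]; congr 1; simp only [hK2def, hK1def]; ring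
  have h3 : ∀ x, fr.g3 X x = s.V X (3, 1) (K3 * x) := fun x => by
    rw [g3, Frame.V, hk3, hK3def]; congr 1; ring
  have h4 : ∀ x, fr.g4 X x = s.V X (3, 2) (K4 * x) := fun x => by
    rw [g4, h3, hk4]; congr 1; simp only [hK4def, hK3def]; ring
  have cn := fun p q hp hq f (hf : s.Side f) hpf hqf hd hc => s.comm_nil N hf p q hp hq hpf hqf hd hc X
  obtain ⟨Cba, hCba⟩ := s.comm_form N si (1, 0) (0, 1) (hin _ (by decide)) (hin _ (by decide)) (by decide)
    (by decide) [(1, 1), (2, 1), (3, 1), (3, 2)] (fun m => (m.1.toNat, m.2.toNat)) (by simp [hs, InSys, Pos2])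
    (by decide) (by rw [hs]; root_comb) (by decide)
  obtain ⟨C1a, hC1a⟩ := s.comm_form N si (1, 0) (1, 1) (hin _ (by decide)) (hin _ (by decide)) (by decide)
    (by decide) [(2, 1), (3, 1), (3, 2)] (fun m => ((m.1 - m.2).toNat, m.2.toNat)) (by simp [hs, InSys, Pos2])
    (by decide) (by rw [hs]; root_comb) (by decide)
  obtain ⟨C2a, hC2a⟩ := s.comm_form N si (1, 0) (2, 1) (hin _ (by decide)) (hin _ (by decide)) (by decide)
    (by decide) [(3, 1)] (fun _ => (1, 1)) (by simp [hs, InSys, Pos2]) (by decide) (by rw [hs]; root_comb) (by decide)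
  obtain ⟨C3b, hC3b⟩ := s.comm_form N si (0, 1) (3, 1) (hin _ (by decide)) (hin _ (by decide)) (by decide)
    (by decide) [(3, 2)] (fun _ => (1, 1)) (by simp [hs, InSys, Pos2]) (by decide) (by rw [hs]; root_comb) (by decide)
  obtain ⟨C21, hC21⟩ := s.comm_form N si (1, 1) (2, 1) (hin _ (by decide)) (hin _ (by decide)) (by decide)
    (by decide) [(3, 2)] (fun _ => (1, 1)) (by simp [hs, InSys, Pos2]) (by decide) (by rw [hs]; root_comb) (by decide)
  obtain ⟨Cn1, n1, hCn1⟩ := s.conj_form N sb (1, 1) (0, -1) (hin _ (by decide)) (hneg _ (by decide))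
    (by decide) (by decide) [(1, 0), (1, 1), (2, 1), (3, 1), (3, 2)] (fun m => (m.1.toNat, (m.1 - m.2).toNat))
    (by simp [hs, InSys, Pos2]) (by decide) (by rw [hs]; root_comb) (by decide) (by decide)
  obtain ⟨Cn4, n4, hCn4⟩ := s.conj_form N sb (3, 2) (0, -1) (hin _ (by decide)) (hneg _ (by decide))
    (by decide) (by decide) [(3, 1), (3, 2)] (fun m => (1, (2 - m.2).toNat))
    (by simp [hs, InSys, Pos2]) (by decide) (by rw [hs]; root_comb) (by decide) (by decide)
  obtain ⟨Ca1, a1, hCa1⟩ := s.conj_form N sa (1, 1) (-1, 0) (hin _ (by decide)) (hneg _ (by decide))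
    (by decide) (by decide) [(0, 1), (1, 1)] (fun m => (1, (1 - m.1).toNat))
    (by simp [hs, InSys, Pos2]) (by decide) (by rw [hs]; root_comb) (by decide) (by decide)
  obtain ⟨Ca2, a2, hCa2⟩ := s.conj_form N sa (2, 1) (-1, 0) (hin _ (by decide)) (hneg _ (by decide))
    (by decide) (by decide) [(0, 1), (1, 1), (2, 1), (3, 2)] (fun m => (m.2.toNat, (2 * m.2 - m.1).toNat))
    (by simp [hs, InSys, Pos2]) (by decide) (by rw [hs]; root_comb) (by decide) (by decide)
  obtain ⟨Ca3, a3, hCa3⟩ := s.conj_form N sa (3, 1) (-1, 0) (hin _ (by decide)) (hneg _ (by decide))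
    (by decide) (by decide) [(0, 1), (1, 1), (2, 1), (3, 1), (3, 2)] (fun m => (m.2.toNat, (3 * m.2 - m.1).toNat))
    (by simp [hs, InSys, Pos2]) (by decide) (by rw [hs]; root_comb) (by decide) (by decide)
  simp [Sys2.prodV, n1, n4, a1, a2, a3, ← mul_assoc] at hCba hC1a hC2a hC3b hC21 hCn1 hCn4 hCa1 hCa2 hCa3
  refine ⟨{
    C1 := J1 * glob X (Cba (1, 1)), C2 := J2 * σ * glob X (Cba (2, 1)), C3 := J3 * glob X (Cba (3, 1))
    C4 := J4 * σ * glob X (Cba (3, 2)), G0 := J2 * σ * glob X (C1a (2, 1)) * K1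
    H := J3 * glob X (C1a (3, 1)) * K1, K := J4 * σ * glob X (C1a (3, 2)) * K1 ^ 2
    M := J3 * σ * glob X (C2a (3, 1)) * K2, L := J4 * σ * glob X (C3b (3, 2)) * K3
    N := J4 * glob X (C21 (3, 2)) * K1 * K2
    E := glob X (Cn1 (1, 0)) * K1, E2 := J2 * σ * glob X (Cn1 (2, 1)) * K1 ^ 2
    E3 := J3 * glob X (Cn1 (3, 1)) * K1 ^ 3, E4 := J4 * σ * glob X (Cn1 (3, 2)) * K1 ^ 3
    E5 := J3 * σ * glob X (Cn4 (3, 1)) * K4, e1 := glob X (Ca1 (0, 1)) * K1
    Q := σ * glob X (Ca2 (0, 1)) * K2, P := J1 * σ * glob X (Ca2 (1, 1)) * K2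
    T := J4 * σ * glob X (Ca2 (3, 2)) * K2 ^ 2, U := glob X (Ca3 (0, 1)) * K3
    V := J1 * glob X (Ca3 (1, 1)) * K3, Lq := J2 * σ * glob X (Ca3 (2, 1)) * K3
    W := J4 * σ * glob X (Ca3 (3, 2)) * K3 ^ 2 }, ?_⟩
  refine
    { ha := fr.V_oneParam X _
      hb := fr.V_oneParam X _
      h1 := ?_, h2 := ?_, h3 := ?_, h4 := ?_, def1 := ?_, def2 := ?_, def3 := ?_, def4 := ?_
      b1 := ?_, b2 := ?_, b4 := ?_, c13 := ?_, c14 := ?_, c23 := ?_, c24 := ?_, c34 := ?_, a3 := ?_, a4 := ?_
      a_nb := ?_, m2_nb := ?_, m3_nb := ?_, b_na := ?_, m4_na := ?_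
      b_a := ?_, m1_a := ?_, m2_a := ?_, m3_b := ?_, m2_m1 := ?_, nb_m1 := ?_, nb_m4 := ?_, na_m1 := ?_
      na_m2 := ?_, na_m3 := ?_, inj := ?_, inj' := ?_ }
  · intro x y; simp only [h1, mul_add]; exact s.V_oneParam X _ _ _
  · intro x y; simp only [h2, mul_add]; exact s.V_oneParam X _ _ _
  · intro x y; simp only [h3, mul_add]; exact s.V_oneParam X _ _ _
  · intro x y; simp only [h4, mul_add]; exact s.V_oneParam X _ _ _
  · intro x; exact congrArg (fun w => w * fr.V X (1, 0) x * w⁻¹) (fr.weyl_b X).symm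
  · intro x; exact congrArg (fun w => w * fr.mSub X x * w⁻¹) (fr.weyl_a X).symm
  · intro x; exact congrArg (fun w => w * fr.V X (0, 1) (-x) * w⁻¹) (fr.weyl_a X).symm
  · intro x; exact congrArg (fun w => w * fr.g3 X x * w⁻¹) (fr.weyl_b X).symm
  iterate 10
    intro x y
    simp only [hV, h1, h2, h3, h4]
    exact cn _ _ (hin _ (by decide)) (hin _ (by decide)) id si (by decide) (by decide) (by decide)
      (by rw [hs]; root_comb) _ _
  iterate 3
    intro x y
    simp only [hV, h1, h2, h3, h4]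
    exact cn _ _ (hin _ (by decide)) (hneg _ (by decide)) _ sb (by decide) (by decide) (by decide)
      (by rw [hs]; root_comb) _ _
  iterate 2
    intro x y
    simp only [hV, h1, h2, h3, h4]
    exact cn _ _ (hin _ (by decide)) (hneg _ (by decide)) _ sa (by decide) (by decide) (by decide)
      (by rw [hs]; root_comb) _ _
  iterate 10
    focus
      intro x
      try intro y
      simp only [G2.prod5, hV, h1, h2, h3, h4, mul_zero, (s.V_oneParam X _).zero, one_mul, mul_one]
      simp only [hCba, hC1a, hC2a, hC3b, hC21, hCn1, hCn4, hCa1, hCa2, hCa3]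
      try simp only [← mul_assoc (G := X ⟶ G)]
      repeat' apply mul_congr
      all_goals first
        | rfl
        | (refine congrArg (s.V X _) ?_
           have e1 : K1 * J1 = 1 := (mul_comm _ _).trans hJ1
           have e2 : K2 * J2 = 1 := (mul_comm _ _).trans hJ2
           have e3 : K3 * J3 = 1 := (mul_comm _ _).trans hJ3
           have e4 : K4 * J4 = 1 := (mul_comm _ _).trans hJ4
           simp only [← mul_assoc, e1, e2, e3, e4, one_mul]
           rcases Int.eq_one_or_neg_one_of_mul_eq_one fr.hσ with h | h <;>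
             · try simp only [hσdef, h, Int.cast_one, Int.cast_neg]
               ring)
  · intro x p q r t x' p' q' r' t' h
    simp only [G2.prod5, hV, h1, h2, h3, h4] at h
    have := s.inj N si [(0, 1), (1, 1), (2, 1), (3, 1), (3, 2)] (by simp [hs, InSys, Pos2]) (by decide) X
      (fun m => if m = (0, 1) then σ * x else if m = (1, 1) then K1 * p else if m = (2, 1) then K2 * q
        else if m = (3, 1) then K3 * r else K4 * t)
      (fun m => if m = (0, 1) then σ * x' else if m = (1, 1) then K1 * p' else if m = (2, 1) then K2 * q'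
        else if m = (3, 1) then K3 * r' else K4 * t')
      (by simpa [Sys2.prodV, ← mul_assoc (G := X ⟶ G)] using h)
    exact ⟨(fr.isUnit_σ X).mul_left_cancel (by simpa using this (0, 1) (by simp)),
      u1.mul_left_cancel (by simpa using this (1, 1) (by simp)),
      u2.mul_left_cancel (by simpa using this (2, 1) (by simp)),
      u3.mul_left_cancel (by simpa using this (3, 1) (by simp)),
      u4.mul_left_cancel (by simpa using this (3, 2) (by simp))⟩
  · intro x p q r t x' p' q' r' t' h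
    simp only [G2.prod5, hV, h1, h2, h3, h4, mul_zero, (s.V_oneParam X _).zero, one_mul] at h
    have := s.inj N si [(1, 0), (1, 1), (2, 1), (3, 1), (3, 2)] (by simp [hs, InSys, Pos2]) (by decide) X
      (fun m => if m = (1, 0) then σ * x else if m = (1, 1) then K1 * p else if m = (2, 1) then K2 * q
        else if m = (3, 1) then K3 * r else K4 * t)
      (fun m => if m = (1, 0) then σ * x' else if m = (1, 1) then K1 * p' else if m = (2, 1) then K2 * q'
        else if m = (3, 1) then K3 * r' else K4 * t')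
      (by simpa [Sys2.prodV, ← mul_assoc (G := X ⟶ G)] using h)
    exact ⟨(fr.isUnit_σ X).mul_left_cancel (by simpa using this (1, 0) (by simp)),
      u1.mul_left_cancel (by simpa using this (1, 1) (by simp)),
      u2.mul_left_cancel (by simpa using this (2, 1) (by simp)),
      u3.mul_left_cancel (by simpa using this (3, 1) (by simp)),
      u4.mul_left_cancel (by simpa using this (3, 2) (by simp))⟩

end Frame

end Groth.Agent.Rank2Red38
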