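import Groth.Agent.Rank2Red38.Chain

/-! Uniqueness of the representatives up to sign and their transport by the simple Weyl elements. -/

set_option autoImplicit false

universe u

open CategoryTheory CategoryTheory.Limits AlgebraicGeometry MonoidalCategory CartesianMonoidalCategory
open scoped MonObj Classical

noncomputable section

namespace Groth.Agent.Rank2Red38

open GrpSchLib

variable {S : Scheme.{u}} {G : Over S} [GrpObj G] {D : Red.Pinning G}
variable (hd : ∀ c ∈ D.base.support, IsDual D.toSplitRed c)

local notation "ht" => D.base.height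

theorem root_pm (s : Bool) (a : D.idx) : D.P.root (pm D s a) = (if s then (1 : ℤ) else -1) • D.P.root a := by
  cases s
  · simp [pm, show D.P.root (neg' D.toSplitRed a) = _ from root_neg' D.toSplitRed a]
  · simp [pm]

theorem rep_pm {a : D.idx} (ha : a ∈ D.base.support) (s : Bool) : Rep D (pm D s a) (Uf D (pm D s a)) := by
  refine .base ha ?_
  cases s
  · exact .inr rfl
  · exact .inl rfl

include hd

theorem TS_act {g h : Elt G} (hg : g⁻¹ * h ∈ TS D) {c : D.idx} {χ : Fam G} (hχ : Rep D c χ) :
    Sim (act g χ) (act h χ) := by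
  have e : act h χ = act g (act (g⁻¹ * h) χ) := by rw [← act_mul, mul_inv_cancel_left]
  rw [e]
  exact (((hχ.fix hd hg).act g)).symm

/-- The roots in the span of two simple roots, other than these and their opposites. -/
theorem span_cases {a b c : D.idx} (ha : a ∈ D.base.support) (hb : b ∈ D.base.support) (hne : a ≠ b)
    (hca : Off D a c) (hcb : Off D b c) (hspan : InSpan D a b c) :
    ∃ (s : Bool) (i j : ℤ), D.P.root c = ((if s then (1 : ℤ) else -1) * i) • D.P.root a +
        ((if s then (1 : ℤ) else -1) * j) • D.P.root b ∧ 0 < i ∧ 0 < j ∧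
      ((D.P.pairing b a = -1 ∧ D.P.pairing a b = -1 ∧ i = 1 ∧ j = 1) ∨
       (D.P.pairing b a = -2 ∧ D.P.pairing a b = -1 ∧ j = 1 ∧ (i = 1 ∨ i = 2)) ∨
       (D.P.pairing b a = -1 ∧ D.P.pairing a b = -2 ∧ i = 1 ∧ (j = 1 ∨ j = 2)) ∨
       (D.P.pairing b a = -3 ∧ D.P.pairing a b = -1 ∧ ((j = 1 ∧ (i = 1 ∨ i = 2 ∨ i = 3)) ∨ (i = 3 ∧ j = 2))) ∨
       (D.P.pairing b a = -1 ∧ D.P.pairing a b = -3 ∧ ((i = 1 ∧ (j = 1 ∨ j = 2 ∨ j = 3)) ∨ (j = 3 ∧ i = 2)))) := by
  obtain ⟨i, j, h⟩ := hspan
  have hc : IsComb D.P a b i j := ⟨c, h⟩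
  have hi : i ≠ 0 := by
    rintro rfl
    rcases hc.right_eq D.base hb with rfl | rfl
    · exact hcb.1 (eq_of_root_eq (by simpa using h))
    · refine hcb.2 (eq_of_root_eq ?_)
      rw [show D.P.root (neg' D.toSplitRed b) = _ from root_neg' D.toSplitRed b]; simpa using h
  have hj : j ≠ 0 := by
    rintro rfl
    rcases hc.left_eq D.base ha with rfl | rfl
    · exact hca.1 (eq_of_root_eq (by simpa using h))
    · refine hca.2 (eq_of_root_eq ?_)
      rw [show D.P.root (neg' D.toSplitRed a) = _ from root_neg' D.toSplitRed a]; simpa using h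
  have main : ∀ i j : ℤ, 0 < i → 0 < j → IsComb D.P a b i j →
      ((D.P.pairing b a = -1 ∧ D.P.pairing a b = -1 ∧ i = 1 ∧ j = 1) ∨
       (D.P.pairing b a = -2 ∧ D.P.pairing a b = -1 ∧ j = 1 ∧ (i = 1 ∨ i = 2)) ∨
       (D.P.pairing b a = -1 ∧ D.P.pairing a b = -2 ∧ i = 1 ∧ (j = 1 ∨ j = 2)) ∨
       (D.P.pairing b a = -3 ∧ D.P.pairing a b = -1 ∧ ((j = 1 ∧ (i = 1 ∨ i = 2 ∨ i = 3)) ∨ (i = 3 ∧ j = 2))) ∨
       (D.P.pairing b a = -1 ∧ D.P.pairing a b = -3 ∧ ((i = 1 ∧ (j = 1 ∨ j = 2 ∨ j = 3)) ∨ (j = 3 ∧ i = 2)))) := by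
    intro i j hi hj hc
    obtain ⟨m, hm, -⟩ := coxeter_mem hd ha hb hne
    rcases hm with ⟨e1, e2, -⟩ | ⟨e1, e2, -⟩ | ⟨e1, e2, -⟩ | ⟨e1, e2, -⟩ | ⟨e1, e2, -⟩ | ⟨e1, e2, -⟩
    · have := comb_A1A1 D.base ha hb hne hc e1; omega
    · have := comb_A2 D.base ha hb hne hi hj hc e1 e2; omega
    · have := comb_B2 D.base ha hb hne hi hj hc e1 e2; omega
    · have := comb_B2 D.base hb ha hne.symm hj hi hc.swap e2 e1; omega
    · have := comb_G2 D.base ha hb hne hi hj hc e1 e2; omega
    · have := comb_G2 D.base hb ha hne.symm hj hi hc.swap e2 e1; omega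
  rcases hc.sign D.base ha hb hne with ⟨h1, h2⟩ | ⟨h1, h2⟩
  · exact ⟨true, i, j, by simpa using h, by omega, by omega, main i j (by omega) (by omega) hc⟩
  · refine ⟨false, -i, -j, by simpa using h, by omega, by omega,
      main (-i) (-j) (by omega) (by omega) ⟨neg' D.toSplitRed c, ?_⟩⟩
    rw [show D.P.root (neg' D.toSplitRed c) = _ from root_neg' D.toSplitRed c, h]
    module

/-- Two descents inside the span happen only in type A2. -/
theorem span_two {a b c : D.idx} (ha : a ∈ D.base.support) (hb : b ∈ D.base.support) (hne : a ≠ b)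
    (hca : Off D a c) (hcb : Off D b c) (hpa : 0 < ht c * D.P.pairing c a) (hpb : 0 < ht c * D.P.pairing c b)
    (hspan : InSpan D a b c) :
    D.P.pairing b a = -1 ∧ D.P.pairing a b = -1 ∧ ∃ s,
      D.P.reflectionPerm a c = pm D s b ∧ D.P.reflectionPerm b c = pm D s a := by
  obtain ⟨s, i, j, h, hi, hj, hl⟩ := span_cases hd ha hb hne hca hcb hspan
  rw [root_lin_height ha hb h, root_lin_pairing h, RootPairing.pairing_same] at hpa
  rw [root_lin_height ha hb h, root_lin_pairing h, RootPairing.pairing_same] at hpb
  rcases hl with ⟨e1, e2, rfl, rfl⟩ | ⟨e1, e2, rfl, hl⟩ | ⟨e1, e2, rfl, hl⟩ | ⟨e1, e2, hl⟩ | ⟨e1, e2, hl⟩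
  · refine ⟨e1, e2, s, eq_of_root_eq ?_, eq_of_root_eq ?_⟩ <;>
      (rw [root_reflect, root_lin_pairing h, RootPairing.pairing_same, root_pm, h, ‹D.P.pairing _ _ = -1›]; cases s <;> simp)
  all_goals
    exfalso
    rw [e1] at hpa
    rw [e2] at hpb
  · rcases hl with rfl | rfl <;> cases s <;> simp at hpa hpb
  · rcases hl with rfl | rfl <;> cases s <;> simp at hpa hpb
  · rcases hl with ⟨rfl, rfl | rfl | rfl⟩ | ⟨rfl, rfl⟩ <;> cases s <;> simp at hpa hpb
  · rcases hl with ⟨rfl, rfl | rfl | rfl⟩ | ⟨rfl, rfl⟩ <;> cases s <;> simp at hpa hpb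

omit hd in
theorem simple_no_descent {a e c : D.idx} (ha : a ∈ D.base.support) (he : e ∈ D.base.support)
    (hc : c = e ∨ c = neg' D.toSplitRed e) (hoff : Off D a c) : ¬ 0 < ht c * D.P.pairing c a := by
  rcases hc with rfl | rfl
  · have h := pairing_simple_nonpos he ha (fun h => hoff.1 h)
    rw [RootPairing.Base.height_one_of_mem_support he]; omega
  · have h := pairing_simple_nonpos he ha (fun h => hoff.2 (by rw [h]))
    rw [height_neg', RootPairing.Base.height_one_of_mem_support he,
      show D.P.pairing (neg' D.toSplitRed e) a = _ from RootPairing.pairing_reflectionPerm_self_left D.P e a]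
    omega

/-- Representatives are unique up to sign. -/
theorem rep_unique {c : D.idx} {φ φ' : Fam G} (h1 : Rep D c φ) (h2 : Rep D c φ') : Sim φ φ' := by
  induction hn : (ht c).natAbs using Nat.strong_induction_on generalizing c φ φ' with
  | _ n ih =>
    cases h1 with
    | base ha hca =>
      cases h2 with
      | base hb hcb => exact Sim.rfl'
      | step hb hoff hp h => exact absurd hp (simple_no_descent hb ha hca hoff)
    | @step a _ ψ ha hca hpa hψ =>
      cases h2 with
      | base hb hcb => exact absurd hpa (simple_no_descent ha hb hcb hca)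
      | @step b _ ψ' hb hcb hpb hψ' =>
        have hlta : (ht (D.P.reflectionPerm a c)).natAbs < n := hn ▸ natAbs_height_reflect ha hca hpa
        have hltb : (ht (D.P.reflectionPerm b c)).natAbs < n := hn ▸ natAbs_height_reflect hb hcb hpb
        by_cases hne : a = b
        · subst hne
          exact (ih _ hlta hψ hψ' rfl).act _
        · by_cases hspan : InSpan D a b c
          · obtain ⟨e1, e2, s, ea, eb⟩ := span_two hd ha hb hne hca hcb hpa hpb hspan
            have ra : Rep D (D.P.reflectionPerm a c) (Uf D (pm D s b)) := by rw [ea]; exact rep_pm hb s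
            have rb : Rep D (D.P.reflectionPerm b c) (Uf D (pm D s a)) := by rw [eb]; exact rep_pm ha s
            have i1 := ih _ hlta hψ ra rfl
            have i2 := ih _ hltb hψ' rb rfl
            exact ((i1.act _).trans (span_A2 ha hb hne hd e1 e2 s)).trans (i2.act _).symm
          · obtain ⟨σ, hσ, hs⟩ := exists_sgn (D := D) c
            obtain ⟨m, hm, hmem⟩ := coxeter_mem hd ha hb hne
            have hx := (mul_pos_sgn hσ hs).mp hpa
            have hy := (mul_pos_sgn hσ hs).mp hpb
            obtain ⟨k, rfl⟩ : ∃ k, m = k + 1 := ⟨m - 1, by have := hm.m_cases; omega⟩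
            have hmb : IsType (D.P.pairing a b) (D.P.pairing b a) (k + 1) := hm.swap
            obtain ⟨-, -, A3, A4, -⟩ := chain_rep (k + 1) ha hb c hσ hs hspan (hm.desc hx hy)
            obtain ⟨-, -, B3, B4, -⟩ := chain_rep (k + 1) hb ha c hσ hs (fun h => hspan h.swap) (hmb.desc hy hx)
            have hend : endR D a b (k + 1) c = endR D b a (k + 1) c := eq_of_root_eq (by
              rw [A4, B4, hm.coef_swap]
              simp only [Prod.fst_swap, Prod.snd_swap]
              abel)
            have oa := off_of_not_inSpan hspan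
            have ob := off_of_not_inSpan (fun h => hspan h.swap : ¬InSpan D b a c)
            have ex : σ * D.P.pairing (D.P.reflectionPerm a c) b =
                σ * D.P.pairing c b - σ * D.P.pairing c a * D.P.pairing a b := by rw [pairing_reflect]; ring
            have ey : σ * D.P.pairing (D.P.reflectionPerm a c) a = -(σ * D.P.pairing c a) := by
              rw [pairing_reflect, RootPairing.pairing_same]; ring
            have ex' : σ * D.P.pairing (D.P.reflectionPerm b c) a =
                σ * D.P.pairing c a - σ * D.P.pairing c b * D.P.pairing b a := by rw [pairing_reflect]; ring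
            have ey' : σ * D.P.pairing (D.P.reflectionPerm b c) b = -(σ * D.P.pairing c b) := by
              rw [pairing_reflect, RootPairing.pairing_same]; ring
            obtain ⟨-, -, A', -, -⟩ := chain_rep k hb ha (D.P.reflectionPerm a c) hσ (sgn_reflect hσ ha oa hs)
              (fun h => hspan h.swap.of_reflect) (by rw [ex, ey]; exact (hm.desc hx hy).2)
            obtain ⟨-, -, B', -, -⟩ := chain_rep k ha hb (D.P.reflectionPerm b c) hσ (sgn_reflect hσ hb ob hs)
              (fun h => hspan h.swap.of_reflect.swap) (by rw [ex', ey']; exact (hmb.desc hy hx).2)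
            obtain ⟨χ, hχ⟩ := exists_rep (D := D) (endR D a b (k + 1) c)
            have i1 := (ih _ hlta hψ (A' χ hχ) rfl).act (Wf D a)
            have i2 := (ih _ hltb hψ' (B' χ (hend ▸ hχ)) rfl).act (Wf D b)
            rw [← act_mul] at i1 i2
            exact (i1.trans (TS_act hd hmem hχ)).trans i2.symm

omit hd in
theorem W_conj_one {a : D.idx} (hda : IsDual D.toSplitRed a) (X : Over S) :
    W D.toSplitRed X a * U D.toSplitRed X a 1 * (W D.toSplitRed X a)⁻¹ =
      U D.toSplitRed X (neg' D.toSplitRed a) (-1) := by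
  have h := W_eq_neg D.toSplitRed (X := X) hda
  have hu := U_oneParam D.toSplitRed (X := X) a
  have hnu := U_oneParam D.toSplitRed (X := X) (neg' D.toSplitRed a)
  simp only [weylElt, hu.neg, inv_inv] at h
  rw [mul_inv_eq_iff_eq_mul]
  conv_rhs => rw [W, weylElt]
  conv_lhs => rw [h]
  rw [hnu.neg]
  group

theorem act_self_eq {a : D.idx} (ha : a ∈ D.base.support) (X : Over S) (x : Γ(X.left, ⊤)) :
    act (Wf D a) (Uf D a) X x = Uf D (neg' D.toSplitRed a) X (-x) := by
  obtain ⟨k, -, e⟩ := exists_scalar hd ha a
  have h1 := congrFun (congrFun e X) 1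
  have h2 := congrFun (congrFun e X) x
  simp only [act, Wf, Uf, Uk, mul_one] at h1 h2 ⊢
  rw [W_conj_one (hd a ha)] at h1
  obtain ⟨lam, hl, hp⟩ : ∃ lam : Module.Dual ℤ D.M, IsGeneric D.toSplitRed lam ∧
      0 < lam (D.P.root (neg' D.toSplitRed a)) := by
    refine ⟨-twoRho D, fun e he => isGeneric_twoRho D e (by simpa using he), ?_⟩
    rw [show D.P.root (neg' D.toSplitRed a) = _ from root_neg' D.toSplitRed a]
    simp [twoRho_root D ha]
  have h3 := (hasNormalForm D.toSplitRed).mono hl hp h1
  rw [h2]
  change U D.toSplitRed X (neg' D.toSplitRed a) (glob X k * x) = _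
  rw [show glob X k = -1 from h3.symm, neg_one_mul]

theorem act_self {a : D.idx} (ha : a ∈ D.base.support) :
    Sim (act (Wf D a) (Uf D a)) (Uf D (neg' D.toSplitRed a)) :=
  sim_of_neg (act_self_eq hd ha)

theorem act_self' {a : D.idx} (ha : a ∈ D.base.support) :
    Sim (act (Wf D a) (Uf D (neg' D.toSplitRed a))) (Uf D a) := by
  refine ((act_self hd ha).symm.act _).trans ?_
  rw [← act_mul, Wf_sq (hd a ha)]
  exact (Rep.base ha (.inl rfl) : Rep D a _).fix hd (Zf_mem a)

theorem act_orth_eq {a b c : D.idx} (ha : a ∈ D.base.support) (hb : b ∈ D.base.support) (hne : a ≠ b)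
    (hba : D.P.pairing b a = 0) (hc : c = b ∨ c = neg' D.toSplitRed b) (X : Over S) (x : Γ(X.left, ⊤)) :
    act (Wf D a) (Uf D c) X x = Uf D c X x := by
  have key : ∀ (e : D.idx), (e = a ∨ e = neg' D.toSplitRed a) → ∀ (X : Over S) (x y : Γ(X.left, ⊤)),
      Commute (U D.toSplitRed X e x) (U D.toSplitRed X c y) := by
    intro e he X x y
    obtain ⟨i, hi, he⟩ : ∃ i : ℤ, (i = 1 ∨ i = -1) ∧ D.P.root e = i • D.P.root a := by
      rcases he with rfl | rfl
      · exact ⟨1, .inl rfl, by simp⟩
      · exact ⟨-1, .inr rfl, by rw [show D.P.root (neg' D.toSplitRed a) = _ from root_neg' D.toSplitRed a]; simp⟩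
    obtain ⟨j, hj, hc⟩ : ∃ j : ℤ, (j = 1 ∨ j = -1) ∧ D.P.root c = j • D.P.root b := by
      rcases hc with rfl | rfl
      · exact ⟨1, .inl rfl, by simp⟩
      · exact ⟨-1, .inr rfl, by rw [show D.P.root (neg' D.toSplitRed b) = _ from root_neg' D.toSplitRed b]; simp⟩
    refine U_comm_of_sum_not_root ?_ ?_ X x y
    · show D.P.root e + D.P.root c ≠ 0
      rw [he, hc]; intro h
      have := indep_of_simple ha hb hne i j h
      omega
    · show D.P.root e + D.P.root c ∉ Set.range D.P.root
      rw [he, hc]; intro h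
      rcases comb_A1A1 D.base ha hb hne h hba with h' | h' <;> omega
  have h1 : Commute (U D.toSplitRed X a 1) (Uf D c X x) := key a (.inl rfl) X 1 x
  have h2 : Commute (U D.toSplitRed X (neg' D.toSplitRed a) 1) (Uf D c X x) := key _ (.inr rfl) X 1 x
  have h3 : Commute (W D.toSplitRed X a) (Uf D c X x) := (h1.mul_left h2.inv_left).mul_left h1
  exact mul_inv_eq_iff_eq_mul.mpr h3

theorem act_orth {a b c : D.idx} (ha : a ∈ D.base.support) (hb : b ∈ D.base.support) (hne : a ≠ b)
    (hba : D.P.pairing b a = 0) (hc : c = b ∨ c = neg' D.toSplitRed b) :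
    Sim (act (Wf D a) (Uf D c)) (Uf D c) :=
  sim_of_eq (act_orth_eq hd ha hb hne hba hc)

omit hd in
theorem reflect_eq_of_root {a c d : D.idx} (h : D.P.root c - D.P.pairing c a • D.P.root a = D.P.root d) :
    D.P.reflectionPerm a c = d := eq_of_root_eq (by rw [root_reflect, h])

/-- A root in the span, fixed by one simple reflection and moved down by the other. -/
theorem span_fix {a b c : D.idx} (ha : a ∈ D.base.support) (hb : b ∈ D.base.support) (hne : a ≠ b)
    (hca : Off D a c) (hcb : Off D b c) (hz : D.P.pairing c a = 0) (hpb : 0 < ht c * D.P.pairing c b)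
    (hspan : InSpan D a b c) : ∃ φ, Rep D c φ ∧ Sim (act (Wf D a) φ) φ := by
  obtain ⟨s, i, j, h, hi, hj, hl⟩ := span_cases hd ha hb hne hca hcb hspan
  have hz' := hz
  have hp' := hpb
  rw [root_lin_pairing h, RootPairing.pairing_same] at hz'
  rw [root_lin_height ha hb h, root_lin_pairing h, RootPairing.pairing_same] at hp'
  rcases hl with ⟨e1, e2, rfl, rfl⟩ | ⟨e1, e2, rfl, hl⟩ | ⟨e1, e2, rfl, hl⟩ | ⟨e1, e2, hl⟩ | ⟨e1, e2, hl⟩
  all_goals
    rw [e1] at hz'
    rw [e2] at hp'
  · exfalso; cases s <;> simp at hz' hp'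
  · rcases hl with rfl | rfl
    · have e : D.P.reflectionPerm b c = pm D s a := reflect_eq_of_root (by
        rw [root_lin_pairing h, RootPairing.pairing_same, e2, h, root_pm]; cases s <;> simp)
      exact ⟨_, .step hb hcb hpb (by rw [e]; exact rep_pm ha s), (span_B2 ha hb hne hd e1 e2 s).1⟩
    · exfalso; cases s <;> simp at hz' hp'
  · rcases hl with rfl | rfl
    · exfalso; cases s <;> simp at hz' hp'
    · have e : D.P.reflectionPerm b c = pm D s a := reflect_eq_of_root (by
        rw [root_lin_pairing h, RootPairing.pairing_same, e2, h, root_pm]; cases s <;> simp)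
      exact ⟨_, .step hb hcb hpb (by rw [e]; exact rep_pm ha s), (span_B2 hb ha hne.symm hd e2 e1 s).2⟩
  all_goals
    set d := D.P.reflectionPerm b c with hd'
    have hdroot : D.P.root d = _ := root_reflect b c
    rw [root_lin_pairing h, RootPairing.pairing_same, e2, h] at hdroot
  · rcases hl with ⟨rfl, rfl | rfl | rfl⟩ | ⟨rfl, rfl⟩
    rotate_right
    · have hd2 : D.P.root d = ((if s then (1 : ℤ) else -1) * 3) • D.P.root a +
          ((if s then (1 : ℤ) else -1) * 1) • D.P.root b := by rw [hdroot]; cases s <;> simp <;> module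
      have e : D.P.reflectionPerm a d = pm D s b := reflect_eq_of_root (by
        rw [root_lin_pairing hd2, RootPairing.pairing_same, e1, hd2, root_pm]; cases s <;> simp)
      have ho : Off D a d := ⟨fun q => by
          rw [q] at hd2
          have := indep_of_simple ha hb hne (((if s then (1 : ℤ) else -1) * 3) - 1) ((if s then (1 : ℤ) else -1) * 1)
            (by linear_combination (norm := module) -hd2)
          cases s <;> simp at this, fun q => by
          rw [q, show D.P.root (neg' D.toSplitRed a) = _ from root_neg' D.toSplitRed a] at hd2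
          have := indep_of_simple ha hb hne (((if s then (1 : ℤ) else -1) * 3) + 1) ((if s then (1 : ℤ) else -1) * 1)
            (by linear_combination (norm := module) -hd2)
          cases s <;> simp at this⟩
      refine ⟨_, .step hb hcb hpb (.step ha ho ?_ (by rw [e]; exact rep_pm hb s)), (span_G2 ha hb hne hd e1 e2 s).2⟩
      rw [root_lin_height ha hb hd2, root_lin_pairing hd2, RootPairing.pairing_same, e1]
      cases s <;> simp
    all_goals (exfalso; cases s <;> simp at hz' hp')
  · rcases hl with ⟨rfl, rfl | rfl | rfl⟩ | ⟨rfl, rfl⟩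
    rotate_left
    · have hd2 : D.P.root d = ((if s then (1 : ℤ) else -1) * 1) • D.P.root a +
          ((if s then (1 : ℤ) else -1) * 1) • D.P.root b := by rw [hdroot]; cases s <;> simp <;> module
      have e : D.P.reflectionPerm a d = pm D s b := reflect_eq_of_root (by
        rw [root_lin_pairing hd2, RootPairing.pairing_same, e1, hd2, root_pm]; cases s <;> simp)
      have ho : Off D a d := ⟨fun q => by
          rw [q] at hd2
          have := indep_of_simple ha hb hne (((if s then (1 : ℤ) else -1) * 1) - 1) ((if s then (1 : ℤ) else -1) * 1)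
            (by linear_combination (norm := module) -hd2)
          cases s <;> simp at this, fun q => by
          rw [q, show D.P.root (neg' D.toSplitRed a) = _ from root_neg' D.toSplitRed a] at hd2
          have := indep_of_simple ha hb hne (((if s then (1 : ℤ) else -1) * 1) + 1) ((if s then (1 : ℤ) else -1) * 1)
            (by linear_combination (norm := module) -hd2)
          cases s <;> simp at this⟩
      refine ⟨_, .step hb hcb hpb (.step ha ho ?_ (by rw [e]; exact rep_pm hb s)), (span_G2 hb ha hne.symm hd e2 e1 s).1⟩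
      rw [root_lin_height ha hb hd2, root_lin_pairing hd2, RootPairing.pairing_same, e1]
      cases s <;> simp
    all_goals (exfalso; cases s <;> simp at hz' hp')

/-- Simple Weyl elements move representatives to representatives, up to sign. -/
theorem rep_act {a c : D.idx} (ha : a ∈ D.base.support) {φ ψ : Fam G} (h : Rep D c φ)
    (h' : Rep D (D.P.reflectionPerm a c) ψ) : Sim (act (Wf D a) φ) ψ := by
  induction hn : (ht c).natAbs using Nat.strong_induction_on generalizing a c φ ψ with
  | _ n ih =>
    by_cases h1 : c = a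
    · subst h1
      refine (((rep_unique hd h (.base ha (.inl rfl))).act _).trans (act_self hd ha)).trans ?_
      exact rep_unique hd (Rep.base ha (.inr rfl)) h'
    by_cases h2 : c = neg' D.toSplitRed a
    · subst h2
      have e : D.P.reflectionPerm a (neg' D.toSplitRed a) = a := RootPairing.reflectionPerm_self _ _ _
      rw [e] at h'
      refine (((rep_unique hd h (.base ha (.inr rfl))).act _).trans (act_self' hd ha)).trans ?_
      exact rep_unique hd (Rep.base ha (.inl rfl)) h'
    have hoff : Off D a c := ⟨h1, h2⟩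
    rcases lt_trichotomy (ht c * D.P.pairing c a) 0 with hp | hp | hp
    · obtain ⟨σ, hσ, hs⟩ := exists_sgn (D := D) c
      refine rep_unique hd (Rep.step ha ⟨fun q => h2 ?_, fun q => h1 ?_⟩ ?_
        (by rw [RootPairing.reflectionPerm_self]; exact h)) h'
      · exact (D.P.reflectionPerm a).injective (q.trans (RootPairing.reflectionPerm_self D.P a a).symm)
      · exact (D.P.reflectionPerm a).injective q
      · rw [mul_pos_sgn hσ (sgn_reflect hσ ha hoff hs), pairing_reflect, RootPairing.pairing_same]
        rcases hσ with rfl | rfl <;> nlinarith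
    · have hz : D.P.pairing c a = 0 := (mul_eq_zero.mp hp).resolve_left (D.base.height_ne_zero c)
      have hfix := reflect_fix hz
      rw [hfix] at h'
      by_cases hs : ∃ b ∈ D.base.support, ¬ Off D b c
      · obtain ⟨b, hb, hcb⟩ := hs
        rw [Off, not_and_or, not_not, not_not] at hcb
        have hne : a ≠ b := by
          rintro rfl
          rcases hcb with rfl | rfl
          · exact h1 rfl
          · exact h2 rfl
        have hba : D.P.pairing b a = 0 := by
          rcases hcb with rfl | rfl
          · exact hz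
          · rwa [show D.P.pairing (neg' D.toSplitRed b) a = _ from RootPairing.pairing_reflectionPerm_self_left D.P b a,
              neg_eq_zero] at hz
        refine (((rep_unique hd h (.base hb hcb)).act _).trans (act_orth hd ha hb hne hba hcb)).trans ?_
        exact rep_unique hd (Rep.base hb hcb) h'
      · push_neg at hs
        obtain ⟨b, hb, hpb⟩ := exists_descent hs
        have hne : a ≠ b := by rintro rfl; omega
        by_cases hspan : InSpan D a b c
        · obtain ⟨φ₀, r0, e0⟩ := span_fix hd ha hb hne hoff (hs b hb) hz hpb hspan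
          exact (((rep_unique hd h r0).act _).trans e0).trans (rep_unique hd r0 h')
        · obtain ⟨σ, hσ, hsg⟩ := exists_sgn (D := D) c
          have hy := (mul_pos_sgn hσ hsg).mp hpb
          obtain ⟨m, hm, hmem⟩ := coxeter_mem hd ha hb hne
          obtain ⟨k, rfl⟩ : ∃ k, m = k + 1 := ⟨m - 1, by have := hm.m_cases; omega⟩
          obtain ⟨d1, d2⟩ := hm.desc_zero hy
          rw [Nat.add_sub_cancel] at d1 d2
          have hx0 : σ * D.P.pairing c a = 0 := by rw [hz, mul_zero]
          obtain ⟨B1, -, B3, -, B5⟩ := chain_rep k hb ha c hσ hsg (fun h => hspan h.swap) (by rw [hx0]; exact d1)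
          rw [hx0, d2] at B5
          set e := if k % 2 = 0 then b else a with he
          have hez : D.P.pairing (endR D b a k c) e = 0 :=
            (mul_eq_zero.mp B5).resolve_left (by rcases hσ with rfl | rfl <;> decide)
          have hes : e ∈ D.base.support := by rw [he]; split_ifs <;> assumption
          obtain ⟨χ, hχ⟩ := exists_rep (D := D) (endR D b a k c)
          have hk : 0 < k := by have := hm.m_cases; omega
          have iχ := ih _ (by omega) hes hχ (by rw [reflect_fix hez]; exact hχ) rfl
          have r0 := B3 χ hχ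
          refine ((rep_unique hd h r0).act _).trans ?_
          rw [← act_mul]
          refine (TS_act hd (g := alt (Wf D a) (Wf D b) (k + 1)) hmem hχ).trans ?_
          rw [alt_succ_last, act_mul, show (if k % 2 = 0 then Wf D b else Wf D a) = Wf D e from (apply_ite _ _ _ _).symm]
          exact (iχ.act _).trans (rep_unique hd r0 h')
    · obtain ⟨χ, hχ⟩ := exists_rep (D := D) (D.P.reflectionPerm a c)
      refine ((rep_unique hd h (.step ha hoff hp hχ)).act _).trans ?_
      rw [← act_mul, Wf_sq (hd a ha)]
      exact (hχ.fix hd (Zf_mem a)).trans (rep_unique hd hχ h')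

end Groth.Agent.Rank2Red38
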